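import Mathlib.GroupTheory.GroupAction.Quotient
import Mathlib.GroupTheory.GroupAction.FixedPoints
import Cfsg.Agent.H13.Perm

set_option autoImplicit false

namespace Cfsg.Agent.H13

variable {G Ω : Type*} [Group G] [MulAction G Ω]

/-- Burnside with `Nat.card`. -/
theorem sum_card_fixedBy [Fintype G] [Finite Ω] :
    ∑ g : G, Nat.card (MulAction.fixedBy Ω g) =
      Nat.card (MulAction.orbitRel.Quotient G Ω) * Nat.card G := by
  classical
  have : Fintype Ω := Fintype.ofFinite Ω
  have : Fintype (MulAction.orbitRel.Quotient G Ω) := Fintype.ofFinite _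
  have h := MulAction.sum_card_fixedBy_eq_card_orbits_mul_card_group G Ω
  simp only [Nat.card_eq_fintype_card]
  exact h

theorem sum_card_fixedBy_of_pretransitive [Fintype G] [Finite Ω] [Nonempty Ω]
    [MulAction.IsPretransitive G Ω] :
    ∑ g : G, Nat.card (MulAction.fixedBy Ω g) = Nat.card G := by
  rw [sum_card_fixedBy]
  have h1 : Subsingleton (MulAction.orbitRel.Quotient G Ω) :=
    (MulAction.pretransitive_iff_subsingleton_quotient G Ω).mp inferInstance
  obtain ⟨ω⟩ := ‹Nonempty Ω›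
  have h2 : Nonempty (MulAction.orbitRel.Quotient G Ω) := ⟨Quotient.mk'' ω⟩
  have h3 : Nat.card (MulAction.orbitRel.Quotient G Ω) = 1 := Nat.card_eq_one_iff_unique.mpr ⟨h1, h2⟩
  rw [h3, one_mul]

theorem card_fixedBy_prod (g : G) :
    Nat.card (MulAction.fixedBy (Ω × Ω) g) = Nat.card (MulAction.fixedBy Ω g) ^ 2 := by
  rw [pow_two, ← Nat.card_prod]
  refine Nat.card_congr
    { toFun := fun x => (⟨x.1.1, congrArg Prod.fst x.2⟩, ⟨x.1.2, congrArg Prod.snd x.2⟩)
      invFun := fun x => ⟨(x.1.1, x.2.1), Prod.ext x.1.2 x.2.2⟩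
      left_inv := fun x => rfl
      right_inv := fun x => rfl }

theorem sum_card_fixedBy_sq [Fintype G] [Finite Ω] :
    ∑ g : G, Nat.card (MulAction.fixedBy Ω g) ^ 2 =
      Nat.card (MulAction.orbitRel.Quotient G (Ω × Ω)) * Nat.card G := by
  rw [← sum_card_fixedBy]
  exact Finset.sum_congr rfl (fun g _ => (card_fixedBy_prod g).symm)

theorem two_le_rank [Finite Ω] (h : 2 ≤ Nat.card Ω) :
    2 ≤ Nat.card (MulAction.orbitRel.Quotient G (Ω × Ω)) := by
  have h1 : Nontrivial Ω := Finite.one_lt_card_iff_nontrivial.mp h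
  obtain ⟨a, b, hab⟩ := exists_pair_ne Ω
  have : Nontrivial (MulAction.orbitRel.Quotient G (Ω × Ω)) := by
    refine ⟨Quotient.mk'' (a, a), Quotient.mk'' (a, b), ?_⟩
    intro h
    have h2 : (MulAction.orbitRel G (Ω × Ω)) (a, a) (a, b) := Quotient.exact h
    obtain ⟨g, hg⟩ := h2
    have h3 : g • a = a := congrArg Prod.fst hg
    have h4 : g • b = a := congrArg Prod.snd hg
    exact hab (smul_left_cancel g (h3.trans h4.symm))
  exact Finite.one_lt_card_iff_nontrivial.mpr this

end Cfsg.Agent.H13
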