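import Mathlib
import Cfsg.Agent.H2.Frat
import Cfsg.Agent.H23.PGroup2

/-!
# Abelian p-groups generated by two elements
-/

set_option autoImplicit false
set_option linter.all false

namespace Cfsg.Agent.H13.AbH

variable {p : ℕ} [hp : Fact p.Prime]

theorem two_gen {P : Type*} [Group P] [Finite P] (hP : IsPGroup p P) (h : (frattini P).index ≤ p ^ 2) :
    ∃ x y : P, Subgroup.closure {x, y} = ⊤ := by
  by_contra hcon
  push Not at hcon
  have h1 : ∃ x : P, x ∉ frattini P := by
    by_contra h2
    push Not at h2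
    apply hcon 1 1
    apply Cfsg.Agent.H2.eq_top_of_sup_frattini
    rw [eq_top_iff]
    exact fun z _ => (le_sup_right : frattini P ≤ _) (h2 z)
  obtain ⟨x, hx⟩ := h1
  have h2 : ∃ y : P, y ∉ Subgroup.zpowers x ⊔ frattini P := by
    by_contra h3
    push Not at h3
    apply hcon x x
    apply Cfsg.Agent.H2.eq_top_of_sup_frattini
    rw [eq_top_iff]
    intro z _
    have h4 : Subgroup.zpowers x ≤ Subgroup.closure {x, x} := by
      rw [Subgroup.zpowers_le]; exact Subgroup.subset_closure (by simp)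
    exact (sup_le_sup_right h4 _) (h3 z)
  obtain ⟨y, hy⟩ := h2
  have h3 : ∃ z : P, z ∉ Subgroup.closure {x, y} ⊔ frattini P := by
    by_contra h3
    push Not at h3
    exact hcon x y (Cfsg.Agent.H2.eq_top_of_sup_frattini (by rw [eq_top_iff]; exact fun z _ => h3 z))
  obtain ⟨z, hz⟩ := h3
  have hxc : Subgroup.zpowers x ≤ Subgroup.closure {x, y} := by
    rw [Subgroup.zpowers_le]; exact Subgroup.subset_closure (by simp)
  have l1 : frattini P < Subgroup.zpowers x ⊔ frattini P :=
    lt_of_le_of_ne le_sup_right fun he => hx (by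
      rw [he]; exact (le_sup_left : Subgroup.zpowers x ≤ _) (Subgroup.mem_zpowers x))
  have l2 : Subgroup.zpowers x ⊔ frattini P < Subgroup.closure {x, y} ⊔ frattini P :=
    lt_of_le_of_ne (sup_le_sup_right hxc _) fun he => hy (by
      rw [he]; exact (le_sup_left : Subgroup.closure {x, y} ≤ _) (Subgroup.subset_closure (by simp)))
  have l3 : Subgroup.closure {x, y} ⊔ frattini P < ⊤ :=
    lt_of_le_of_ne le_top fun he => hz (by rw [he]; exact Subgroup.mem_top _)
  have c1 := Cfsg.Agent.H23.mul_card_le_of_lt (hP.to_subgroup _) l1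
  have c2 := Cfsg.Agent.H23.mul_card_le_of_lt (hP.to_subgroup _) l2
  have c3 := Cfsg.Agent.H23.mul_card_le_of_lt (hP.to_subgroup _) l3
  have c4 := Subgroup.card_mul_index (frattini P)
  rw [Subgroup.card_top] at c3
  have hpos : 0 < Nat.card (frattini P) := Nat.card_pos
  have hp2 := hp.out.two_le
  have c5 : p * (p * (p * Nat.card (frattini P))) ≤ Nat.card (frattini P) * p ^ 2 :=
    calc _ ≤ p * (p * Nat.card (Subgroup.zpowers x ⊔ frattini P : Subgroup P)) := by gcongr
      _ ≤ p * Nat.card (Subgroup.closure {x, y} ⊔ frattini P : Subgroup P) := by gcongr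
      _ ≤ Nat.card P := c3
      _ = Nat.card (frattini P) * (frattini P).index := c4.symm
      _ ≤ _ := by gcongr
  have c6 : p * (p * (p * Nat.card (frattini P))) = (Nat.card (frattini P) * p ^ 2) * p := by ring
  rw [c6] at c5
  have : 0 < Nat.card (frattini P) * p ^ 2 := by positivity
  nlinarith

theorem card_map_mul {G H : Type*} [Group G] [Group H] [Finite G] (f : G →* H) (A : Subgroup G) :
    Nat.card (A.map f) * Nat.card (A ⊓ f.ker : Subgroup G) = Nat.card A := by
  have h1 := Subgroup.card_mul_index (f.comp A.subtype).ker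
  rw [Subgroup.index_ker] at h1
  have h2 : (f.comp A.subtype).range = A.map f := by
    rw [MonoidHom.range_eq_map, ← Subgroup.map_map, ← MonoidHom.range_eq_map, Subgroup.range_subtype]
  have h3 : (f.comp A.subtype).ker.map A.subtype = A ⊓ f.ker := by
    ext x
    constructor
    · rintro ⟨y, hy, rfl⟩
      exact ⟨y.2, hy⟩
    · rintro ⟨hx, hx'⟩
      exact ⟨⟨x, hx⟩, hx', rfl⟩
  rw [h2] at h1
  rw [← h3, Subgroup.card_map_of_injective A.subtype_injective, mul_comm]
  exact h1

theorem card_map_step {G H : Type*} [Group G] [Group H] [Finite G] (f : G →* H) {A B : Subgroup G}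
    (hAB : A ≤ B) {n : ℕ} (h : Nat.card B ≤ n * Nat.card A) :
    Nat.card (B.map f) ≤ n * Nat.card (A.map f) := by
  have h1 := card_map_mul f A
  have h2 := card_map_mul f B
  have h3 : Nat.card (A ⊓ f.ker : Subgroup G) ≤ Nat.card (B ⊓ f.ker : Subgroup G) :=
    Subgroup.card_le_of_le (inf_le_inf_right _ hAB)
  have h4 : 0 < Nat.card (B ⊓ f.ker : Subgroup G) := Nat.card_pos
  refine Nat.le_of_mul_le_mul_right ?_ h4
  calc _ = Nat.card B := h2
    _ ≤ n * Nat.card A := h
    _ = n * (Nat.card (A.map f) * Nat.card (A ⊓ f.ker : Subgroup G)) := by rw [h1]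
    _ ≤ n * (Nat.card (A.map f) * Nat.card (B ⊓ f.ker : Subgroup G)) := by gcongr
    _ = _ := by ring

theorem surj_hom {D : Type*} [CommGroup D] {x y : D} (h : Subgroup.closure {x, y} = ⊤) {N : ℕ}
    (hN : ∀ z : D, z ^ N = 1) :
    ∃ f : Multiplicative (ZMod N × ZMod N) →* D, Function.Surjective f := by
  have hz : ∀ z : D, (zmultiplesHom (Additive D) (Additive.ofMul z)) (N : ℤ) = 0 := by
    intro z
    rw [zmultiplesHom_apply]
    show ((N : ℤ) • Additive.ofMul z) = 0
    rw [natCast_zsmul, ← ofMul_pow, hN]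
    rfl
  let g : ZMod N × ZMod N →+ Additive D :=
    (ZMod.lift N ⟨zmultiplesHom (Additive D) (Additive.ofMul x), hz x⟩).coprod
      (ZMod.lift N ⟨zmultiplesHom (Additive D) (Additive.ofMul y), hz y⟩)
  refine ⟨AddMonoidHom.toMultiplicativeLeft g, ?_⟩
  rw [← MonoidHom.range_eq_top, eq_top_iff, ← h, Subgroup.closure_le]
  rintro z (rfl | hz')
  · refine ⟨Multiplicative.ofAdd (1, 0), ?_⟩
    show (g (1, 0)).toMul = z
    have h1 : g (1, 0) = Additive.ofMul z := by
      rw [AddMonoidHom.coprod_apply, map_zero, add_zero]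
      have : (1 : ZMod N) = ((1 : ℤ) : ZMod N) := by simp
      rw [this, ZMod.lift_coe]
      simp
    rw [h1]; rfl
  · rw [Set.mem_singleton_iff] at hz'
    subst hz'
    refine ⟨Multiplicative.ofAdd (0, 1), ?_⟩
    show (g (0, 1)).toMul = z
    have h1 : g (0, 1) = Additive.ofMul z := by
      rw [AddMonoidHom.coprod_apply, map_zero, zero_add]
      have : (1 : ZMod N) = ((1 : ℤ) : ZMod N) := by simp
      rw [this, ZMod.lift_coe]
      simp
    rw [h1]; rfl

theorem card_zz (N : ℕ) : Nat.card (Multiplicative (ZMod N × ZMod N)) = N * N := by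
  rw [Nat.card_congr Multiplicative.toAdd, Nat.card_prod, Nat.card_zmod]

section

variable {C : Type*} [CommGroup C] [Finite C]

theorem chain_of_M (a : ℕ) (ha : ∀ z : C, z ^ p ^ a = 1) (M : Subgroup C)
    (hM1 : (powMonoidHom p : C →* C).range ≤ M) (hMc : ∀ α : MulAut C, ∀ x ∈ M, α x ∈ M)
    (h1 : Nat.card C ≤ p * Nat.card M)
    (h2 : Nat.card M ≤ p * Nat.card (powMonoidHom p : C →* C).range) :
    ∃ (V : ℕ → Subgroup C) (n : ℕ), V 0 = ⊥ ∧ V n = ⊤ ∧ (∀ j, V j ≤ V (j + 1)) ∧
      (∀ j, ∀ α : MulAut C, ∀ x ∈ V j, α x ∈ V j) ∧ ∀ j, Nat.card (V (j + 1)) ≤ p * Nat.card (V j) := by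
  have hp1 : 1 ≤ p := hp.out.one_le
  let e : ℕ → (C →* C) := fun i => powMonoidHom (p ^ i)
  have he : ∀ i z, e i z = z ^ p ^ i := fun _ _ => rfl
  let W : ℕ → Subgroup C := fun k => (if k % 2 = 0 then ⊤ else M).map (e (k / 2))
  have hWe : ∀ i, W (2 * i) = (⊤ : Subgroup C).map (e i) := by
    intro i
    show (if (2 * i) % 2 = 0 then ⊤ else M).map (e ((2 * i) / 2)) = _
    rw [if_pos (by omega), Nat.mul_div_cancel_left _ (by norm_num)]
  have hWo : ∀ i, W (2 * i + 1) = M.map (e i) := by
    intro i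
    show (if (2 * i + 1) % 2 = 0 then ⊤ else M).map (e ((2 * i + 1) / 2)) = _
    rw [if_neg (by omega)]
    congr 2
    omega
  have hWs : ∀ i, W (2 * i + 2) = ((powMonoidHom p : C →* C).range).map (e i) := by
    intro i
    have : 2 * i + 2 = 2 * (i + 1) := by ring
    rw [this, hWe, MonoidHom.range_eq_map, Subgroup.map_map]
    congr 1
    ext z
    rw [MonoidHom.comp_apply, he, he, powMonoidHom_apply, ← pow_mul, pow_succ']
  have hstep : ∀ k, W (k + 1) ≤ W k ∧ Nat.card (W k) ≤ p * Nat.card (W (k + 1)) := by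
    intro k
    rcases Nat.even_or_odd' k with ⟨i, rfl | rfl⟩
    · rw [hWe, hWo]
      exact ⟨Subgroup.map_mono le_top, card_map_step _ le_top (by rw [Subgroup.card_top]; exact h1)⟩
    · rw [hWo, show 2 * i + 1 + 1 = 2 * i + 2 by ring, hWs]
      exact ⟨Subgroup.map_mono hM1, card_map_step _ hM1 h2⟩
  have hchar : ∀ k, ∀ α : MulAut C, ∀ x ∈ W k, α x ∈ W k := by
    rintro k α _ ⟨y, hy, rfl⟩
    refine ⟨α y, ?_, ?_⟩
    · show α y ∈ ((if k % 2 = 0 then ⊤ else M : Subgroup C) : Set C)
      have hy' : y ∈ ((if k % 2 = 0 then ⊤ else M : Subgroup C) : Set C) := hy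
      split_ifs at hy' ⊢
      · trivial
      · exact hMc α y hy'
    · rw [he, he, map_pow]
  have hbot : W (2 * a) = ⊥ := by
    rw [hWe, eq_bot_iff]
    rintro _ ⟨y, -, rfl⟩
    rw [Subgroup.mem_bot, he, ha]
  have htop : W 0 = ⊤ := by
    have := hWe 0
    rw [mul_zero] at this
    rw [this, eq_top_iff]
    intro z _
    exact ⟨z, trivial, by rw [he, pow_zero, pow_one]⟩
  refine ⟨fun j => W (2 * a - j), 2 * a, ?_, ?_, ?_, fun j => hchar _, ?_⟩
  · show W (2 * a - 0) = ⊥
    rw [Nat.sub_zero]; exact hbot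
  · show W (2 * a - 2 * a) = ⊤
    rw [Nat.sub_self]; exact htop
  · intro j
    show W (2 * a - j) ≤ W (2 * a - (j + 1))
    by_cases hj : j < 2 * a
    · have : 2 * a - j = (2 * a - (j + 1)) + 1 := by omega
      rw [this]; exact (hstep _).1
    · have h3 : 2 * a - j = 0 := by omega
      have h4 : 2 * a - (j + 1) = 0 := by omega
      rw [h3, h4]
  · intro j
    show Nat.card (W (2 * a - (j + 1))) ≤ p * Nat.card (W (2 * a - j))
    by_cases hj : j < 2 * a
    · have : 2 * a - j = (2 * a - (j + 1)) + 1 := by omega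
      rw [this]; exact (hstep _).2
    · have h3 : 2 * a - j = 0 := by omega
      have h4 : 2 * a - (j + 1) = 0 := by omega
      rw [h3, h4]
      exact Nat.le_mul_of_pos_left _ hp1

theorem homocyclic_or_chain (hC : IsPGroup p C) {x y : C} (hxy : Subgroup.closure {x, y} = ⊤) :
    (∃ (V : ℕ → Subgroup C) (n : ℕ), V 0 = ⊥ ∧ V n = ⊤ ∧ (∀ j, V j ≤ V (j + 1)) ∧
      (∀ j, ∀ α : MulAut C, ∀ x ∈ V j, α x ∈ V j) ∧ ∀ j, Nat.card (V (j + 1)) ≤ p * Nat.card (V j)) ∨
    (∃ a, 1 ≤ a ∧ (∀ z : C, z ^ p ^ a = 1) ∧ Nonempty (C ≃* Multiplicative (ZMod (p ^ a) × ZMod (p ^ a))) ∧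
      (∀ z : C, z ^ p ^ (a - 1) = 1 → z ∈ (powMonoidHom p : C →* C).range) ∧
      ((powMonoidHom p : C →* C).range).index = p ^ 2) := by
  classical
  have hpp := hp.out
  set A₁ := (powMonoidHom p : C →* C).range with hA₁
  have hex : ∃ a, ∀ z : C, z ^ p ^ a = 1 := by
    obtain ⟨n, hn⟩ := IsPGroup.iff_card.1 hC
    exact ⟨n, fun z => by rw [← hn]; exact pow_card_eq_one'⟩
  let a := Nat.find hex
  have ha : ∀ z : C, z ^ p ^ a = 1 := Nat.find_spec hex
  have hmin : ∀ b < a, ¬ ∀ z : C, z ^ p ^ b = 1 := fun b hb => Nat.find_min hex hb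
  have hA₁c : ∀ α : MulAut C, ∀ x ∈ A₁, α x ∈ A₁ := by
    rintro α _ ⟨z, rfl⟩
    exact ⟨α z, by rw [powMonoidHom_apply, powMonoidHom_apply, map_pow]⟩
  -- index of A₁ at most p ^ 2
  have hidx : A₁.index ≤ p ^ 2 := by
    have h1 : Subgroup.closure {(QuotientGroup.mk' A₁ x), (QuotientGroup.mk' A₁ y)} = ⊤ := by
      have h2 : (Subgroup.closure {x, y}).map (QuotientGroup.mk' A₁) = ⊤ := by
        rw [hxy, ← MonoidHom.range_eq_map, MonoidHom.range_eq_top]
        exact QuotientGroup.mk'_surjective _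
      rw [MonoidHom.map_closure, Set.image_pair] at h2
      exact h2
    obtain ⟨f, hf⟩ := surj_hom (N := p) h1 (by
      intro z
      obtain ⟨w, rfl⟩ := QuotientGroup.mk'_surjective A₁ z
      rw [← map_pow, ← MonoidHom.mem_ker, QuotientGroup.ker_mk']
      exact ⟨w, rfl⟩)
    have h3 := Nat.card_le_card_of_surjective f hf
    rw [card_zz] at h3
    rw [pow_two]
    exact h3
  have hcd := Subgroup.card_mul_index A₁
  by_cases hi : A₁.index ≤ p
  · left
    refine chain_of_M a ha A₁ le_rfl hA₁c ?_ (Nat.le_mul_of_pos_left _ hpp.pos)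
    rw [← hcd, mul_comm]; gcongr
  · push Not at hi
    -- a ≥ 1
    have ha1 : 1 ≤ a := by
      by_contra h
      have h0 : a = 0 := by omega
      rw [h0] at ha
      have h2 : Nat.card C = 1 := by
        rw [Nat.card_eq_one_iff_unique]
        refine ⟨⟨fun u v => ?_⟩, ⟨1⟩⟩
        have h3 := ha u
        have h4 := ha v
        rw [pow_zero, pow_one] at h3 h4
        rw [h3, h4]
      rw [h2] at hcd
      have := Nat.eq_one_of_mul_eq_one_left hcd
      have := hpp.one_lt
      omega
    have hidx2 : A₁.index = p ^ 2 := by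
      obtain ⟨n, hn⟩ := IsPGroup.iff_card.1 hC
      have hd : A₁.index ∣ p ^ n := by rw [← hn]; exact Subgroup.index_dvd_card _
      obtain ⟨k, -, hk⟩ := (Nat.dvd_prime_pow hpp).1 hd
      rw [hk] at hi hidx ⊢
      have h1 : 1 < k := by
        by_contra hk1
        have : p ^ k ≤ p ^ 1 := Nat.pow_le_pow_right hpp.pos (by omega)
        rw [pow_one] at this
        omega
      have h2 : k ≤ 2 := (Nat.pow_le_pow_iff_right hpp.one_lt).1 hidx
      congr 1
      omega
    by_cases hB : (powMonoidHom (p ^ (a - 1)) : C →* C).ker ≤ A₁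
    · right
      refine ⟨a, ha1, ha, ?_, fun z hz => hB hz, hidx2⟩
      -- cardinality
      have hcard : ∀ i, i ≤ a → p ^ (2 * (a - i)) ≤ Nat.card ((⊤ : Subgroup C).map (powMonoidHom (p ^ i) : C →* C)) := by
        have hlast : Nat.card ((⊤ : Subgroup C).map (powMonoidHom (p ^ (a - 1)) : C →* C)) = p ^ 2 := by
          have hker : (powMonoidHom (p ^ (a - 1)) : C →* C).ker = A₁ := by
            apply le_antisymm hB
            rintro _ ⟨z, rfl⟩
            rw [MonoidHom.mem_ker, powMonoidHom_apply, powMonoidHom_apply, ← pow_mul, ← pow_succ',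
              Nat.sub_add_cancel ha1]
            exact ha z
          rw [← MonoidHom.range_eq_map, ← Subgroup.index_ker, hker, hidx2]
        have key : ∀ d, ∀ i, i + d = a → p ^ (2 * (a - i)) ≤ Nat.card ((⊤ : Subgroup C).map (powMonoidHom (p ^ i) : C →* C)) := by
          intro d
          induction d with
          | zero =>
            intro i hi'
            have : a - i = 0 := by omega
            rw [this]
            exact Nat.card_pos
          | succ d ih =>
            intro i hi'
            have h1 := ih (i + 1) (by omega)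
            let f : C →* C := powMonoidHom (p ^ (a - 1 - i))
            have h2 := card_map_mul f ((⊤ : Subgroup C).map (powMonoidHom (p ^ i) : C →* C))
            have h3 : ((⊤ : Subgroup C).map (powMonoidHom (p ^ i) : C →* C)).map f =
                (⊤ : Subgroup C).map (powMonoidHom (p ^ (a - 1)) : C →* C) := by
              rw [Subgroup.map_map]
              congr 1
              ext z
              show (z ^ p ^ i) ^ p ^ (a - 1 - i) = z ^ p ^ (a - 1)
              rw [← pow_mul, ← pow_add]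
              congr 2
              omega
            have h4 : (⊤ : Subgroup C).map (powMonoidHom (p ^ (i + 1)) : C →* C) ≤
                ((⊤ : Subgroup C).map (powMonoidHom (p ^ i) : C →* C)) ⊓ f.ker := by
              rintro _ ⟨z, -, rfl⟩
              refine ⟨⟨z ^ p, trivial, ?_⟩, ?_⟩
              · show (z ^ p) ^ p ^ i = z ^ p ^ (i + 1)
                rw [← pow_mul, pow_succ']
              · refine MonoidHom.mem_ker.2 ?_
                show (z ^ p ^ (i + 1)) ^ p ^ (a - 1 - i) = 1
                rw [← pow_mul, ← pow_add]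
                have : i + 1 + (a - 1 - i) = a := by omega
                rw [this]; exact ha z
            rw [h3, hlast] at h2
            rw [← h2]
            have h5 : 2 * (a - i) = 2 + 2 * (a - (i + 1)) := by omega
            rw [h5, pow_add]
            exact Nat.mul_le_mul_left _ (h1.trans (Subgroup.card_le_of_le h4))
        intro i hi'
        exact key (a - i) i (by omega)
      have hC2 : p ^ (2 * a) ≤ Nat.card C := by
        have h1 := hcard 0 (Nat.zero_le _)
        rw [Nat.sub_zero] at h1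
        refine h1.trans ?_
        have := Subgroup.card_le_card_group ((⊤ : Subgroup C).map (powMonoidHom (p ^ 0) : C →* C))
        exact this
      obtain ⟨f, hf⟩ := surj_hom hxy (N := p ^ a) ha
      haveI : NeZero (p ^ a) := ⟨(pow_pos hpp.pos a).ne'⟩
      haveI : Finite (Multiplicative (ZMod (p ^ a) × ZMod (p ^ a))) := inferInstance
      have hbij := hf.bijective_of_nat_card_le (by
        rw [card_zz, ← pow_add, ← two_mul]; exact hC2)
      exact ⟨(MulEquiv.ofBijective f hbij).symm⟩
    · left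
      set B := (powMonoidHom (p ^ (a - 1)) : C →* C).ker with hBdef
      have hBc : ∀ α : MulAut C, ∀ x ∈ B, α x ∈ B := by
        intro α x hx
        rw [hBdef, MonoidHom.mem_ker, powMonoidHom_apply] at hx ⊢
        rw [← map_pow, hx, map_one]
      have hMc : ∀ α : MulAut C, ∀ x ∈ A₁ ⊔ B, α x ∈ A₁ ⊔ B := by
        intro α x hx
        obtain ⟨u, hu, v, hv, rfl⟩ := Subgroup.mem_sup.1 hx
        rw [map_mul]
        exact Subgroup.mul_mem_sup (hA₁c α u hu) (hBc α v hv)
      have l1 : A₁ < A₁ ⊔ B := lt_of_le_of_ne le_sup_left fun he => hB (by rw [he]; exact le_sup_right)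
      have l2 : A₁ ⊔ B < ⊤ := by
        refine lt_of_le_of_ne le_top fun he => ?_
        have h1 : B = ⊤ := by
          apply Cfsg.Agent.H2.eq_top_of_sup_frattini
          rw [eq_top_iff, ← he]
          refine sup_le ?_ le_sup_left
          rintro _ ⟨z, rfl⟩
          exact (le_sup_right : frattini C ≤ _) (Cfsg.Agent.H2.pow_mem_frattini hC z)
        refine hmin (a - 1) (by omega) fun z => ?_
        have : z ∈ B := by rw [h1]; exact Subgroup.mem_top _
        exact this
      have c1 := Cfsg.Agent.H23.mul_card_le_of_lt (hC.to_subgroup _) l1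
      have c2 := Cfsg.Agent.H23.mul_card_le_of_lt (hC.to_subgroup _) l2
      rw [Subgroup.card_top] at c2
      rw [hidx2] at hcd
      refine chain_of_M a ha (A₁ ⊔ B) le_sup_left hMc ?_ ?_
      · rw [← hcd]
        have : Nat.card A₁ * p ^ 2 = p * (p * Nat.card A₁) := by ring
        rw [this]; gcongr
      · refine Nat.le_of_mul_le_mul_left ?_ hpp.pos
        refine c2.trans ?_
        rw [← hcd]
        exact le_of_eq (by ring)

end

end Cfsg.Agent.H13.AbH
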