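import Mathlib
import Cfsg.Agent.H13.FusCtl2
import Cfsg.Agent.H23.PGroup2

/-!
# Essential subgroups have no characteristic chain with small steps
-/

set_option autoImplicit false
set_option linter.all false
open Cfsg Cfsg.FusionSystem

namespace Cfsg.Agent.H13

open Cfsg.Agent.H28

section

variable {p : ℕ} [hp : Fact p.Prime]

theorem section_central {K : Type*} [Group K] [Finite K] (hK : IsPGroup p K) {A B : Subgroup K}
    (hA : A.Normal) (hB : B.Normal) (hAB : A ≤ B) (hc : Nat.card B ≤ p * Nat.card A) {s x : K}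
    (hx : x ∈ B) : x⁻¹ * (s * x * s⁻¹) ∈ A := by
  have h1 : Nat.card (B.map (QuotientGroup.mk' A)) ≤ p := by
    have h2 : A.relIndex B = Nat.card (B.map (QuotientGroup.mk' A)) := by
      conv_lhs => rw [← QuotientGroup.ker_mk' A]
      exact Subgroup.relIndex_ker _ _
    have h3 := Subgroup.card_mul_index (A.subgroupOf B)
    rw [Nat.card_congr (Subgroup.subgroupOfEquivOfLe hAB).toEquiv] at h3
    have h4 : (A.subgroupOf B).index = A.relIndex B := rfl
    rw [h4, h2] at h3
    rw [← h3, mul_comm p] at hc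
    exact Nat.le_of_mul_le_mul_left hc Nat.card_pos
  haveI : (B.map (QuotientGroup.mk' A)).Normal := hB.map _ (QuotientGroup.mk'_surjective _)
  have h2 := Cfsg.Agent.H23.le_center_of_card_le (hK.to_quotient A) (Z := B.map (QuotientGroup.mk' A)) h1
  have h3 := Subgroup.mem_center_iff.1 (h2 ⟨x, hx, rfl⟩) (QuotientGroup.mk' A s)
  rw [← QuotientGroup.ker_mk' A, MonoidHom.mem_ker, map_mul, map_mul, map_mul, map_inv, map_inv, h3]
  group

end

variable {Ω : Type*} [Group Ω] {S : Subgroup Ω} {F : FusionSystem S} {p : ℕ} [Fact p.Prime] [Finite S]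
  {P Q : Subgroup Ω}

theorem essential_false_of_steps (hS : IsPGroup p S) (hF : F.IsSaturated p)
    (hP : F.IsEssential p P) (V : ℕ → Subgroup P) (n : ℕ) (h0 : V 0 = ⊥) (hn : V n = ⊤)
    (hmono : ∀ j, V j ≤ V (j + 1)) (hchar : ∀ j, ∀ α : MulAut P, ∀ x ∈ V j, α x ∈ V j)
    (hcard : ∀ j, Nat.card (V (j + 1)) ≤ p * Nat.card (V j)) : False := by
  have hPS := hP.1.1
  haveI : Finite P := finite_of_le hPS
  refine essential_false_of_chain hS hF hP (D₁ := P) le_rfl ?_ (fun j => (V j).map P.subtype) n ?_ ?_ ?_ ?_ ?_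
  · intro α _ _ h
    apply mulAut_ext
    intro x hx
    rw [h x hx, autFun_one hx]
  · rw [h0, Subgroup.map_bot]
  · show P ≤ (V n).map P.subtype
    rw [hn, ← MonoidHom.range_eq_map, Subgroup.range_subtype]
  · intro j
    exact Subgroup.map_subtype_le _
  · rintro j α hα _ ⟨x, hx, rfl⟩
    refine ⟨α x, hchar j α x hx, ?_⟩
    exact (autFun_coe α x).symm
  · rintro s hs hsN j _ ⟨x, hx, rfl⟩
    -- work in K = N_S(P)
    let K : Subgroup Ω := normalizerIn S P
    have hKS : K ≤ S := fun y hy => hy.1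
    have hPK : P ≤ K := fun y hy => ⟨hPS hy, Subgroup.le_normalizer hy⟩
    haveI : Finite K := finite_of_le hKS
    have hKp : IsPGroup p K := isPGroup_of_le hS hKS
    have hnorm : ∀ j, (((V j).map P.subtype).subgroupOf K).Normal := by
      intro j
      refine ⟨?_⟩
      rintro ⟨y, hy⟩ hyV ⟨g, hg⟩
      rw [Subgroup.mem_subgroupOf] at hyV ⊢
      obtain ⟨z, hz, hzy⟩ := hyV
      have hzy' : (z : Ω) = y := hzy
      refine ⟨conjAut P g hg.2 z, hchar j _ z hz, ?_⟩
      show ((conjAut P g hg.2 z : P) : Ω) = g * y * g⁻¹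
      rw [← hzy', ← autFun_coe, autFun_conjAut hg.2 z.2]
    have hcd : ∀ j, Nat.card (((V j).map P.subtype).subgroupOf K) = Nat.card (V j) := by
      intro j
      rw [Nat.card_congr (Subgroup.subgroupOfEquivOfLe ((Subgroup.map_subtype_le _).trans hPK)).toEquiv,
        Subgroup.card_map_of_injective P.subtype_injective]
    have h1 := section_central (p := p) hKp (hnorm j) (hnorm (j + 1))
      (Subgroup.comap_mono (Subgroup.map_mono (hmono j)))
      (by rw [hcd, hcd]; exact hcard j) (s := ⟨s, hs, hsN⟩) (x := ⟨x, hPK x.2⟩)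
      (by rw [Subgroup.mem_subgroupOf]; exact ⟨x, hx, rfl⟩)
    rw [Subgroup.mem_subgroupOf] at h1
    exact h1

theorem essential_false_two (hS : IsPGroup p S) (hF : F.IsSaturated p)
    (hP : F.IsEssential p P) (A B : Subgroup P) (hAB : A ≤ B)
    (hA : ∀ α : MulAut P, ∀ x ∈ A, α x ∈ A) (hB : ∀ α : MulAut P, ∀ x ∈ B, α x ∈ B)
    (hcA : Nat.card A ≤ p) (hcB : Nat.card B ≤ p * Nat.card A) (hcP : Nat.card P ≤ p * Nat.card B) : False := by
  have hp1 : 1 ≤ p := (Fact.out : p.Prime).one_le
  haveI : Finite P := finite_of_le hP.1.1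
  let V : ℕ → Subgroup P := fun j => match j with
    | 0 => ⊥
    | 1 => A
    | 2 => B
    | _ => ⊤
  refine essential_false_of_steps hS hF hP V 3 rfl rfl ?_ ?_ ?_
  · intro j
    match j with
    | 0 => exact bot_le
    | 1 => exact hAB
    | 2 => exact le_top
    | (n + 3) => exact le_top
  · intro j α x hx
    match j with
    | 0 =>
      have hx' : x ∈ (⊥ : Subgroup P) := hx
      rw [Subgroup.mem_bot] at hx'
      subst hx'
      show α 1 ∈ (⊥ : Subgroup P)
      rw [map_one]; exact one_mem _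
    | 1 => exact hA α x hx
    | 2 => exact hB α x hx
    | (n + 3) => exact Subgroup.mem_top _
  · intro j
    match j with
    | 0 =>
      show Nat.card A ≤ p * Nat.card (⊥ : Subgroup P)
      rw [Subgroup.card_bot, mul_one]; exact hcA
    | 1 => exact hcB
    | 2 =>
      show Nat.card (⊤ : Subgroup P) ≤ p * Nat.card B
      rw [Subgroup.card_top]; exact hcP
    | (n + 3) =>
      show Nat.card (⊤ : Subgroup P) ≤ p * Nat.card (⊤ : Subgroup P)
      exact Nat.le_mul_of_pos_left _ hp1

/-- group of order p^3 in which x ↦ x^p is a nontrivial homomorphism -/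
theorem essential_false_pow (hS : IsPGroup p S) (hF : F.IsSaturated p)
    (hP : F.IsEssential p P) (hc : Nat.card P = p ^ 3) (hpow : ∀ x y : P, (x * y) ^ p = x ^ p * y ^ p)
    {x₀ : P} (hx₀ : x₀ ^ p ≠ 1) : False := by
  have hpp : p.Prime := Fact.out
  haveI : Finite P := finite_of_le hP.1.1
  let f : P →* P := { toFun := fun x => x ^ p, map_one' := one_pow _, map_mul' := hpow }
  have hf : ∀ x, f x = x ^ p := fun _ => rfl
  have hcR : Nat.card f.range * Nat.card f.ker = p ^ 3 := by
    rw [← hc, mul_comm, ← Subgroup.index_ker f]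
    exact Subgroup.card_mul_index _
  have hR : ∀ α : MulAut P, ∀ x ∈ f.range, α x ∈ f.range := by
    rintro α _ ⟨y, rfl⟩
    exact ⟨α y, by rw [hf, hf, map_pow]⟩
  have hK : ∀ α : MulAut P, ∀ x ∈ f.ker, α x ∈ f.ker := by
    intro α x hx
    rw [MonoidHom.mem_ker, hf] at hx ⊢
    rw [← map_pow, hx, map_one]
  obtain ⟨k, hk, hRk⟩ := (Nat.dvd_prime_pow hpp).1 (Dvd.intro _ hcR)
  rw [hRk] at hcR
  have hKk : Nat.card f.ker = p ^ (3 - k) := by
    have : p ^ 3 = p ^ k * p ^ (3 - k) := by rw [← pow_add]; congr 1; omega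
    rw [this] at hcR
    exact Nat.eq_of_mul_eq_mul_left (pow_pos hpp.pos k) hcR
  have hPp : IsPGroup p P := IsPGroup.of_card hc
  interval_cases k
  · -- range trivial
    rw [pow_zero] at hRk
    have := (Subgroup.card_eq_one.1 hRk)
    apply hx₀
    have h2 : f x₀ ∈ f.range := ⟨x₀, rfl⟩
    rw [this, Subgroup.mem_bot] at h2
    exact h2
  · rw [pow_one] at hRk
    refine essential_false_two hS hF hP f.range f.ker ?_ hR hK hRk.le ?_ ?_
    · intro y hy
      rw [MonoidHom.mem_ker, hf]
      have h3 : (⟨y, hy⟩ : f.range) ^ Nat.card f.range = 1 := pow_card_eq_one'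
      rw [hRk] at h3
      exact congrArg Subtype.val h3
    · rw [hKk, hRk]; exact le_of_eq (by ring)
    · rw [hKk, hc]; exact le_of_eq (by ring)
  · -- ker of order p inside the range
    have hKp : Nat.card f.ker = p := by rw [hKk]; norm_num
    refine essential_false_two hS hF hP f.ker f.range ?_ hK hR hKp.le ?_ ?_
    · have h1 : p ∣ Nat.card f.range := by rw [hRk]; exact dvd_pow_self p two_ne_zero
      obtain ⟨z, hz⟩ := exists_prime_orderOf_dvd_card' p h1
      have hz1 : (z : P) ∈ f.ker := by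
        rw [MonoidHom.mem_ker, hf]
        have h4 := pow_orderOf_eq_one z
        rw [hz] at h4
        exact congrArg Subtype.val h4
      have h5 : Subgroup.zpowers (z : P) = f.ker := by
        apply Subgroup.eq_of_le_of_card_ge (by rw [Subgroup.zpowers_le]; exact hz1)
        rw [hKp, Nat.card_zpowers, Subgroup.orderOf_coe, hz]
      rw [← h5, Subgroup.zpowers_le]
      exact z.2
    · rw [hKp, hRk]; exact le_of_eq (by ring)
    · rw [hRk, hc]; exact le_of_eq (by ring)
  · have hKp : Nat.card f.ker = 1 := by rw [hKk]; norm_num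
    have h1 : p ∣ Nat.card P := by rw [hc]; exact dvd_pow_self p (by norm_num)
    obtain ⟨z, hz⟩ := exists_prime_orderOf_dvd_card' p h1
    have hz1 : z ∈ f.ker := by
      rw [MonoidHom.mem_ker, hf, ← hz]; exact pow_orderOf_eq_one z
    rw [Subgroup.card_eq_one.1 hKp, Subgroup.mem_bot] at hz1
    rw [hz1, orderOf_one] at hz
    exact hpp.one_lt.ne hz

end Cfsg.Agent.H13
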