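import Mathlib

/-!
# Two unipotent automorphisms of an elementary abelian group of order `p²`
-/

set_option autoImplicit false
set_option linter.all false

namespace Cfsg.Agent.H13.Rk2

section
variable {W : Type*} [Group W] {p : ℕ} [hp : Fact p.Prime]

theorem pw_add {w : W} (hw : w ^ p = 1) (i j : ZMod p) : w ^ (i + j).val = w ^ i.val * w ^ j.val := by
  rw [ZMod.val_add, ← pow_eq_pow_mod _ hw, pow_add]

theorem pw_mul {w : W} (hw : w ^ p = 1) (i j : ZMod p) : w ^ (i * j).val = (w ^ i.val) ^ j.val := by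
  rw [ZMod.val_mul, ← pow_eq_pow_mod _ hw, pow_mul]

/-- fixed points of a `p`-automorphism on an invariant subgroup of order divisible by `p` -/
theorem exists_fixed' [Finite W] {x : MulAut W} {m : ℕ} (hx : x ^ p ^ m = 1) (V : Subgroup W) (hV : ∀ v ∈ V, x v ∈ V)
    (hd : p ∣ Nat.card V) : ∃ v ∈ V, v ≠ 1 ∧ x v = v := by
  classical
  have hV' : ∀ n : ℕ, ∀ v ∈ V, (x ^ n) v ∈ V := by
    intro n
    induction n with
    | zero => intro v hv; simpa using hv
    | succ n ih =>
      intro v hv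
      rw [pow_succ', MulAut.mul_apply]
      exact hV _ (ih v hv)
  have hxz : IsPGroup p (Subgroup.zpowers x) := by
    rw [IsPGroup.iff_card]
    rw [Nat.card_zpowers]
    obtain ⟨k, -, hk⟩ := (Nat.dvd_prime_pow hp.out).1 (show orderOf x ∣ p ^ m from orderOf_dvd_of_pow_eq_one hx)
    exact ⟨k, hk⟩
  have hfin : IsOfFinOrder x := isOfFinOrder_iff_pow_eq_one.2 ⟨p ^ m, pow_pos hp.out.pos m, hx⟩
  have hV2 : ∀ g ∈ Subgroup.zpowers x, ∀ v ∈ V, g v ∈ V := by
    intro g hg v hv
    obtain ⟨n, rfl⟩ := hfin.mem_powers_iff_mem_zpowers.2 hg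
    exact hV' n v hv
  letI : MulAction (Subgroup.zpowers x) V :=
    { smul := fun g v => ⟨(g : MulAut W) v, hV2 g g.2 v v.2⟩
      one_smul := fun v => rfl
      mul_smul := fun g h v => rfl }
  have hfix : (1 : V) ∈ MulAction.fixedPoints (Subgroup.zpowers x) V := by
    intro g
    exact Subtype.ext (map_one _)
  obtain ⟨b, hb, hne⟩ := hxz.exists_fixed_point_of_prime_dvd_card_of_fixed_point V hd hfix
  refine ⟨b, b.2, fun h => hne (Subtype.ext h.symm), ?_⟩
  exact congrArg Subtype.val (hb ⟨x, Subgroup.mem_zpowers x⟩)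

theorem exists_fixed [Finite W] {x : MulAut W} (hx : x ^ p = 1) (V : Subgroup W) (hV : ∀ v ∈ V, x v ∈ V)
    (hd : p ∣ Nat.card V) : ∃ v ∈ V, v ≠ 1 ∧ x v = v :=
  exists_fixed' (m := 1) (by rwa [pow_one]) V hV hd

/-- A `p`-element normalizing a subgroup of order `p` centralizes it. -/
theorem comm_of_card_p {L : Type*} [Group L] [Finite L] {Z : Subgroup L} (hZn : Z.Normal) (hZ : Nat.card Z = p)
    {g : L} {m : ℕ} (hg : g ^ p ^ m = 1) {z : L} (hz : z ∈ Z) : g * z = z * g := by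
  let x : MulAut Z := MulAut.conjNormal g
  have hx : x ^ p ^ m = 1 := by
    show (MulAut.conjNormal g) ^ p ^ m = 1
    rw [← map_pow, hg, map_one]
  obtain ⟨v, -, hv, hv'⟩ := exists_fixed' hx ⊤ (fun _ _ => Subgroup.mem_top _) (by rw [Subgroup.card_top, hZ])
  have h1 : g * (v : L) * g⁻¹ = v := by
    have := congrArg Subtype.val hv'
    rwa [MulAut.conjNormal_apply] at this
  have h2 : Subgroup.zpowers v = ⊤ := by
    have h3 : Nat.card (Subgroup.zpowers v) ∣ p := by rw [← hZ]; exact Subgroup.card_subgroup_dvd_card _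
    rcases (Nat.dvd_prime hp.out).1 h3 with h | h
    · exact absurd (Subgroup.zpowers_eq_bot.1 (Subgroup.card_eq_one.1 h)) hv
    · exact Subgroup.eq_top_of_card_eq _ (by rw [h, hZ])
  have h3 : (⟨z, hz⟩ : Z) ∈ Subgroup.zpowers v := by rw [h2]; exact Subgroup.mem_top _
  obtain ⟨n, hn⟩ := h3
  have h4 : z = (v : L) ^ n := by
    have := congrArg Subtype.val hn
    exact this.symm
  have h5 : Commute g (v : L) := by
    show g * (v : L) = v * g
    calc g * (v : L) = g * v * g⁻¹ * g := by group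
      _ = v * g := by rw [h1]
  rw [h4]
  exact (h5.zpow_right n).eq

/-- The subgroup fixed by an automorphism. -/
def fixW (x : MulAut W) : Subgroup W where
  carrier := {w | x w = w}
  one_mem' := map_one x
  mul_mem' := fun {a b} ha hb => by
    show x (a * b) = a * b
    rw [map_mul, show x a = a from ha, show x b = b from hb]
  inv_mem' := fun {a} ha => by
    show x a⁻¹ = a⁻¹
    rw [map_inv, show x a = a from ha]

theorem card_of_ne {V : Subgroup W} [Finite W] (hcard : Nat.card W = p ^ 2) (h0 : V ≠ ⊥) (h1 : V ≠ ⊤) :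
    Nat.card V = p := by
  have h2 : Nat.card V ∣ p ^ 2 := hcard ▸ Subgroup.card_subgroup_dvd_card V
  obtain ⟨k, hk, hk'⟩ := (Nat.dvd_prime_pow hp.out).1 h2
  interval_cases k
  · exact absurd (Subgroup.card_eq_one.1 (by rw [hk', pow_zero])) h0
  · rw [hk', pow_one]
  · exact absurd (Subgroup.eq_top_of_card_eq V (by rw [hk', hcard])) h1

theorem card_fix [Finite W] (hcard : Nat.card W = p ^ 2) {x : MulAut W} (hx : x ^ p = 1) (hx1 : x ≠ 1) :
    Nat.card (fixW x) = p := by
  refine card_of_ne hcard ?_ ?_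
  · intro h0
    obtain ⟨v, -, hv, hv'⟩ := exists_fixed hx ⊤ (fun _ _ => Subgroup.mem_top _)
      (by rw [Subgroup.card_top, hcard]; exact dvd_pow_self _ two_ne_zero)
    have : v ∈ fixW x := hv'
    rw [h0, Subgroup.mem_bot] at this
    exact hv this
  · intro h1
    apply hx1
    ext w
    have : w ∈ fixW x := by rw [h1]; exact Subgroup.mem_top _
    exact this

/-- `w⁻¹ x(w)` is fixed. -/
theorem delta_fix [Finite W] (hc : ∀ a b : W, a * b = b * a) (hcard : Nat.card W = p ^ 2) {x : MulAut W}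
    (hx : x ^ p = 1) (hx1 : x ≠ 1) (w : W) : w⁻¹ * x w ∈ fixW x := by
  let δ : W →* W :=
    { toFun := fun w => w⁻¹ * x w
      map_one' := by simp
      map_mul' := fun a b => by
        rw [map_mul, mul_inv_rev, hc b⁻¹ a⁻¹]
        calc a⁻¹ * b⁻¹ * (x a * x b) = a⁻¹ * (b⁻¹ * x a) * x b := by group
          _ = a⁻¹ * (x a * b⁻¹) * x b := by rw [hc b⁻¹ (x a)]
          _ = _ := by group }
  have hk : δ.ker = fixW x := by
    ext w
    rw [MonoidHom.mem_ker]
    show w⁻¹ * x w = 1 ↔ x w = w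
    rw [inv_mul_eq_one]
    exact eq_comm
  have hF := card_fix hcard hx hx1
  have h1 : Nat.card δ.range * Nat.card δ.ker = p ^ 2 := by
    rw [← hcard, mul_comm, ← Subgroup.card_mul_index δ.ker, Subgroup.index_ker]
  rw [hk, hF, pow_two] at h1
  have h2 : Nat.card δ.range = p := Nat.eq_of_mul_eq_mul_right hp.out.pos h1
  obtain ⟨v, hv, hv1, hv2⟩ := exists_fixed hx δ.range (by
    rintro _ ⟨u, rfl⟩
    exact ⟨x u, by show (x u)⁻¹ * x (x u) = x (u⁻¹ * x u); rw [map_mul, map_inv]⟩) (by rw [h2])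
  have h3 : Subgroup.zpowers v ≤ δ.range := by rw [Subgroup.zpowers_le]; exact hv
  have h4 : Subgroup.zpowers v ≤ fixW x := by rw [Subgroup.zpowers_le]; exact hv2
  have h5 : Nat.card (Subgroup.zpowers v) = p := by
    have h6 : Nat.card (Subgroup.zpowers v) ∣ p := by rw [← h2]; exact Subgroup.card_dvd_of_le h3
    rcases (Nat.dvd_prime hp.out).1 h6 with h | h
    · exact absurd (Subgroup.zpowers_eq_bot.1 (Subgroup.card_eq_one.1 h)) hv1
    · exact h
  have h6 : Subgroup.zpowers v = δ.range := Subgroup.eq_of_le_of_card_ge h3 (by rw [h5, h2])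
  exact h4 (h6 ▸ ⟨w, rfl⟩)

/-- `g` acts as the map `M` in the coordinates `w1`, `w2`. -/
def Rz (w1 w2 : W) (g : MulAut W) (M : ZMod p × ZMod p → ZMod p × ZMod p) : Prop :=
  ∀ v : ZMod p × ZMod p, g (w1 ^ v.1.val * w2 ^ v.2.val) = w1 ^ (M v).1.val * w2 ^ (M v).2.val

theorem Rz.mul {w1 w2 : W} {g h : MulAut W} {M N : ZMod p × ZMod p → ZMod p × ZMod p} (hg : Rz w1 w2 g M)
    (hh : Rz w1 w2 h N) : Rz w1 w2 (g * h) (fun v => M (N v)) := by
  intro v
  rw [MulAut.mul_apply, hh v, hg (N v)]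

theorem exists_torus [Finite W] (hc : ∀ a b : W, a * b = b * a) (he : ∀ w : W, w ^ p = 1)
    (hcard : Nat.card W = p ^ 2) (hp2 : p ≠ 2) {x x' : MulAut W} (hx : x ^ p = 1) (hx1 : x ≠ 1) (hx' : x' ^ p = 1)
    (hx1' : x' ≠ 1) (hne : x' ∉ Subgroup.zpowers x) :
    ∃ w1 w2 : W, w1 ≠ 1 ∧ x w1 = w1 ∧ x w2 = w2 * w1 ∧ (∀ w, ∃ i j : ZMod p, w = w1 ^ i.val * w2 ^ j.val) ∧
      ∃ t ∈ Subgroup.closure {x, x'}, (∀ w, t w = w⁻¹) ∧ ∃ h ∈ Subgroup.closure {x, x'},
        h w1 = w1 ^ 2 ∧ h w2 = w2 ^ ((2 : ZMod p)⁻¹).val := by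
  have h2ne : (2 : ZMod p) ≠ 0 := by
    intro h
    have : ((2 : ℕ) : ZMod p) = 0 := by exact_mod_cast h
    rw [ZMod.natCast_eq_zero_iff] at this
    exact hp2 ((Nat.prime_dvd_prime_iff_eq hp.out Nat.prime_two).1 this)
  have hF := card_fix hcard hx hx1
  have hF' := card_fix hcard hx' hx1'
  have hgen : ∀ {V : Subgroup W}, Nat.card V = p → ∀ v ∈ V, v ≠ 1 → ∀ u ∈ V, ∃ i : ZMod p, u = v ^ i.val := by
    intro V hV v hv hv1 u hu
    have h3 : Subgroup.zpowers v ≤ V := by rw [Subgroup.zpowers_le]; exact hv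
    have h5 : Nat.card (Subgroup.zpowers v) = p := by
      have h6 : Nat.card (Subgroup.zpowers v) ∣ p := by rw [← hV]; exact Subgroup.card_dvd_of_le h3
      rcases (Nat.dvd_prime hp.out).1 h6 with h | h
      · exact absurd (Subgroup.zpowers_eq_bot.1 (Subgroup.card_eq_one.1 h)) hv1
      · exact h
    have h6 : Subgroup.zpowers v = V := Subgroup.eq_of_le_of_card_ge h3 (by rw [h5, hV])
    have h7 : u ∈ Subgroup.zpowers v := by rw [h6]; exact hu
    obtain ⟨n, rfl⟩ := (isOfFinOrder_of_finite v).mem_powers_iff_mem_zpowers.2 h7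
    refine ⟨(n : ZMod p), ?_⟩
    show v ^ n = _
    rw [ZMod.val_natCast, ← pow_eq_pow_mod _ (he v)]
  -- the two fixed lines are different
  have hnle : ¬ fixW x' ≤ fixW x := by
    intro hle
    have heq : fixW x' = fixW x := Subgroup.eq_of_le_of_card_ge hle (by rw [hF, hF'])
    apply hne
    have htop : fixW x ≠ ⊤ := by
      intro h
      rw [h, Subgroup.card_top, hcard] at hF
      have := hp.out.one_lt
      nlinarith
    obtain ⟨w, hw⟩ : ∃ w, w ∉ fixW x := by
      by_contra hcon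
      push Not at hcon
      exact htop (eq_top_iff.2 fun w _ => hcon w)
    have hf := delta_fix hc hcard hx hx1 w
    have hf' := delta_fix hc hcard hx' hx1' w
    rw [heq] at hf'
    have hf1 : w⁻¹ * x w ≠ 1 := by
      intro h
      exact hw (inv_mul_eq_one.1 h).symm
    obtain ⟨k, hk⟩ := hgen hF _ hf hf1 _ hf'
    have hxk : ∀ n : ℕ, (x ^ n) w = w * (w⁻¹ * x w) ^ n := by
      intro n
      induction n with
      | zero => simp
      | succ n ih =>
        have h1 : x ((w⁻¹ * x w) ^ n) = (w⁻¹ * x w) ^ n := (fixW x).pow_mem hf n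
        rw [pow_succ', MulAut.mul_apply, ih, map_mul, h1, pow_succ', ← mul_assoc, mul_inv_cancel_left]
    have hxkF : ∀ n : ℕ, ∀ f ∈ fixW x, (x ^ n) f = f := by
      intro n f hf
      induction n with
      | zero => simp
      | succ n ih => rw [pow_succ', MulAut.mul_apply, ih]; exact hf
    have hEq : x' = x ^ k.val := by
      have h1 : fixW ((x ^ k.val)⁻¹ * x') = ⊤ := by
        by_contra hne'
        have h2 : fixW x < fixW ((x ^ k.val)⁻¹ * x') := by
          refine lt_of_le_of_ne (fun f hf => ?_) (fun h => ?_)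
          · show ((x ^ k.val)⁻¹ * x') f = f
            have h3 : x' f = f := by
              have : f ∈ fixW x' := by rw [heq]; exact hf
              exact this
            rw [MulAut.mul_apply, h3, MulAut.inv_apply]
            exact (MulEquiv.symm_apply_eq _).2 (hxkF _ f hf).symm
          · apply hw
            rw [h]
            show ((x ^ k.val)⁻¹ * x') w = w
            rw [MulAut.mul_apply, MulAut.inv_apply]
            refine (MulEquiv.symm_apply_eq _).2 ?_
            rw [hxk, ← hk]; group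
        have h3 : fixW ((x ^ k.val)⁻¹ * x') ≠ ⊥ := fun h => by
          rw [h] at h2; exact absurd h2 (not_lt_bot)
        have h4 := card_of_ne hcard h3 hne'
        exact h2.ne (Subgroup.eq_of_le_of_card_ge h2.le (by rw [h4, hF]))
      have h2 : (x ^ k.val)⁻¹ * x' = 1 := by
        ext u
        have : u ∈ fixW ((x ^ k.val)⁻¹ * x') := by rw [h1]; exact Subgroup.mem_top _
        exact this
      exact (inv_mul_eq_one.1 h2).symm
    rw [hEq]
    exact Subgroup.pow_mem _ (Subgroup.mem_zpowers x) _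
  obtain ⟨w2, hw2, hw2'⟩ := Set.not_subset.1 hnle
  have hw21 : w2 ≠ 1 := fun h => hw2' (h ▸ (fixW x).one_mem)
  set w1 := w2⁻¹ * x w2 with hw1
  have hw1F : w1 ∈ fixW x := delta_fix hc hcard hx hx1 w2
  have hw11 : w1 ≠ 1 := fun h => hw2' (inv_mul_eq_one.1 h).symm
  have hinf : fixW x ⊓ fixW x' = ⊥ := by
    by_contra h
    have h1 : fixW x' ≤ fixW x := by
      have h2 : Nat.card ↥(fixW x ⊓ fixW x') ∣ p := by
        rw [← hF']; exact Subgroup.card_dvd_of_le inf_le_right
      rcases (Nat.dvd_prime hp.out).1 h2 with h3 | h3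
      · exact absurd (Subgroup.card_eq_one.1 h3) h
      · have h4 : fixW x ⊓ fixW x' = fixW x' := Subgroup.eq_of_le_of_card_ge inf_le_right (by rw [h3, hF'])
        rw [← h4]; exact inf_le_left
    exact hnle h1
  have hw1F' : w1 ∉ fixW x' := fun h => by
    have : w1 ∈ fixW x ⊓ fixW x' := ⟨hw1F, h⟩
    rw [hinf, Subgroup.mem_bot] at this
    exact hw11 this
  obtain ⟨b, hb⟩ := hgen hF' w2 hw2 hw21 _ (delta_fix hc hcard hx' hx1' w1)
  have hb0 : b ≠ 0 := by
    intro h
    rw [h, ZMod.val_zero, pow_zero] at hb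
    exact hw1F' (inv_mul_eq_one.1 hb).symm
  have hspan : ∀ w, ∃ i j : ZMod p, w = w1 ^ i.val * w2 ^ j.val := by
    have hsup : fixW x ⊔ fixW x' = ⊤ := by
      by_contra h
      have h1 : fixW x ⊔ fixW x' ≠ ⊥ := fun h1 => by
        have : fixW x = ⊥ := by rw [eq_bot_iff, ← h1]; exact le_sup_left
        rw [this, Subgroup.card_bot] at hF
        exact hp.out.one_lt.ne hF
      have h2 := card_of_ne hcard h1 h
      have h3 : fixW x = fixW x ⊔ fixW x' := Subgroup.eq_of_le_of_card_ge le_sup_left (by rw [h2, hF])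
      exact hnle (by rw [h3]; exact le_sup_right)
    intro w
    have hw : w ∈ fixW x ⊔ fixW x' := by rw [hsup]; exact Subgroup.mem_top _
    haveI : (fixW x').Normal := ⟨fun a ha g => by rw [hc g a, mul_inv_cancel_right]; exact ha⟩
    obtain ⟨u, hu, v, hv, rfl⟩ := Subgroup.mem_sup_of_normal_right.1 hw
    obtain ⟨i, hi⟩ := hgen hF w1 hw1F hw11 u hu
    obtain ⟨j, hj⟩ := hgen hF' w2 hw2 hw21 v hv
    exact ⟨i, j, by rw [← hi, ← hj]⟩
  have hT1 : Rz w1 w2 x (fun v : ZMod p × ZMod p => (v.1 + v.2, v.2)) := by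
    intro v
    have h1 : x w2 = w2 * w1 := by rw [hw1]; group
    have h2 : x w1 = w1 := hw1F
    show x (w1 ^ v.1.val * w2 ^ v.2.val) = w1 ^ (v.1 + v.2).val * w2 ^ v.2.val
    rw [map_mul, map_pow, map_pow, h1, h2, pw_add (he w1), (show Commute w2 w1 from hc w2 w1).mul_pow,
      hc (w2 ^ v.2.val) (w1 ^ v.2.val)]
    group
  have hT2 : Rz w1 w2 x' (fun v : ZMod p × ZMod p => (v.1, v.2 + b * v.1)) := by
    intro v
    have h1 : x' w2 = w2 := hw2
    have h2 : x' w1 = w1 * w2 ^ b.val := by rw [← hb]; group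
    show x' (w1 ^ v.1.val * w2 ^ v.2.val) = w1 ^ v.1.val * w2 ^ (v.2 + b * v.1).val
    rw [map_mul, map_pow, map_pow, h1, h2, pw_add (he w2), pw_mul (he w2),
      (show Commute w1 (w2 ^ b.val) from hc _ _).mul_pow, mul_assoc, hc (w2 ^ v.2.val) ((w2 ^ b.val) ^ v.1.val)]
  have hxc : x ∈ Subgroup.closure {x, x'} := Subgroup.subset_closure (by simp)
  have hxc' : x' ∈ Subgroup.closure {x, x'} := Subgroup.subset_closure (by simp)
  have hone : Rz w1 w2 (1 : MulAut W) (fun v : ZMod p × ZMod p => v) := fun v => rfl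
  have hT1c : ∀ c : ZMod p, ∃ g ∈ Subgroup.closure {x, x'}, Rz w1 w2 g (fun v : ZMod p × ZMod p => (v.1 + c * v.2, v.2)) := by
    intro c
    have key : ∀ n : ℕ, Rz w1 w2 (x ^ n) (fun v : ZMod p × ZMod p => (v.1 + n * v.2, v.2)) := by
      intro n
      induction n with
      | zero => rw [pow_zero]; intro v; simp
      | succ n ih =>
        rw [pow_succ']
        intro v
        have := (hT1.mul ih) v
        rw [this]
        congr 3
        push_cast; ring
    exact ⟨x ^ c.val, Subgroup.pow_mem _ hxc _, by have := key c.val; rwa [ZMod.natCast_zmod_val] at this⟩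
  have hT2c : ∀ c : ZMod p, ∃ g ∈ Subgroup.closure {x, x'}, Rz w1 w2 g (fun v : ZMod p × ZMod p => (v.1, v.2 + c * v.1)) := by
    intro c
    have key : ∀ n : ℕ, Rz w1 w2 (x' ^ n) (fun v : ZMod p × ZMod p => (v.1, v.2 + (n * b) * v.1)) := by
      intro n
      induction n with
      | zero => rw [pow_zero]; intro v; simp
      | succ n ih =>
        rw [pow_succ']
        intro v
        have := (hT2.mul ih) v
        rw [this]
        congr 3
        push_cast; ring
    refine ⟨x' ^ (c * b⁻¹).val, Subgroup.pow_mem _ hxc' _, ?_⟩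
    have := key (c * b⁻¹).val
    rwa [ZMod.natCast_zmod_val, mul_assoc, inv_mul_cancel₀ hb0, mul_one] at this
  have hw : ∀ l : ZMod p, l ≠ 0 → ∃ g ∈ Subgroup.closure {x, x'},
      Rz w1 w2 g (fun v : ZMod p × ZMod p => (l * v.2, -(l⁻¹ * v.1))) := by
    intro l hl
    obtain ⟨a, ha, ha'⟩ := hT1c l
    obtain ⟨c, hc, hc'⟩ := hT2c (-l⁻¹)
    refine ⟨a * (c * a), Subgroup.mul_mem _ ha (Subgroup.mul_mem _ hc ha), ?_⟩
    intro v
    rw [(ha'.mul (hc'.mul ha')) v]
    have e0' : l * l⁻¹ = 1 := mul_inv_cancel₀ hl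
    have e1 : (v.1 + l * v.2) + l * (v.2 + -l⁻¹ * (v.1 + l * v.2)) = l * v.2 := by
      linear_combination (-(v.1 + l * v.2)) * e0'
    have e0 : l⁻¹ * l = 1 := inv_mul_cancel₀ hl
    have e2 : v.2 + -l⁻¹ * (v.1 + l * v.2) = -(l⁻¹ * v.1) := by
      linear_combination (-v.2) * e0
    show w1 ^ ((v.1 + l * v.2) + l * (v.2 + -l⁻¹ * (v.1 + l * v.2))).val *
      w2 ^ (v.2 + -l⁻¹ * (v.1 + l * v.2)).val = w1 ^ (l * v.2).val * w2 ^ (-(l⁻¹ * v.1)).val
    rw [e1, e2]
  refine ⟨w1, w2, hw11, hw1F, by rw [hw1]; group, hspan, ?_⟩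
  obtain ⟨g1, hg1, hg1'⟩ := hw 1 one_ne_zero
  obtain ⟨g2, hg2, hg2'⟩ := hw 2 h2ne
  obtain ⟨g3, hg3, hg3'⟩ := hw (-1) (neg_ne_zero.2 one_ne_zero)
  have hneg : ∀ (w : W) (i : ZMod p), w ^ (-i).val = (w ^ i.val)⁻¹ := by
    intro w i
    rw [eq_inv_iff_mul_eq_one, ← pw_add (he w), neg_add_cancel, ZMod.val_zero, pow_zero]
  refine ⟨g1 * g1, Subgroup.mul_mem _ hg1 hg1, fun w => ?_, g2 * g3, Subgroup.mul_mem _ hg2 hg3, ?_, ?_⟩
  · obtain ⟨i, j, rfl⟩ := hspan w
    have := (hg1'.mul hg1') (i, j)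
    rw [this]
    simp only [one_mul, inv_one]
    rw [hneg, hneg, mul_inv_rev, hc]
  · have h1p : (1 : ZMod p).val = 1 := by
      haveI : Fact (1 < p) := ⟨hp.out.one_lt⟩
      exact ZMod.val_one p
    have := (hg2'.mul hg3') (1, 0)
    simp only [ZMod.val_zero, pow_zero, mul_one, h1p, pow_one] at this
    rw [this]
    have e1 : (2 : ZMod p) * -((-1 : ZMod p)⁻¹ * 1) = 2 := by
      rw [inv_neg, inv_one]; ring
    have e2 : (-((2 : ZMod p)⁻¹ * (-1 * 0)) : ZMod p) = 0 := by ring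
    simp only [mul_one, mul_zero, neg_zero, ZMod.val_zero, pow_zero] at this ⊢
    have e3 : (2 * -(-1 : ZMod p)⁻¹ : ZMod p) = 2 := by rw [inv_neg, inv_one]; ring
    rw [e3]
    have e4 : (2 : ZMod p) = ((2 : ℕ) : ZMod p) := by norm_num
    rw [e4, ZMod.val_natCast, ← pow_eq_pow_mod _ (he w1)]
  · have h1p : (1 : ZMod p).val = 1 := by
      haveI : Fact (1 < p) := ⟨hp.out.one_lt⟩
      exact ZMod.val_one p
    have := (hg2'.mul hg3') (0, 1)
    simp only [ZMod.val_zero, pow_zero, one_mul, h1p, pow_one] at this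
    rw [this]
    simp only [mul_zero, neg_zero, ZMod.val_zero, pow_zero, one_mul, mul_one, mul_neg, neg_neg]

end

end Cfsg.Agent.H13.Rk2
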