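import Mathlib
import Cfsg.Agent.H13.AbHomoc
import Cfsg.Agent.H13.EssSteps
import Cfsg.Agent.H13.Rk2W
import Cfsg.Agent.H28.GCtl6

/-!
# Abelian essential subgroups generated by two elements
-/

set_option autoImplicit false
set_option linter.all false
open Cfsg Cfsg.FusionSystem

namespace Cfsg.Agent.H13

open Cfsg.Agent.H28

section
variable {p : ℕ} [hp : Fact p.Prime]

theorem delta_trivial {C : Type*} [CommGroup C] [Finite C] (hp5 : 5 ≤ p) {a : ℕ} (ha2 : 2 ≤ a)
    (ha : ∀ z : C, z ^ p ^ a = 1) (hidx : ((powMonoidHom p : C →* C).range).index = p ^ 2)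
    (hB : ∀ z : C, z ^ p ^ (a - 1) = 1 → z ∈ (powMonoidHom p : C →* C).range)
    {α : MulAut C} (hα : α ^ p = 1) (x : C) : x⁻¹ * α x ∈ (powMonoidHom p : C →* C).range := by
  classical
  set A₁ := (powMonoidHom p : C →* C).range with hA₁
  have hmap : A₁.map α.toMonoidHom = A₁ := by
    ext z
    constructor
    · rintro ⟨_, ⟨y, rfl⟩, rfl⟩
      exact ⟨α y, by show (α y) ^ p = α (y ^ p); rw [map_pow]⟩
    · rintro ⟨y, rfl⟩
      refine ⟨(α⁻¹ y) ^ p, ⟨α⁻¹ y, rfl⟩, ?_⟩
      show α ((α⁻¹ y) ^ p) = y ^ p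
      rw [map_pow, MulAut.apply_inv_self]
  let β : MulAut (C ⧸ A₁) := QuotientGroup.congr A₁ A₁ α hmap
  have hβ : ∀ y : C, β (QuotientGroup.mk' A₁ y) = QuotientGroup.mk' A₁ (α y) := fun y => rfl
  have hβn : ∀ (n : ℕ) (y : C), (β ^ n) (QuotientGroup.mk' A₁ y) = QuotientGroup.mk' A₁ ((α ^ n) y) := by
    intro n
    induction n with
    | zero => intro y; simp
    | succ n ih =>
      intro y
      rw [pow_succ, pow_succ, MulAut.mul_apply, MulAut.mul_apply, hβ, ih]
  have hβp : β ^ p = 1 := by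
    apply MulEquiv.ext
    intro z
    obtain ⟨y, rfl⟩ := QuotientGroup.mk'_surjective A₁ z
    rw [hβn, hα]; rfl
  by_cases hβ1 : β = 1
  · have h1 := hβ x
    rw [hβ1, MulAut.one_apply] at h1
    rw [← QuotientGroup.ker_mk' A₁, MonoidHom.mem_ker, map_mul, map_inv, ← h1, inv_mul_cancel]
  · have hcard : Nat.card (C ⧸ A₁) = p ^ 2 := hidx
    have hd := Rk2.delta_fix (p := p) (fun u v => mul_comm u v) hcard hβp hβ1
    have hd2 : ∀ y : C, ∃ z : C, α (y⁻¹ * α y) * (y⁻¹ * α y)⁻¹ = z ^ p := by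
      intro y
      have h1 : β ((QuotientGroup.mk' A₁ y)⁻¹ * β (QuotientGroup.mk' A₁ y)) =
        (QuotientGroup.mk' A₁ y)⁻¹ * β (QuotientGroup.mk' A₁ y) := hd (QuotientGroup.mk' A₁ y)
      rw [hβ, ← map_inv, ← map_mul, hβ] at h1
      have h2 : α (y⁻¹ * α y) * (y⁻¹ * α y)⁻¹ ∈ A₁ := by
        rw [← QuotientGroup.ker_mk' A₁, MonoidHom.mem_ker, map_mul, map_inv, h1, mul_inv_cancel]
      obtain ⟨z, hz⟩ := h2
      exact ⟨z, hz.symm⟩
    let φ : AddMonoid.End (Additive C) := MonoidHom.toAdditive α.toMonoidHom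
    have hφ : ∀ (n : ℕ) (y : Additive C), (φ ^ n) y = Additive.ofMul ((α ^ n) y.toMul) := by
      intro n
      induction n with
      | zero => intro y; rfl
      | succ n ih =>
        intro y
        rw [pow_succ, pow_succ]
        show (φ ^ n) (φ y) = _
        rw [ih]
        rfl
    obtain ⟨δ, hδ⟩ : ∃ δ : AddMonoid.End (Additive C), δ = φ - 1 := ⟨_, rfl⟩
    have hδx : ∀ y : Additive C, δ y = Additive.ofMul (y.toMul⁻¹ * α y.toMul) := by
      intro y
      rw [hδ]
      show φ y - y = _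
      rw [sub_eq_add_neg, add_comm]
      rfl
    have h1 : (1 + δ) ^ p = 1 := by
      have : 1 + δ = φ := by rw [hδ]; abel
      rw [this]
      ext y
      rw [hφ, hα]; rfl
    have hδ2 : ∀ y : Additive C, ∃ z, δ (δ y) = p • z := by
      intro y
      obtain ⟨z, hz⟩ := hd2 y.toMul
      refine ⟨Additive.ofMul z, ?_⟩
      rw [hδx, hδx, ← ofMul_pow, ← hz]
      congr 1
      exact mul_comm _ _
    have hδk : ∀ (k : ℕ) (y : Additive C), ∃ z, (δ ^ (2 * k)) y = p ^ k • z := by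
      intro k
      induction k with
      | zero => intro y; exact ⟨y, by simp⟩
      | succ k ih =>
        intro y
        obtain ⟨z, hz⟩ := hδ2 y
        obtain ⟨w, hw⟩ := ih z
        refine ⟨w, ?_⟩
        have : 2 * (k + 1) = 2 * k + 1 + 1 := by ring
        rw [this, pow_succ, pow_succ]
        show (δ ^ (2 * k)) (δ (δ y)) = _
        rw [hz, map_nsmul, hw, ← mul_nsmul', pow_succ']
    have h2 : δ ^ ((a - 1) * (p - 1) + 1) = 0 := by
      have hle : 2 * a ≤ (a - 1) * (p - 1) + 1 := by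
        obtain ⟨b, rfl⟩ := Nat.exists_eq_add_of_le ha2
        obtain ⟨q, rfl⟩ := Nat.exists_eq_add_of_le hp5
        have e1 : 2 + b - 1 = b + 1 := by omega
        have e2 : 5 + q - 1 = q + 4 := by omega
        rw [e1, e2]
        nlinarith [Nat.zero_le (b * q), Nat.zero_le q, Nat.zero_le b]
      obtain ⟨m, hm⟩ := Nat.exists_eq_add_of_le hle
      rw [hm, add_comm, pow_add]
      have : δ ^ (2 * a) = 0 := by
        ext y
        obtain ⟨z, hz⟩ := hδk a y
        rw [hz]
        show Additive.ofMul ((z.toMul) ^ p ^ a) = _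
        rw [ha]; rfl
      rw [this, mul_zero]
    have h3 := pn_delta hp.out h1 h2
    apply hB
    have h4 : ((p : AddMonoid.End (Additive C)) ^ (a - 1) * δ) (Additive.ofMul x) = 0 := by rw [h3]; rfl
    rw [← Nat.cast_pow] at h4
    have h5 : p ^ (a - 1) • δ (Additive.ofMul x) = 0 := h4
    rw [hδx, ← ofMul_pow] at h5
    exact h5

end

variable {Ω : Type*} [Group Ω] {S : Subgroup Ω} {F : FusionSystem S} {p : ℕ} [Fact p.Prime] [Finite S]
  {P Q : Subgroup Ω}

/-- automorphisms stabilizing an invariant chain of an essential subgroup are inner -/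
theorem mem_Inn_of_chain (hS : IsPGroup p S) (hF : F.IsSaturated p)
    (hP : F.IsEssential p P) (W : ℕ → Subgroup Ω) (n : ℕ) (h0 : W 0 = ⊥) (hn : P ≤ W n) (hWP : ∀ j, W j ≤ P)
    (hinv : ∀ j, ∀ α ∈ F.autGroup P, ∀ x ∈ W j, autFun α x ∈ W j) {α : MulAut P} (hα : α ∈ F.autGroup P)
    (hstab : ∀ j, ∀ x ∈ W (j + 1), x⁻¹ * autFun α x ∈ W j) : α ∈ Inn P := by
  have hPS := hP.1.1
  haveI : Finite P := finite_of_le hPS
  haveI := finite_mulAut (P := P)
  have hPp := isPGroup_of_le hS hPS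
  have hD : ∀ j, ∀ α ∈ F.autGroup P, ∀ x ∈ P, x ∈ W j → autFun α x ∈ W j :=
    fun j α hα x _ hx => hinv j α hα x hx
  have hrad := (essential_radical hS hP).2
  have hK : chainStab (F.autGroup P) W hD ≤ pCore p (F.autGroup P) := by
    refine le_pCore chainStab_normal (isPGroup_of_coprime_trivial fun a ha => ?_)
    have h1 : (orderOf ((a : F.autGroup P) : MulAut P)).Coprime p := by
      rw [Subgroup.orderOf_coe, Subgroup.orderOf_coe]; exact ha
    have h2 := fix_of_chain hPp h1 W hWP h0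
      (fun j x hx => mem_chainStab.1 a.2 j x (hWP _ hx) hx) n
    refine Subtype.ext (Subtype.ext (mulAut_ext fun x hx => ?_))
    have h3 := h2 x (hn hx)
    show autFun ((a : F.autGroup P) : MulAut P) x = autFun (1 : MulAut P) x
    rw [h3, autFun_one hx]
  rw [← hrad]
  refine ⟨⟨α, hα⟩, hK ?_, rfl⟩
  rw [mem_chainStab]
  exact fun j x _ hx => hstab j x hx

end Cfsg.Agent.H13
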