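import Mathlib
import Cfsg.Agent.H1.Super
import Cfsg.Agent.H19.Supersolv

/-!
# Cyclic sections and automorphism groups of `p`-groups
-/

set_option autoImplicit false
set_option linter.all false

namespace Cfsg.Agent.H13

open Subgroup

section
variable {G : Type*} [Group G] {N M : Subgroup G} {p : ℕ} {f g : G → G}

/-- `M/N` is a cyclic section. -/
def CycSec (N M : Subgroup G) : Prop :=
  ∃ _ : (N.subgroupOf M).Normal, IsCyclic (M ⧸ N.subgroupOf M)

/-- `f` preserves the section `M/N`. -/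
structure Pres (N M : Subgroup G) (f : G → G) : Prop where
  mem : ∀ x ∈ M, f x ∈ M
  mul : ∀ x ∈ M, ∀ y ∈ M, f (x * y) = f x * f y
  memN : ∀ x ∈ M, x ∈ N → f x ∈ N

theorem Pres.exists_lift (hf : Pres N M f) (hn : (N.subgroupOf M).Normal) :
    ∃ σ : M ⧸ N.subgroupOf M →* M ⧸ N.subgroupOf M, ∀ x (hx : x ∈ M),
      σ (QuotientGroup.mk ⟨x, hx⟩) = QuotientGroup.mk ⟨f x, hf.mem x hx⟩ := by
  let F : M →* M := MonoidHom.mk' (fun x => ⟨f x, hf.mem x x.2⟩)
    (fun x y => Subtype.ext (hf.mul x x.2 y y.2))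
  refine ⟨QuotientGroup.map (N.subgroupOf M) (N.subgroupOf M) F ?_, fun x hx => rfl⟩
  intro x hx
  rw [Subgroup.mem_comap, Subgroup.mem_subgroupOf]
  exact hf.memN x x.2 hx

theorem CycSec.comm (h : CycSec N M) (hf : Pres N M f) (hg : Pres N M g) :
    ∀ x ∈ M, (f (g x))⁻¹ * g (f x) ∈ N := by
  intro x hx
  obtain ⟨hn, hc⟩ := h
  obtain ⟨σ, hσ⟩ := hf.exists_lift hn
  obtain ⟨τ, hτ⟩ := hg.exists_lift hn
  obtain ⟨m, hm⟩ := σ.map_cyclic
  obtain ⟨k, hk⟩ := τ.map_cyclic
  have h1 : σ (τ (QuotientGroup.mk ⟨x, hx⟩)) = τ (σ (QuotientGroup.mk ⟨x, hx⟩)) := by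
    rw [hk, hm, hm, hk, ← zpow_mul, ← zpow_mul, mul_comm]
  rw [hτ x hx, hσ x hx, hσ _ (hg.mem x hx), hτ _ (hf.mem x hx), QuotientGroup.eq,
    Subgroup.mem_subgroupOf] at h1
  exact h1

theorem Pres.iterate (hf : Pres N M f) (n : ℕ) : Pres N M (f^[n]) := by
  induction n with
  | zero => exact ⟨fun x hx => hx, fun x _ y _ => rfl, fun x _ hx => hx⟩
  | succ n ih =>
    refine ⟨fun x hx => ?_, fun x hx y hy => ?_, fun x hx hxN => ?_⟩
    · rw [Function.iterate_succ_apply]; exact ih.mem _ (hf.mem x hx)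
    · rw [Function.iterate_succ_apply, Function.iterate_succ_apply, Function.iterate_succ_apply,
        hf.mul x hx y hy]
      exact ih.mul _ (hf.mem x hx) _ (hf.mem y hy)
    · rw [Function.iterate_succ_apply]; exact ih.memN _ (hf.mem x hx) (hf.memN x hx hxN)

theorem CycSec.pow (h : CycSec N M) [Finite M] [Fact p.Prime] (hf : Pres N M f) {e : ℕ}
    (he : 0 < e) (hfe : ∀ x ∈ M, f^[e] x = x) {n : ℕ} (hn : Nat.card M ∣ p ^ (n + 1)) :
    ∀ x ∈ M, x⁻¹ * f^[p ^ n * (p - 1)] x ∈ N := by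
  intro x hx
  have hp := Fact.out (p := p.Prime)
  obtain ⟨hnn, hc⟩ := h
  obtain ⟨σ, hσ⟩ := hf.exists_lift hnn
  have hiter : ∀ k, ∀ y (hy : y ∈ M), (σ^[k]) (QuotientGroup.mk ⟨y, hy⟩) =
      QuotientGroup.mk ⟨f^[k] y, (hf.iterate k).mem y hy⟩ := by
    intro k
    induction k with
    | zero => intro y hy; rfl
    | succ k ih =>
      intro y hy
      rw [Function.iterate_succ_apply, hσ y hy, ih]
      rfl
  have hbij : Function.Bijective σ := by
    have hid : ∀ q, (σ^[e]) q = q := by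
      intro q
      induction q using QuotientGroup.induction_on with
      | H y =>
        rw [show (QuotientGroup.mk y : M ⧸ N.subgroupOf M) = QuotientGroup.mk ⟨(y : G), y.2⟩ from rfl,
          hiter]
        congr 1
        exact Subtype.ext (hfe y y.2)
    have hinj : Function.Injective σ := by
      intro a b hab
      rw [← hid a, ← hid b]
      obtain ⟨e', rfl⟩ : ∃ e', e = e' + 1 := ⟨e - 1, by omega⟩
      rw [Function.iterate_succ_apply, Function.iterate_succ_apply, hab]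
    exact ⟨hinj, Finite.injective_iff_surjective.1 hinj⟩
  let a : MulAut (M ⧸ N.subgroupOf M) := MulEquiv.ofBijective σ hbij
  have ha : ∀ q, a q = σ q := fun q => rfl
  have hapow : ∀ k q, (a ^ k) q = (σ^[k]) q := by
    intro k
    induction k with
    | zero => intro q; rfl
    | succ k ih =>
      intro q
      rw [pow_succ, MulAut.mul_apply, ha, ih, ← Function.iterate_succ_apply]
  have hcard : Nat.card (MulAut (M ⧸ N.subgroupOf M)) ∣ p ^ n * (p - 1) := by
    rw [IsCyclic.card_mulAut, ← Nat.totient_prime_pow_succ hp]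
    exact Nat.totient_dvd_of_dvd ((Subgroup.card_quotient_dvd_card _).trans hn)
  have h1 : a ^ (p ^ n * (p - 1)) = 1 := by
    obtain ⟨c, hc⟩ := hcard
    haveI : Finite (MulAut (M ⧸ N.subgroupOf M)) :=
      Finite.of_injective (fun b : MulAut (M ⧸ N.subgroupOf M) => (b : _ → _)) DFunLike.coe_injective
    rw [hc, pow_mul, pow_card_eq_one', one_pow]
  have h2 := hapow (p ^ n * (p - 1)) (QuotientGroup.mk ⟨x, hx⟩)
  rw [h1, MulAut.one_apply, hiter, QuotientGroup.eq, Subgroup.mem_subgroupOf] at h2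
  exact h2

theorem CycSec.of_sup (hN : (N.subgroupOf M).Normal) (x : G) (hM : M = N ⊔ zpowers x) :
    CycSec N M := by
  refine ⟨hN, ?_⟩
  have hxM : x ∈ M := by rw [hM]; exact Subgroup.mem_sup_right (mem_zpowers x)
  have hNM : N ≤ M := by rw [hM]; exact le_sup_left
  refine isCyclic_iff_exists_zpowers_eq_top.2 ⟨QuotientGroup.mk ⟨x, hxM⟩, ?_⟩
  set K : Subgroup M := (zpowers (QuotientGroup.mk ⟨x, hxM⟩ : M ⧸ N.subgroupOf M)).comap
    (QuotientGroup.mk' (N.subgroupOf M)) with hK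
  have h1 : M ≤ K.map M.subtype := by
    conv_lhs => rw [hM]
    refine sup_le ?_ ?_
    · intro n hn
      refine ⟨⟨n, hNM hn⟩, ?_, rfl⟩
      rw [SetLike.mem_coe, hK, Subgroup.mem_comap]
      have : (QuotientGroup.mk' (N.subgroupOf M)) ⟨n, hNM hn⟩ = 1 := by
        rw [QuotientGroup.mk'_apply, QuotientGroup.eq_one_iff]; exact hn
      rw [this]; exact one_mem _
    · rw [zpowers_le]
      exact ⟨⟨x, hxM⟩, mem_zpowers _, rfl⟩
  rw [eq_top_iff]
  intro q _
  induction q using QuotientGroup.induction_on with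
  | H y =>
    obtain ⟨z, hz, hzy⟩ := h1 y.2
    have : z = y := Subtype.ext hzy
    rw [← this]; exact hz

theorem CycSec.inf (h : CycSec N M) (P : Subgroup G) : CycSec (P ⊓ N) (P ⊓ M) := by
  obtain ⟨hn, hc⟩ := h
  let j : (P ⊓ M : Subgroup G) →* M := Subgroup.inclusion inf_le_right
  have e : (P ⊓ N).subgroupOf (P ⊓ M) = (N.subgroupOf M).comap j := by
    ext x
    rw [Subgroup.mem_comap, Subgroup.mem_subgroupOf, Subgroup.mem_subgroupOf]
    exact ⟨fun h => h.2, fun h => ⟨x.2.1, h⟩⟩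
  have hn' : ((P ⊓ N).subgroupOf (P ⊓ M)).Normal := by rw [e]; infer_instance
  refine ⟨hn', ?_⟩
  refine isCyclic_of_injective
    (QuotientGroup.map ((P ⊓ N).subgroupOf (P ⊓ M)) (N.subgroupOf M) j e.le) ?_
  rw [injective_iff_map_eq_one]
  intro q
  induction q using QuotientGroup.induction_on with
  | H y =>
    intro hq
    rw [QuotientGroup.map_mk, QuotientGroup.eq_one_iff] at hq
    rw [QuotientGroup.eq_one_iff, e]
    exact hq

end

section
variable {P : Type*} [Group P] [Finite P] {p : ℕ} [Fact p.Prime]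

omit [Finite P] in
theorem aut_pow_apply (a : MulAut P) (m : ℕ) (x : P) : (a ^ m) x = (a : P → P)^[m] x := by
  induction m generalizing x with
  | zero => rfl
  | succ m ih => rw [pow_succ, MulAut.mul_apply, ih, Function.iterate_succ_apply]

theorem aut_fix_of_fix_comm (hP : IsPGroup p P) {a : MulAut P} (ha : (orderOf a).Coprime p) {x : P}
    (h : a (x⁻¹ * a x) = x⁻¹ * a x) : a x = x := by
  have h1 : ∀ n : ℕ, (a ^ n) x = x * (x⁻¹ * a x) ^ n := by
    intro n
    induction n with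
    | zero => simp
    | succ n ih =>
      rw [pow_succ', MulAut.mul_apply, ih, map_mul, map_pow, h, pow_succ', ← mul_assoc,
        ← mul_assoc, mul_inv_cancel, one_mul]
  have h2 := h1 (orderOf a)
  rw [pow_orderOf_eq_one, MulAut.one_apply] at h2
  have h3 : (x⁻¹ * a x) ^ orderOf a = 1 := (mul_eq_left.1 h2.symm)
  obtain ⟨k, hk⟩ := hP (x⁻¹ * a x)
  have h7 := Nat.dvd_gcd (orderOf_dvd_of_pow_eq_one h3) (orderOf_dvd_of_pow_eq_one hk)
  rw [Nat.Coprime.pow_right k ha] at h7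
  have h8 := orderOf_eq_one_iff.1 (Nat.dvd_one.1 h7)
  rw [inv_mul_eq_one] at h8
  exact h8.symm

theorem aut_fix_of_chain (hP : IsPGroup p P) {a : MulAut P} (ha : (orderOf a).Coprime p)
    (W : ℕ → Subgroup P) (n : ℕ) (h0 : W 0 = ⊥)
    (h : ∀ j < n, ∀ x ∈ W (j + 1), x⁻¹ * a x ∈ W j) : ∀ j ≤ n, ∀ x ∈ W j, a x = x := by
  intro j
  induction j with
  | zero =>
    intro _ x hx
    rw [h0, Subgroup.mem_bot] at hx
    rw [hx, map_one]
  | succ j ih =>
    intro hj x hx
    exact aut_fix_of_fix_comm hP ha (ih (by omega) _ (h j (by omega) x hx))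

/-- a `p'`-group of automorphisms preserving a chain with cyclic factors is abelian of exponent
dividing `p - 1`. -/
theorem abelian_exp_of_chain (hP : IsPGroup p P) (H : Subgroup (MulAut P))
    (hH : (Nat.card H).Coprime p) (D : Subgroup P)
    (hdet : ∀ a ∈ H, (∀ x ∈ D, a x = x) → a = 1) (W : ℕ → Subgroup P) (n : ℕ) (h0 : W 0 = ⊥)
    (hn : D ≤ W n) (hinv : ∀ j ≤ n, ∀ a ∈ H, ∀ x ∈ W j, a x ∈ W j)
    (hcyc : ∀ j < n, CycSec (W j) (W (j + 1))) :
    IsMulCommutative H ∧ ∀ h ∈ H, h ^ (p - 1) = 1 := by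
  haveI : Finite (MulAut P) :=
    Finite.of_injective (fun b : MulAut P => (b : P → P)) DFunLike.coe_injective
  have hcop : ∀ a ∈ H, (orderOf a).Coprime p := by
    intro a ha
    have : orderOf (⟨a, ha⟩ : H) ∣ Nat.card H := orderOf_dvd_natCard _
    rw [Subgroup.orderOf_mk] at this
    exact hH.coprime_dvd_left this
  have key : ∀ a ∈ H, (∀ j < n, ∀ x ∈ W (j + 1), x⁻¹ * a x ∈ W j) → a = 1 := by
    intro a ha h
    have h1 := aut_fix_of_chain hP (hcop a ha) W n h0 h n le_rfl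
    exact hdet a ha fun x hx => h1 x (hn hx)
  have hpres : ∀ j < n, ∀ a ∈ H, Pres (W j) (W (j + 1)) a := fun j hj a ha =>
    ⟨hinv (j + 1) (by omega) a ha, fun x _ y _ => map_mul a x y, fun x _ hx =>
      hinv j (by omega) a ha x hx⟩
  constructor
  · refine ⟨⟨?_⟩⟩
    rintro ⟨a, ha⟩ ⟨b, hb⟩
    have h1 : b⁻¹ * a⁻¹ * (b * a) = 1 := by
      refine key _ (H.mul_mem (H.mul_mem (H.inv_mem hb) (H.inv_mem ha)) (H.mul_mem hb ha)) ?_
      intro j hj x hx
      -- `b⁻¹ a⁻¹ b a x ≡ x`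
      have h2 := (hcyc j hj).comm (hpres j hj a ha) (hpres j hj b hb) x hx
      have h3 : (a (b x))⁻¹ * b (a x) ∈ W j := h2
      have h4 := hinv j (by omega) _ (H.mul_mem (H.inv_mem hb) (H.inv_mem ha)) _ h3
      rw [map_mul, map_inv] at h4
      have e1 : (b⁻¹ * a⁻¹) (a (b x)) = x := by
        show (b⁻¹ * a⁻¹ * a * b) x = x
        simp
      rw [e1] at h4
      exact h4
    apply Subtype.ext
    show a * b = b * a
    have h5 : (a * b)⁻¹ * (b * a) = 1 := by rw [mul_inv_rev]; exact h1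
    exact (inv_mul_eq_one.1 h5)
  · intro a ha
    obtain ⟨k, hk⟩ := IsPGroup.iff_card.1 hP
    have h1 : a ^ (p ^ k * (p - 1)) = 1 := by
      refine key _ (H.pow_mem ha _) ?_
      intro j hj x hx
      have h2 := (hcyc j hj).pow (p := p) (hpres j hj a ha) (orderOf_pos a)
        (fun y _ => ?_) (n := k) ?_ x hx
      · rw [aut_pow_apply]; exact h2
      · rw [← aut_pow_apply, pow_orderOf_eq_one]; rfl
      · have := (Subgroup.card_subgroup_dvd_card (W (j + 1)))
        rw [hk] at this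
        exact this.trans (pow_dvd_pow p (by omega))
    have h2 : (a ^ (p - 1)) ^ p ^ k = 1 := by rw [← pow_mul, mul_comm]; exact h1
    have h3 : orderOf (a ^ (p - 1)) ∣ p ^ k := orderOf_dvd_of_pow_eq_one h2
    have h4 : (orderOf (a ^ (p - 1))).Coprime p := hcop _ (H.pow_mem ha _)
    have h5 := Nat.Coprime.eq_one_of_dvd (Nat.Coprime.pow_right k h4) h3
    exact orderOf_eq_one_iff.1 h5

end

end Cfsg.Agent.H13
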