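import Mathlib
import Cfsg.Agent.H13.CycSec
import Cfsg.Agent.H13.FusAb

/-!
# Abelian `p`-groups with distinct invariants
-/

set_option autoImplicit false
set_option linter.all false
open Cfsg

namespace Cfsg.Agent.H13

section
variable {V : Type*} [CommGroup V] [Finite V] {p : ℕ} [Fact p.Prime]

/-- a `p'`-automorphism of an abelian `p`-group fixing all elements of order `p` is trivial. -/
theorem ab_trivial_of_omega (hV : IsPGroup p V) {a : MulAut V} (ha : (orderOf a).Coprime p)
    (h : ∀ x : V, x ^ p = 1 → a x = x) : a = 1 := by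
  haveI : Finite (MulAut V) :=
    Finite.of_injective (fun b : MulAut V => (b : V → V)) DFunLike.coe_injective
  obtain ⟨k, hk⟩ := IsPGroup.iff_card.1 hV
  have hc : (Nat.card (Subgroup.zpowers a)).Coprime (Nat.card V) := by
    rw [Nat.card_zpowers, hk]; exact Nat.Coprime.pow_right k ha
  obtain ⟨h1, h2⟩ := coprime_fix_comm (Subgroup.zpowers a) hc
  have h3 : comA (Subgroup.zpowers a) = ⊥ := by
    by_contra hne
    have hp1 : IsPGroup p (comA (Subgroup.zpowers a)) := hV.to_subgroup _
    haveI : Nontrivial (comA (Subgroup.zpowers a)) := (Subgroup.nontrivial_iff_ne_bot _).2 hne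
    obtain ⟨n, hn, hcard⟩ := hp1.nontrivial_iff_card.1 inferInstance
    obtain ⟨x, hx⟩ := exists_prime_orderOf_dvd_card' (G := comA (Subgroup.zpowers a)) p
      (by rw [hcard]; exact dvd_pow_self p hn.ne')
    have hxp : (x : V) ^ p = 1 := by
      have := pow_orderOf_eq_one x
      rw [hx] at this
      exact congrArg Subtype.val this
    have hfix : (x : V) ∈ fixA (Subgroup.zpowers a) := by
      intro α hα
      obtain ⟨m, rfl⟩ := Subgroup.mem_zpowers_iff.1 hα
      have hst : a ∈ MulAction.stabilizer (MulAut V) (x : V) := h x hxp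
      exact (MulAction.stabilizer (MulAut V) (x : V)).zpow_mem hst m
    have : (x : V) ∈ (⊥ : Subgroup V) := h1 ▸ ⟨hfix, x.2⟩
    rw [Subgroup.mem_bot] at this
    have hx1 : x = 1 := Subtype.ext this
    rw [hx1, orderOf_one] at hx
    exact (Fact.out (p := p.Prime)).one_lt.ne hx
  rw [h3, sup_bot_eq] at h2
  refine MulEquiv.ext fun x => ?_
  have hx : x ∈ fixA (Subgroup.zpowers a) := by rw [h2]; trivial
  exact hx a (Subgroup.mem_zpowers a)

/-- `Ω₁(V) ∩ V^(p^k)`. -/
def Vk (p : ℕ) (V : Type*) [CommGroup V] (k : ℕ) : Subgroup V where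
  carrier := {x | x ^ p = 1 ∧ ∃ y, y ^ p ^ k = x}
  one_mem' := ⟨one_pow _, 1, one_pow _⟩
  mul_mem' := by
    rintro a b ⟨ha, y, hy⟩ ⟨hb, z, hz⟩
    exact ⟨by rw [mul_pow, ha, hb, one_mul], y * z, by rw [mul_pow, hy, hz]⟩
  inv_mem' := by
    rintro a ⟨ha, y, hy⟩
    exact ⟨by rw [inv_pow, ha, inv_one], y⁻¹, by rw [inv_pow, hy]⟩

omit [Finite V] [Fact p.Prime] in
theorem mem_Vk {k : ℕ} {x : V} : x ∈ Vk p V k ↔ x ^ p = 1 ∧ ∃ y, y ^ p ^ k = x := Iff.rfl

omit [Finite V] [Fact p.Prime] in
theorem Vk_aut {k : ℕ} {x : V} (a : MulAut V) (h : x ∈ Vk p V k) : a x ∈ Vk p V k := by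
  obtain ⟨h1, y, hy⟩ := h
  exact ⟨by rw [← map_pow, h1, map_one], a y, by rw [← map_pow, hy]⟩

/-- when the sections are cyclic, `p'`-groups of automorphisms are abelian of exponent `| p - 1`. -/
theorem ab_abelian_exp (hV : IsPGroup p V) (hcyc : ∀ k, CycSec (Vk p V (k + 1)) (Vk p V k))
    (H : Subgroup (MulAut V)) (hH : (Nat.card H).Coprime p) :
    IsMulCommutative H ∧ ∀ h ∈ H, h ^ (p - 1) = 1 := by
  haveI : Finite (MulAut V) :=
    Finite.of_injective (fun b : MulAut V => (b : V → V)) DFunLike.coe_injective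
  obtain ⟨n, hn⟩ := IsPGroup.iff_card.1 hV
  refine abelian_exp_of_chain hV H hH (Vk p V 0) ?_ (fun j => Vk p V (n - j)) n ?_ ?_ ?_ ?_
  · intro a ha h
    refine ab_trivial_of_omega hV ?_ fun x hx => h x ⟨hx, x, by rw [pow_zero, pow_one]⟩
    have : orderOf (⟨a, ha⟩ : H) ∣ Nat.card H := orderOf_dvd_natCard _
    rw [Subgroup.orderOf_mk] at this
    exact hH.coprime_dvd_left this
  · show Vk p V (n - 0) = ⊥
    rw [eq_bot_iff]
    rintro x ⟨-, y, hy⟩
    rw [Nat.sub_zero, ← hn, pow_card_eq_one'] at hy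
    exact hy.symm
  · show Vk p V 0 ≤ Vk p V (n - n)
    rw [Nat.sub_self]
  · intro j _ a _ x hx
    exact Vk_aut a hx
  · intro j hj
    show CycSec (Vk p V (n - j)) (Vk p V (n - (j + 1)))
    have := hcyc (n - (j + 1))
    rwa [show n - (j + 1) + 1 = n - j by omega] at this

end

section
variable {ι : Type*} [Finite ι] {p : ℕ} [Fact p.Prime] (a : ι → ℕ)

theorem zmod_p_torsion {a : ℕ} (ha : 1 ≤ a) (u : ZMod (p ^ a)) (h : (p : ZMod (p ^ a)) * u = 0) :
    ∃ t, u = (p : ZMod (p ^ a)) ^ (a - 1) * t := by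
  have hp := Fact.out (p := p.Prime)
  haveI : NeZero (p ^ a) := ⟨pow_ne_zero _ hp.ne_zero⟩
  have h1 : (p ^ a : ℕ) ∣ p * u.val := by
    rw [← ZMod.natCast_eq_zero_iff]
    push_cast
    rw [ZMod.natCast_zmod_val]; exact h
  have h2 : p ^ (a - 1) ∣ u.val := by
    have e : p ^ a = p * p ^ (a - 1) := by
      rw [← pow_succ']; congr 1; omega
    exact Nat.dvd_of_mul_dvd_mul_left hp.pos ((dvd_of_eq e.symm).trans h1)
  obtain ⟨t, ht⟩ := h2
  refine ⟨t, ?_⟩
  rw [← ZMod.natCast_zmod_val u, ht]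
  push_cast; rfl

/-- with distinct invariants the sections are cyclic. -/
theorem cycSec_of_injective (ha : Function.Injective a) (ha1 : ∀ i, 1 ≤ a i) (k : ℕ) :
    CycSec (Vk p (Multiplicative ((i : ι) → ZMod (p ^ a i))) (k + 1))
      (Vk p (Multiplicative ((i : ι) → ZMod (p ^ a i))) k) := by
  classical
  have hp := Fact.out (p := p.Prime)
  -- elements of `V_k` with zero component of order `p ^ (k+1)`
  have key : ∀ v : (i : ι) → ZMod (p ^ a i),
      Multiplicative.ofAdd v ∈ Vk p (Multiplicative ((i : ι) → ZMod (p ^ a i))) k →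
      (∀ i, a i = k + 1 → v i = 0) →
      Multiplicative.ofAdd v ∈ Vk p (Multiplicative ((i : ι) → ZMod (p ^ a i))) (k + 1) := by
    intro v hv h0
    obtain ⟨hvp, y, hy⟩ := hv
    refine ⟨hvp, ?_⟩
    have hvp' : ∀ i, (p : ZMod (p ^ a i)) * v i = 0 := by
      intro i
      have : p • v = 0 := hvp
      have := congrFun this i
      simpa [nsmul_eq_mul] using this
    have hy' : ∀ i, (p : ZMod (p ^ a i)) ^ k * (Multiplicative.toAdd y i) = v i := by
      intro i
      have : (p ^ k) • (Multiplicative.toAdd y) = v := hy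
      have := congrFun this i
      simpa [nsmul_eq_mul] using this
    have hz : ∀ i, ∃ z : ZMod (p ^ a i), (p : ZMod (p ^ a i)) ^ (k + 1) * z = v i := by
      intro i
      rcases lt_trichotomy (a i) (k + 1) with h | h | h
      · refine ⟨0, ?_⟩
        rw [mul_zero, ← hy' i]
        have : (p : ZMod (p ^ a i)) ^ k = 0 := by
          rw [← Nat.cast_pow, ZMod.natCast_eq_zero_iff]
          exact pow_dvd_pow p (by omega)
        rw [this, zero_mul]
      · exact ⟨0, by rw [mul_zero, h0 i h]⟩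
      · obtain ⟨t, ht⟩ := zmod_p_torsion (ha1 i) (v i) (hvp' i)
        refine ⟨(p : ZMod (p ^ a i)) ^ (a i - 1 - (k + 1)) * t, ?_⟩
        rw [ht, ← mul_assoc, ← pow_add]
        congr 2; omega
    choose z hz using hz
    refine ⟨Multiplicative.ofAdd z, ?_⟩
    show Multiplicative.ofAdd ((p ^ (k + 1)) • z) = Multiplicative.ofAdd v
    congr 1
    funext i
    rw [Pi.smul_apply, nsmul_eq_mul]
    push_cast
    exact hz i
  by_cases hi : ∃ i₀, a i₀ = k + 1
  · obtain ⟨i₀, hi₀⟩ := hi
    set x : (i : ι) → ZMod (p ^ a i) := Pi.single i₀ ((p : ZMod (p ^ a i₀)) ^ k) with hx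
    have hxV : Multiplicative.ofAdd x ∈ Vk p (Multiplicative ((i : ι) → ZMod (p ^ a i))) k := by
      refine ⟨?_, Multiplicative.ofAdd (Pi.single i₀ 1), ?_⟩
      · show Multiplicative.ofAdd (p • x) = Multiplicative.ofAdd 0
        congr 1
        rw [hx, ← Pi.single_smul, nsmul_eq_mul, ← pow_succ']
        have : (p : ZMod (p ^ a i₀)) ^ (k + 1) = 0 := by
          rw [← Nat.cast_pow, ZMod.natCast_eq_zero_iff, hi₀]
        rw [this, Pi.single_zero]
      · show Multiplicative.ofAdd ((p ^ k) • (Pi.single i₀ 1 : (i : ι) → ZMod (p ^ a i))) =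
          Multiplicative.ofAdd x
        congr 1
        rw [hx, ← Pi.single_smul, nsmul_eq_mul, mul_one]
        push_cast; rfl
    refine CycSec.of_sup inferInstance (Multiplicative.ofAdd x) (le_antisymm ?_ ?_)
    · intro v hv
      obtain ⟨hvp, y, hy⟩ := id hv
      haveI : NeZero (p ^ a i₀) := ⟨pow_ne_zero _ hp.ne_zero⟩
      set c := (Multiplicative.toAdd y i₀).val with hc
      have h1 : v * ((Multiplicative.ofAdd x) ^ c)⁻¹ ∈
          Vk p (Multiplicative ((i : ι) → ZMod (p ^ a i))) (k + 1) := by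
        have e : v * ((Multiplicative.ofAdd x) ^ c)⁻¹ =
            Multiplicative.ofAdd (Multiplicative.toAdd v - c • x) := by
          rw [sub_eq_add_neg]; rfl
        rw [e]
        apply key
        · rw [← e]
          exact mul_mem hv (inv_mem (pow_mem hxV c))
        · intro i hi
          have : i = i₀ := ha (hi.trans hi₀.symm)
          subst this
          have h2 : (p ^ k) • (Multiplicative.toAdd y) = Multiplicative.toAdd v := hy
          have h3 := congrFun h2 i
          rw [Pi.smul_apply, nsmul_eq_mul] at h3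
          push_cast at h3
          rw [Pi.sub_apply, Pi.smul_apply, ← h3, hx, Pi.single_eq_same, nsmul_eq_mul, hc,
            ZMod.natCast_zmod_val, mul_comm, sub_self]
      have e2 : v = (v * ((Multiplicative.ofAdd x) ^ c)⁻¹) * (Multiplicative.ofAdd x) ^ c := by
        rw [inv_mul_cancel_right]
      rw [e2]
      exact mul_mem (Subgroup.mem_sup_left h1)
        (Subgroup.mem_sup_right (Subgroup.npow_mem_zpowers _ c))
    · refine sup_le ?_ (by rwa [Subgroup.zpowers_le])
      rintro v ⟨hv, y, hy⟩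
      exact ⟨hv, y ^ p, by rw [← pow_mul, ← pow_succ']; exact hy⟩
  · push Not at hi
    refine CycSec.of_sup inferInstance 1 (le_antisymm ?_ ?_)
    · intro v hv
      exact Subgroup.mem_sup_left (key (Multiplicative.toAdd v) hv fun i h => absurd h (hi i))
    · refine sup_le ?_ (by rw [Subgroup.zpowers_le]; exact one_mem _)
      rintro v ⟨hv, y, hy⟩
      exact ⟨hv, y ^ p, by rw [← pow_mul, ← pow_succ']; exact hy⟩

end

end Cfsg.Agent.H13
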