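import Mathlib
import Cfsg.Agent.FT
import Cfsg.Agent.H1.SchurZassenhausConj
import Cfsg.Agent.H1.Hall
import Cfsg.Agent.H1.Basic
import Cfsg.Agent.H1.Coprime
import Cfsg.Prelude.Def_OddOrderLocal
import Cfsg.Prelude.Def_HallClasses

/-!
# General Schur–Zassenhaus conjugacy (via the odd order theorem)

Besides the conjugacy theorem itself: the two-step form relative to a normal subgroup, and closure of
the class `C_π` under extensions.
-/

set_option autoImplicit false
set_option linter.all false

namespace Cfsg.Agent.H13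

open Subgroup
open scoped Pointwise

/-- of two finite groups of coprime orders one is solvable. -/
theorem solvable_or_of_coprime {A B : Type*} [Group A] [Group B] [Finite A] [Finite B]
    (h : (Nat.card A).Coprime (Nat.card B)) : Group.IsSolvable A ∨ Group.IsSolvable B := by
  rcases Nat.even_or_odd (Nat.card A) with h1 | h1
  · right
    refine FT.odd_order ?_
    rcases Nat.even_or_odd (Nat.card B) with h2 | h2
    · exfalso
      have := Nat.dvd_gcd h1.two_dvd h2.two_dvd
      rw [h] at this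
      omega
    · exact h2
  · left; exact FT.odd_order h1

/-- Schur–Zassenhaus, conjugacy part, without solvability. -/
theorem sz_conj_ft {G : Type*} [Group G] [Finite G] (N : Subgroup G) [N.Normal]
    (hcop : (Nat.card N).Coprime N.index) (H K : Subgroup G) (hH : Nat.card H = N.index)
    (hK : Nat.card K = N.index) : ∃ g ∈ N, MulAut.conj g • H = K :=
  H1.sz_conj_mem N hcop (solvable_or_of_coprime (by rwa [Subgroup.index_eq_card] at hcop)) H K hH hK

/-- relative version inside `N ⊔ K`. -/
theorem sz_conj_rel_ft {G : Type*} [Group G] [Finite G] (N H K : Subgroup G)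
    (hKN : K ≤ normalizer (N : Set G)) (hcop : (Nat.card N).Coprime (Nat.card K))
    (hcard : Nat.card H = Nat.card K) (hsup : H ≤ N ⊔ K) :
    ∃ n ∈ N, MulAut.conj n • H = K :=
  H1.sz_conj_rel N H K hKN hcop (solvable_or_of_coprime hcop) hcard hsup

/-- existence: above a normal subgroup `A₁` which is a Hall subgroup of the normal subgroup `B`. -/
theorem sz_exists_above {M : Type*} [Group M] [Finite M] (A₁ B : Subgroup M) [A₁.Normal] [B.Normal]
    (h : A₁ ≤ B) (hcop : (A₁.relIndex B).Coprime B.index) :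
    ∃ H : Subgroup M, A₁ ≤ H ∧ A₁.relIndex H = B.index := by
  have hc : (Nat.card (B.map (QuotientGroup.mk' A₁))).Coprime (B.map (QuotientGroup.mk' A₁)).index := by
    rw [H1.card_map_mk', H1.index_map_mk' _ _ h]; exact hcop
  obtain ⟨L, hL⟩ := Subgroup.exists_right_complement'_of_coprime hc
  refine ⟨L.comap (QuotientGroup.mk' A₁), ?_, ?_⟩
  · intro x hx
    rw [Subgroup.mem_comap]
    have : (QuotientGroup.mk' A₁) x = 1 := (QuotientGroup.eq_one_iff x).mpr hx
    rw [this]; exact one_mem _
  · rw [← H1.card_map_mk', Subgroup.map_comap_eq_self_of_surjective (QuotientGroup.mk'_surjective A₁)]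
    rw [← hL.symm.index_eq_card, H1.index_map_mk' _ _ h]

/-- conjugacy above a normal subgroup `A₁` which is a Hall subgroup of the normal subgroup `B`. -/
theorem sz_conj_above {M : Type*} [Group M] [Finite M] (A₁ B : Subgroup M) [A₁.Normal] [B.Normal]
    (h : A₁ ≤ B) (hcop : (A₁.relIndex B).Coprime B.index) (H K : Subgroup M)
    (hH : A₁ ≤ H) (hK : A₁ ≤ K) (cH : A₁.relIndex H = B.index) (cK : A₁.relIndex K = B.index) :
    ∃ g ∈ B, MulAut.conj g • H = K := by
  have hc : (Nat.card (B.map (QuotientGroup.mk' A₁))).Coprime (B.map (QuotientGroup.mk' A₁)).index := by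
    rw [H1.card_map_mk', H1.index_map_mk' _ _ h]; exact hcop
  obtain ⟨x, hx, hxx⟩ := sz_conj_ft (B.map (QuotientGroup.mk' A₁)) hc (H.map (QuotientGroup.mk' A₁))
    (K.map (QuotientGroup.mk' A₁)) (by rw [H1.card_map_mk', H1.index_map_mk' _ _ h, cH])
    (by rw [H1.card_map_mk', H1.index_map_mk' _ _ h, cK])
  obtain ⟨g, hg, rfl⟩ := hx
  refine ⟨g, hg, H1.conj_smul_of_map (f := QuotientGroup.mk' A₁) ?_ ?_ g hxx⟩
  · rw [QuotientGroup.ker_mk']; exact hH
  · rw [QuotientGroup.ker_mk']; exact hK

theorem map_conj_eq_smul {G : Type*} [Group G] (g : G) (H : Subgroup G) :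
    H.map (MulAut.conj g).toMonoidHom = MulAut.conj g • H := rfl

/-- a number all of whose prime divisors are in `π` is prime to one with none. -/
theorem coprime_of_pi {π : Set ℕ} {m n : ℕ} (hm : ∀ p : ℕ, p.Prime → p ∣ m → p ∈ π)
    (hn : ∀ p : ℕ, p.Prime → p ∈ π → ¬ p ∣ n) : m.Coprime n :=
  Nat.Coprime.symm (Nat.coprime_of_dvd fun p hp h1 h2 => hn p hp (hm p hp h2) h1)

theorem card_eq_of_hall {G : Type*} [Group G] [Finite G] {π : Set ℕ} {H K : Subgroup G}
    (hH : Cfsg.IsPiHall π H) (hK : Cfsg.IsPiHall π K) : Nat.card H = Nat.card K := by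
  have key : ∀ {H K : Subgroup G}, Cfsg.IsPiHall π H → Cfsg.IsPiHall π K → Nat.card H ∣ Nat.card K := by
    intro H K hH hK
    have h1 : Nat.card H ∣ Nat.card K * K.index := by
      rw [Subgroup.card_mul_index]; exact Subgroup.card_subgroup_dvd_card H
    exact (coprime_of_pi hH.1 hK.2).dvd_of_dvd_mul_right h1
  exact Nat.dvd_antisymm (key hH hK) (key hK hH)

theorem card_dvd_of_hall {G : Type*} [Group G] [Finite G] {π : Set ℕ} {H U : Subgroup G}
    (hH : Cfsg.IsPiHall π H) (hU : ∀ p : ℕ, p.Prime → p ∣ Nat.card U → p ∈ π) :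
    Nat.card U ∣ Nat.card H := by
  have h1 : Nat.card U ∣ Nat.card H * H.index := by
    rw [Subgroup.card_mul_index]; exact Subgroup.card_subgroup_dvd_card U
  exact (coprime_of_pi hU hH.2).dvd_of_dvd_mul_right h1

theorem relIndex_eq_relIndex_sup {G : Type*} [Group G] [Finite G] (H A : Subgroup G) [A.Normal] :
    H.relIndex A = H.relIndex (H ⊔ A) := by
  have h1 := H1.card_sup_mul_card_inf_of_le_normalizer (H := A) (K := H)
    (by rw [Subgroup.normalizer_eq_top]; exact le_top)
  have h2 := H1.card_mul_relIndex_aux (le_sup_left : H ≤ H ⊔ A)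
  have h3 := H1.card_mul_relIndex_aux (inf_le_right : H ⊓ A ≤ A)
  rw [Subgroup.inf_relIndex_right] at h3
  have e1 : (A ⊔ H : Subgroup G) = H ⊔ A := sup_comm _ _
  have e2 : (A ⊓ H : Subgroup G) = H ⊓ A := inf_comm _ _
  rw [e1, e2, ← h2, ← h3] at h1
  have hp : 0 < Nat.card H := Nat.card_pos
  have hq : 0 < Nat.card (H ⊓ A : Subgroup G) := Nat.card_pos
  have : (Nat.card H * Nat.card (H ⊓ A : Subgroup G)) * H.relIndex (H ⊔ A) =
      (Nat.card H * Nat.card (H ⊓ A : Subgroup G)) * H.relIndex A := by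
    linarith [h1, mul_comm (Nat.card (H ⊓ A : Subgroup G) * H.relIndex A) (Nat.card H)]
  exact (Nat.eq_of_mul_eq_mul_left (Nat.mul_pos hp hq) this).symm

theorem relIndex_dvd_index_right {G : Type*} [Group G] [Finite G] (H A : Subgroup G) [A.Normal] :
    H.relIndex A ∣ H.index := by
  rw [relIndex_eq_relIndex_sup]
  exact Dvd.intro _ (Subgroup.relIndex_mul_index le_sup_left)

/-- the traces of a Hall subgroup on a normal subgroup and on the quotient. -/
theorem hall_inf {G : Type*} [Group G] [Finite G] {π : Set ℕ} {H : Subgroup G}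
    (hH : Cfsg.IsPiHall π H) (A : Subgroup G) [A.Normal] :
    Cfsg.IsPiHall π (H.subgroupOf A) := by
  refine ⟨fun p hp hd => hH.1 p hp (hd.trans ?_), fun p hp hpi hd => hH.2 p hp hpi (hd.trans ?_)⟩
  · rw [← Subgroup.inf_subgroupOf_right, H1.card_subgroupOf inf_le_right]
    exact H1.card_dvd_of_le' inf_le_left
  · exact relIndex_dvd_index_right H A

theorem hall_map {G : Type*} [Group G] [Finite G] {π : Set ℕ} {H : Subgroup G}
    (hH : Cfsg.IsPiHall π H) (A : Subgroup G) [A.Normal] :
    Cfsg.IsPiHall π (H.map (QuotientGroup.mk' A)) := by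
  refine ⟨fun p hp hd => hH.1 p hp (hd.trans ?_), fun p hp hpi hd => hH.2 p hp hpi (hd.trans ?_)⟩
  · exact Subgroup.card_map_dvd H _
  · exact Subgroup.index_map_dvd H (QuotientGroup.mk'_surjective A)

end Cfsg.Agent.H13
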