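import Mathlib
import Cfsg.Agent.H13.SZ
import Cfsg.Agent.H23.Coprime4

/-!
# From an action `A` on `G` by automorphisms to the semidirect product
-/

set_option autoImplicit false
set_option linter.all false

namespace Cfsg.Agent.H13

open Subgroup
open scoped Pointwise

section
variable (A G : Type*) [Group A] [Group G] [MulDistribMulAction A G]

/-- the semidirect product of an action by automorphisms. -/
abbrev SP := G ⋊[MulDistribMulAction.toMulAut A G] A

/-- the embedding of `G`. -/
abbrev iG : G →* SP A G := SemidirectProduct.inl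

/-- the embedding of `A`. -/
abbrev iA : A →* SP A G := SemidirectProduct.inr

/-- the copy of `G`. -/
def gS : Subgroup (SP A G) := (iG A G).range

/-- the copy of `A`. -/
def aS : Subgroup (SP A G) := (iA A G).range

instance finite_sp [Finite A] [Finite G] : Finite (SP A G) :=
  Finite.of_equiv (G × A) (SemidirectProduct.equivProd (φ := MulDistribMulAction.toMulAut A G)).symm

theorem iG_injective : Function.Injective (iG A G) := SemidirectProduct.inl_injective
theorem iA_injective : Function.Injective (iA A G) := SemidirectProduct.inr_injective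

instance gS_normal : (gS A G).Normal := by
  rw [gS, SemidirectProduct.range_inl_eq_ker_rightHom]; infer_instance

theorem card_gS : Nat.card (gS A G) = Nat.card G :=
  Nat.card_congr (MonoidHom.ofInjective (iG_injective A G)).symm.toEquiv

theorem card_aS : Nat.card (aS A G) = Nat.card A :=
  Nat.card_congr (MonoidHom.ofInjective (iA_injective A G)).symm.toEquiv

theorem gS_sup_aS : gS A G ⊔ aS A G = ⊤ := by
  rw [eq_top_iff]
  intro x _
  have : x = SemidirectProduct.inl x.left * SemidirectProduct.inr x.right :=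
    (SemidirectProduct.inl_left_mul_inr_right x).symm
  rw [this]
  exact mul_mem (Subgroup.mem_sup_left ⟨_, rfl⟩) (Subgroup.mem_sup_right ⟨_, rfl⟩)

theorem aS_le : aS A G ≤ normalizer (gS A G : Set (SP A G)) := by
  rw [Subgroup.normalizer_eq_top]; exact le_top

end

variable {A G : Type*} [Group A] [Group G] [MulDistribMulAction A G]

theorem iA_mul_iG (a : A) (x : G) : iA A G a * iG A G x * (iA A G a)⁻¹ = iG A G (a • x) := by
  have := SemidirectProduct.inl_aut (φ := MulDistribMulAction.toMulAut A G) a x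
  rw [← map_inv]
  exact this.symm

theorem mem_map_iG {H : Subgroup G} {x : G} : iG A G x ∈ H.map (iG A G) ↔ x ∈ H :=
  Subgroup.mem_map_iff_mem (iG_injective A G)

theorem invariant_iff (H : Subgroup G) :
    (∀ a : A, ∀ x ∈ H, a • x ∈ H) ↔ aS A G ≤ normalizer ((H.map (iG A G) : Subgroup _) : Set (SP A G)) := by
  constructor
  · intro h
    refine H23.le_normalizer_of_conj_mem ?_
    rintro _ ⟨a, rfl⟩ _ ⟨x, hx, rfl⟩
    rw [iA_mul_iG]
    exact ⟨_, h a x hx, rfl⟩
  · intro h a x hx
    have := H23.mem_normalizer_conj h (a := iA A G a) (g := iG A G x) ⟨a, rfl⟩ ⟨x, hx, rfl⟩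
    rw [iA_mul_iG] at this
    exact mem_map_iG.mp this

theorem map_comap_iG {K : Subgroup (SP A G)} (h : K ≤ gS A G) :
    (K.comap (iG A G)).map (iG A G) = K := by
  rw [Subgroup.map_comap_eq]
  exact inf_eq_right.mpr h

theorem map_iG_le (H : Subgroup G) : H.map (iG A G) ≤ gS A G := by
  rintro _ ⟨x, _, rfl⟩; exact ⟨x, rfl⟩

theorem map_iG_top : (⊤ : Subgroup G).map (iG A G) = gS A G := by
  rw [gS, MonoidHom.range_eq_map]

theorem map_iG_lt {H K : Subgroup G} : H.map (iG A G) < K.map (iG A G) ↔ H < K :=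
  Subgroup.map_lt_map_iff_of_injective (iG_injective A G)

/-- equivalence of a subgroup with its image. -/
noncomputable def mapIGEquiv (H : Subgroup G) : H ≃* (H.map (iG A G) : Subgroup (SP A G)) :=
  H.equivMapOfInjective (iG A G) (iG_injective A G)

theorem nilpotent_of_maximal [Finite A] [Finite G]
    (hmax : ∀ H : Subgroup G, H ≠ ⊤ → (∀ a : A, ∀ x ∈ H, a • x ∈ H) →
      (∀ K : Subgroup G, H < K → (∀ a : A, ∀ x ∈ K, a • x ∈ K) → K = ⊤) → Group.IsNilpotent H)
    (H : Subgroup G) (hH : H ≠ ⊤) (hinv : ∀ a : A, ∀ x ∈ H, a • x ∈ H) : Group.IsNilpotent H := by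
  obtain ⟨M, hHM, hM⟩ := (Set.toFinite {K : Subgroup G | K ≠ ⊤ ∧ ∀ a : A, ∀ x ∈ K, a • x ∈ K}).exists_le_maximal
    (show H ∈ _ from ⟨hH, hinv⟩)
  have hn : Group.IsNilpotent M := by
    refine hmax M hM.prop.1 hM.prop.2 fun K hK hKi => ?_
    by_contra hne
    exact absurd (hM.le_of_ge ⟨hne, hKi⟩ hK.le) (not_le_of_gt hK)
  exact H1.isNilpotent_of_le hHM hn

end Cfsg.Agent.H13
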