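import Mathlib
import Cfsg.Agent.H13.FusCtl2

/-!
# Control of fusion by elements of small order, III
-/

set_option autoImplicit false
set_option linter.all false
open Cfsg Cfsg.FusionSystem

namespace Cfsg.Agent.H13

open Cfsg.Agent.H28

variable {Ω : Type*} [Group Ω] {S : Subgroup Ω} {F : FusionSystem S} {p : ℕ} [Fact p.Prime] [Finite S]
  {P Q : Subgroup Ω}

theorem normal_of_hyp_control (hS : IsPGroup p S) (hF : F.IsSaturated p)
    (h : ∀ A B : Subgroup Ω, A ≤ (F.hyperfocalSubgroup p) → B ≤ (F.hyperfocalSubgroup p) →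
      IsCyclic ↥A → (Nat.card ↥A = p ∨ Nat.card ↥A = 4) → IsCyclic ↥B →
      (Nat.card ↥B = p ∨ Nat.card ↥B = 4) → F.homSet A B ⊆ F.normalizerHom S A) :
    F.IsNormal S := by
  refine normal_top_of_no_essential hS hF fun P hP => ?_
  have hPS := hP.1.1
  obtain ⟨D₁, hDP, hDX, hexp, hinv, hdet⟩ := exists_detect hS hPS (hyp_stronglyClosed hS hF) le_rfl
  obtain ⟨n, hn⟩ := exists_ucs_eq hS
  have hconj : ∀ s ∈ S, s ∈ Subgroup.normalizer (P : Set Ω) → ∀ x ∈ D₁, s * x * s⁻¹ ∈ D₁ := by
    intro s hs hsN x hx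
    have h1 := hinv _ (autInducedBy_le hPS le_rfl (conjAut_mem hsN hs)) x hx
    rwa [autFun_conjAut hsN (hDP hx)] at h1
  refine essential_false_of_chain hS hF hP hDP hdet (fun j => D₁ ⊓ ucs S j) n ?_ ?_ ?_ ?_ ?_
  · show D₁ ⊓ ucs S 0 = ⊥
    rw [ucs_zero, inf_bot_eq]
  · show D₁ ≤ D₁ ⊓ ucs S n
    rw [hn]; exact le_inf le_rfl (hDP.trans hPS)
  · exact fun j => inf_le_left.trans hDP
  · rintro j α hα x ⟨hx, hxj⟩
    have h1 := hinv α hα x hx
    refine ⟨h1, ?_⟩
    obtain ⟨β, hβ, hβx⟩ := exists_top_aut h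
      ((mor_autFun hPS hα).mono (by rw [Subgroup.zpowers_le]; exact hDP hx)) (hDX hx)
      (hDX h1) (hexp x hx)
    show autFun α x ∈ ucs S j
    rw [hβx]
    exact ucs_autFun β hxj
  · rintro s hs hsN j x ⟨hx, hxj⟩
    exact ⟨mul_mem (D₁.inv_mem hx) (hconj s hs hsN x hx), ucs_comm hxj hs⟩

omit [Finite S] in
theorem inner_subset_normalizerHom {A : Subgroup Ω} :
    (innerFusionSystem S).Hom A ⊆ F.normalizerHom S A := by
  intro φ hφ
  have h1 : Mor (innerFusionSystem S) A (toFun φ) := mor_toFun hφ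
  obtain ⟨hAS, g, hg, hgf⟩ := mor_inner.1 h1
  have hle : A ⊔ S ≤ S := sup_le hAS le_rfl
  have hSN : ∀ x ∈ S, x ∈ normalizerIn S S := fun x hx => ⟨hx, Subgroup.le_normalizer hx⟩
  have hφS : ∀ x : A, φ x ∈ S := fun x => by
    rw [← toFun_coe]; exact h1.mem x.2
  refine ⟨?_, fun x hx => hSN x (hAS hx), fun x => hSN _ (hφS x), conjHom (A ⊔ S) g,
    F.conj_mem hle hg, ?_, ?_⟩
  · exact (inner_le (F := F)) A hφ
  · intro x
    show g * (x : Ω) * g⁻¹ = φ x
    rw [← toFun_coe, hgf x x.2]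
  · rw [map_subgroupOf_eq_img (g := fun x => g * x * g⁻¹) (fun x => rfl) le_sup_right, img_conj]
    exact Subgroup.mem_normalizer_iff_map_conj_eq.1 (Subgroup.le_normalizer hg)

theorem inner_of_hyp_control (hS : IsPGroup p S) (hF : F.IsSaturated p)
    (h : ∀ A B : Subgroup Ω, A ≤ (F.hyperfocalSubgroup p) → B ≤ (F.hyperfocalSubgroup p) →
      IsCyclic ↥A → (Nat.card ↥A = p ∨ Nat.card ↥A = 4) → IsCyclic ↥B →
      (Nat.card ↥B = p ∨ Nat.card ↥B = 4) → F.homSet A B ⊆ (innerFusionSystem S).Hom A) :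
    F = innerFusionSystem S := by
  have hN : F.IsNormal S := normal_of_hyp_control hS hF fun A B h1 h2 h3 h4 h5 h6 =>
    (h A B h1 h2 h3 h4 h5 h6).trans inner_subset_normalizerHom
  haveI : Finite S := inferInstance
  haveI := finite_mulAut (P := S)
  have hp : IsPGroup p (F.autGroup S) := by
    obtain ⟨D₁, hDP, hDX, hexp, hinv, hdet⟩ :=
      exists_detect hS (le_refl S) (hyp_stronglyClosed hS hF) le_rfl
    obtain ⟨n, hn⟩ := exists_ucs_eq hS
    refine isPGroup_of_coprime_trivial fun a ha => ?_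
    have h1 : (orderOf (a : MulAut S)).Coprime p := by
      rw [Subgroup.orderOf_coe]; exact ha
    refine Subtype.ext (hdet _ a.2 h1 ?_)
    have h2 := fix_of_chain hS h1 (fun j => D₁ ⊓ ucs S j) (fun j => inf_le_left.trans hDP)
      (by show D₁ ⊓ ucs S 0 = ⊥; rw [ucs_zero, inf_bot_eq]) ?_ n
    · intro x hx
      refine h2 x ⟨hx, ?_⟩
      rw [hn]; exact hDP hx
    · rintro j x ⟨hx, hxj⟩
      have h3 := hinv _ a.2 x hx
      refine ⟨mul_mem (D₁.inv_mem hx) h3, ?_⟩
      show x⁻¹ * autFun (a : MulAut S) x ∈ ucs S j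
      by_cases hx1 : x = 1
      · have e : autFun (a : MulAut S) x = 1 := by
          rw [hx1]; exact (mor_autFun le_rfl a.2).one
        rw [e, hx1]; simp
      have hm := (mor_autFun le_rfl a.2).mono
        (show Subgroup.zpowers x ≤ S by rw [Subgroup.zpowers_le]; exact hDP hx)
      have hxz := Subgroup.mem_zpowers x
      have hfx1 : autFun (a : MulAut S) x ≠ 1 := fun h => hx1 (hm.eq_one hxz h)
      obtain ⟨φ, hφ, hφf⟩ := hm
      have h4 := h (Subgroup.zpowers x) (Subgroup.zpowers (autFun (a : MulAut S) x))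
        (by rw [Subgroup.zpowers_le]; exact hDX hx)
        (by rw [Subgroup.zpowers_le]; exact hDX h3) inferInstance (card_zpowers_small (hexp x hx) hx1)
        inferInstance (card_zpowers_small (hexp _ h3) hfx1)
      have hmem : φ ∈ F.homSet (Subgroup.zpowers x) (Subgroup.zpowers (autFun (a : MulAut S) x)) := by
        refine ⟨hφ, ?_⟩
        rintro ⟨y, hy⟩
        obtain ⟨k, rfl⟩ := Subgroup.mem_zpowers_iff.1 hy
        have : (⟨x ^ k, hy⟩ : Subgroup.zpowers x) = ⟨x, hxz⟩ ^ k := rfl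
        rw [this, map_zpow, hφf]
        exact Subgroup.zpow_mem _ (Subgroup.mem_zpowers _) k
      obtain ⟨-, g, hg, hgf⟩ := mor_inner.1 (mor_toFun (h4 hmem))
      have h5 := hgf x hxz
      rw [toFun_apply φ hxz, hφf] at h5
      rw [show autFun (a : MulAut S) x = g * x * g⁻¹ from h5]
      exact ucs_comm hxj hg
  have hInn := autGroup_top_eq_Inn hS hF hp
  apply fs_le_antisymm
  · rw [le_iff_mor]
    intro P f hf
    obtain ⟨α, hα, hαf⟩ := normal_self_iff.1 hN P f hf
    rw [hInn] at hα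
    obtain ⟨g, hg, hgα⟩ := mem_Inn.1 hα
    refine mor_inner.2 ⟨hf.le, g, hg, fun x hx => ?_⟩
    rw [hαf x hx, hgα x (hf.le hx)]
  · exact inner_le

/-- every small cyclic subgroup of the focal subgroup is normal in `S`. -/
theorem normal_of_foc_small (hS : IsPGroup p S) (hF : F.IsSaturated p)
    (hnorm : ∀ x ∈ F.focalSubgroup, (x ^ p = 1 ∨ (p = 2 ∧ x ^ 4 = 1)) →
      ∀ s ∈ S, s * x * s⁻¹ ∈ Subgroup.zpowers x) : F.IsNormal S := by
  have hp := Fact.out (p := p.Prime)
  refine normal_top_of_no_essential hS hF fun P hP => ?_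
  have hPS := hP.1.1
  obtain ⟨D₁, hDP, hDX, hexp, hinv, hdet⟩ := exists_detect hS hPS (foc_stronglyClosed hS hF)
    hyp_le_foc
  haveI : Finite P := finite_of_le hPS
  haveI := finite_mulAut (P := P)
  have hPp := isPGroup_of_le hS hPS
  have hmul : ∀ α : MulAut P, ∀ x ∈ P, ∀ y ∈ P, autFun α (x * y) = autFun α x * autFun α y := by
    intro α u hu v hv
    rw [autFun_apply _ (mul_mem hu hv), autFun_apply _ hu, autFun_apply _ hv]
    have : (⟨u * v, mul_mem hu hv⟩ : P) = ⟨u, hu⟩ * ⟨v, hv⟩ := rfl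
    rw [this, map_mul]; rfl
  have hinv' : ∀ α : MulAut P, ∀ x ∈ P, autFun α x⁻¹ = (autFun α x)⁻¹ := by
    intro α u hu
    rw [autFun_apply _ (P.inv_mem hu), autFun_apply _ hu]
    have : (⟨u⁻¹, P.inv_mem hu⟩ : P) = (⟨u, hu⟩ : P)⁻¹ := rfl
    rw [this, map_inv]; rfl
  let K : Subgroup (F.autGroup P) :=
    { carrier := {α | ∀ x ∈ D₁, autFun (α : MulAut P) x = x ∨ autFun (α : MulAut P) x = x⁻¹ ∧ p = 2}
      one_mem' := fun x hx => Or.inl (autFun_one (hDP hx))
      mul_mem' := by
        intro α β hα hβ x hx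
        have e : autFun ((α * β : F.autGroup P) : MulAut P) x =
          autFun (α : MulAut P) (autFun (β : MulAut P) x) := autFun_mul _ _ (hDP hx)
        rw [e]
        rcases hβ x hx with h | ⟨h, h2⟩
        · rw [h]; exact hα x hx
        · rw [h, hinv' _ _ (hDP hx)]
          rcases hα x hx with h' | ⟨h', -⟩
          · rw [h']; exact Or.inr ⟨rfl, h2⟩
          · rw [h', inv_inv]; exact Or.inl rfl
      inv_mem' := by
        intro α hα x hx
        rcases hα x hx with h | ⟨h, h2⟩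
        · left
          have := autFun_inv_apply (α : MulAut P) (hDP hx)
          rwa [h] at this
        · right
          refine ⟨?_, h2⟩
          have := autFun_inv_apply (α : MulAut P) (hDP hx)
          rw [h, hinv' _ _ (hDP hx), inv_eq_iff_eq_inv] at this
          exact this }
  have hK : ∀ α : F.autGroup P, α ∈ K ↔ ∀ x ∈ D₁, autFun (α : MulAut P) x = x ∨
      autFun (α : MulAut P) x = x⁻¹ ∧ p = 2 := fun α => Iff.rfl
  refine essential_no_normal hS hF hP K ⟨?_⟩ ?_ ?_
  · intro α hα γ x hx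
    have h1 := hinv _ (F.autGroup P |>.inv_mem γ.2) x hx
    have e : autFun ((γ * α * γ⁻¹ : F.autGroup P) : MulAut P) x =
      autFun (γ : MulAut P) (autFun (α : MulAut P) (autFun (γ : MulAut P)⁻¹ x)) := by
      rw [show ((γ * α * γ⁻¹ : F.autGroup P) : MulAut P) =
        (γ : MulAut P) * ((α : MulAut P) * (γ : MulAut P)⁻¹) from mul_assoc _ _ _,
        autFun_mul _ _ (hDP hx), autFun_mul _ _ (hDP hx)]
    rw [e]
    rcases hα _ h1 with h | ⟨h, h2⟩
    · left; rw [h, autFun_apply_inv _ (hDP hx)]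
    · right
      rw [h, hinv' _ _ (hDP h1), autFun_apply_inv _ (hDP hx)]
      exact ⟨rfl, h2⟩
  · refine isPGroup_of_coprime_trivial fun a ha => ?_
    have h1 : (orderOf ((a : F.autGroup P) : MulAut P)).Coprime p := by
      rw [Subgroup.orderOf_coe, Subgroup.orderOf_coe]; exact ha
    refine Subtype.ext (Subtype.ext (hdet _ a.1.2 h1 fun x hx => ?_))
    rcases (hK _).1 a.2 x hx with h | ⟨h, h2⟩
    · exact h
    · -- `a` has odd order and `a ^ 2` fixes `x`
      set b : MulAut P := ((a : F.autGroup P) : MulAut P) with hb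
      have h3 : autFun (b ^ 2) x = x := by
        rw [pow_two, autFun_mul _ _ (hDP hx), h, hinv' _ _ (hDP hx), h, inv_inv]
      have h4 : ∀ n : ℕ, autFun ((b ^ 2) ^ n) x = x := by
        intro n
        induction n with
        | zero => rw [pow_zero, autFun_one (hDP hx)]
        | succ n ih => rw [pow_succ, autFun_mul _ _ (hDP hx), h3, ih]
      rw [h2] at h1
      obtain ⟨m, hm⟩ := exists_pow_eq_self_of_coprime (G := MulAut P) (x := b) (n := 2) h1.symm
      have h5 := h4 m
      rw [hm] at h5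
      exact h5
  · intro α hα x hx
    rw [Subgroup.mem_subgroupOf] at hα
    obtain ⟨g, hg, hgα⟩ := mem_autInducedBy'.1 hα
    rw [hgα x (hDP hx)]
    have hx2 := hexp x hx
    by_cases h2 : p = 2
    · subst h2
      have h4 : x ^ 4 = 1 := by simpa [smallExp] using hx2
      have h5 := hnorm x (hDX hx) (Or.inr ⟨rfl, h4⟩) g hg
      obtain ⟨k, hk⟩ := (Subgroup.mem_zpowers_iff).1 h5
      have h6 : x ^ (k % 4) = g * x * g⁻¹ := by
        rw [← hk]
        conv_rhs => rw [← Int.emod_add_mul_ediv k 4, zpow_add, zpow_mul]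
        rw [show x ^ (4 : ℤ) = x ^ (4 : ℕ) from by norm_cast, h4, one_zpow, mul_one]
      have hk0 := Int.emod_nonneg k (show (4 : ℤ) ≠ 0 by norm_num)
      have hk4 := Int.emod_lt_of_pos k (show (0 : ℤ) < 4 by norm_num)
      have hord : orderOf (g * x * g⁻¹) = orderOf x := by
        have : g * x * g⁻¹ = MulAut.conj g x := rfl
        rw [this, MulEquiv.orderOf_eq]
      have : k % 4 = 0 ∨ k % 4 = 1 ∨ k % 4 = 2 ∨ k % 4 = 3 := by omega
      rcases this with h | h | h | h
      · rw [h, zpow_zero] at h6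
        left
        have hx1 : x = 1 := by
          have := h6.symm
          rw [mul_inv_eq_one] at this
          simpa using this
        rw [hx1]; simp
      · rw [h, zpow_one] at h6
        exact Or.inl h6.symm
      · rw [h] at h6
        -- then the order of `x` divides `2`
        have h7 : (g * x * g⁻¹) ^ 2 = 1 := by
          rw [← h6, show x ^ (2 : ℤ) = x ^ (2 : ℕ) from by norm_cast, ← pow_mul, h4]
        have h8 : orderOf x ∣ 2 := by rw [← hord]; exact orderOf_dvd_of_pow_eq_one h7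
        have h9 : x ^ 2 = 1 := orderOf_dvd_iff_pow_eq_one.1 h8
        have h10 : g * x * g⁻¹ = 1 := by
          rw [← h6, show x ^ (2 : ℤ) = x ^ (2 : ℕ) from by norm_cast, h9]
        have hx1 : x = 1 := by
          rw [mul_inv_eq_one] at h10
          simpa using h10
        left; rw [hx1]; simp
      · rw [h] at h6
        right
        refine ⟨?_, rfl⟩
        rw [← h6, eq_inv_iff_mul_eq_one, show x ^ (3 : ℤ) = x ^ (3 : ℕ) from by norm_cast,
          ← pow_succ, h4]
    · have hxp : x ^ p = 1 := by simpa [smallExp, h2] using hx2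
      left
      have h5 := hnorm x (hDX hx) (Or.inl hxp)
      -- `S` acts on `⟨x⟩` of order `p`
      haveI : Finite (Subgroup.zpowers x) := finite_of_le
        (show Subgroup.zpowers x ≤ S by rw [Subgroup.zpowers_le]; exact hPS (hDP hx))
      have hN : Subgroup.zpowers x ≤ S := by
        rw [Subgroup.zpowers_le]; exact hPS (hDP hx)
      by_cases hx1 : x = 1
      · rw [hx1]; simp
      have hcard : Nat.card (Subgroup.zpowers x) = p := by
        rw [Nat.card_zpowers]
        rcases (Nat.dvd_prime hp).1 (orderOf_dvd_of_pow_eq_one hxp) with h | h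
        · exact absurd (orderOf_eq_one_iff.1 h) hx1
        · exact h
      obtain ⟨k, hk⟩ := (Subgroup.mem_zpowers_iff).1 (h5 g hg)
      -- `g ^ n` conjugates `x` to `x ^ (k ^ n)`
      have hn : ∀ n : ℕ, g ^ n * x * (g ^ n)⁻¹ = x ^ (k ^ n) := by
        intro n
        induction n with
        | zero => simp
        | succ n ih =>
          rw [pow_succ', mul_inv_rev]
          have : g * g ^ n * x * ((g ^ n)⁻¹ * g⁻¹) = g * (g ^ n * x * (g ^ n)⁻¹) * g⁻¹ := by
            simp [mul_assoc]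
          rw [this, ih, show g * x ^ (k ^ n) * g⁻¹ = (g * x * g⁻¹) ^ (k ^ n) from
            conj_zpow.symm, ← hk, ← zpow_mul, pow_succ, mul_comm]
      obtain ⟨m, hm⟩ := hS ⟨g, hg⟩
      have hm' : g ^ p ^ m = 1 := congrArg Subtype.val hm
      have h6 := hn (p ^ m)
      rw [hm', one_mul, inv_one, mul_one] at h6
      have h7 : ((orderOf x : ℕ) : ℤ) ∣ k ^ p ^ m - 1 := by
        rw [orderOf_dvd_iff_zpow_eq_one, zpow_sub, ← h6, zpow_one, mul_inv_cancel]
      rw [← Nat.card_zpowers, hcard] at h7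
      have h8 : (p : ℤ) ∣ k - 1 := by
        have h9 := (ZMod.intCast_zmod_eq_zero_iff_dvd (k ^ p ^ m - 1) p).2 h7
        push_cast at h9
        rw [ZMod.pow_card_pow] at h9
        rw [← ZMod.intCast_zmod_eq_zero_iff_dvd]
        push_cast
        exact h9
      rw [← hk]
      have h10 : x ^ (k - 1) = 1 := by
        rw [← orderOf_dvd_iff_zpow_eq_one, ← Nat.card_zpowers, hcard]
        exact h8
      rw [zpow_sub, zpow_one, mul_inv_eq_one] at h10
      exact h10

end Cfsg.Agent.H13
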