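import Mathlib
import Cfsg.Agent.H13.CycSec
import Cfsg.Agent.H13.FusCtl3
import Cfsg.Agent.H13.ActSemi
import Cfsg.Agent.H1.Super2

/-!
# Supersoluble fusion systems
-/

set_option autoImplicit false
set_option linter.all false
open Cfsg Cfsg.FusionSystem

namespace Cfsg.Agent.H13

open Cfsg.Agent.H28

universe u

theorem ssc_of_pgroup {p : ℕ} [Fact p.Prime] (n : ℕ) : ∀ (G : Type u) [Group G] [Finite G]
    (R Y : Subgroup G) [R.Normal] [Y.Normal], Nat.card R = n → IsPGroup p R → IsPGroup p Y →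
    (∀ g : G, g ^ (p - 1) ∈ Y) → (∀ a b : G, a * b * a⁻¹ * b⁻¹ ∈ Y) → H1.SSC R := by
  have hp := Fact.out (p := p.Prime)
  induction n using Nat.strong_induction_on with
  | _ n ih =>
    intro G _ _ R Y _ _ hn hR hY hexp hcomm
    by_cases hR1 : R = ⊥
    · rw [hR1]; exact H1.SSC.bot
    have hcent : ∀ y ∈ Y, (orderOf y).Coprime p → y ∈ Subgroup.centralizer (R : Set G) := by
      intro y hy hc
      obtain ⟨k, hk⟩ := hY ⟨y, hy⟩
      have h1 : y ^ p ^ k = 1 := congrArg Subtype.val hk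
      have h2 := Nat.Coprime.eq_one_of_dvd (Nat.Coprime.pow_right k hc) (orderOf_dvd_of_pow_eq_one h1)
      rw [orderOf_eq_one_iff.1 h2]; exact one_mem _
    obtain ⟨N, hN, hNR, hcard⟩ := H19.exists_normal_prime_of_criterion R Y hR hR1 hexp hcomm hcent
    haveI := hN
    have hcyc : IsCyclic N := isCyclic_of_prime_card hcard
    have h1 : H1.SSC N := H1.ssc_of_isCyclic hN hcyc
    have hsurj := QuotientGroup.mk'_surjective N
    haveI : (R.map (QuotientGroup.mk' N)).Normal := Subgroup.Normal.map inferInstance _ hsurj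
    haveI : (Y.map (QuotientGroup.mk' N)).Normal := Subgroup.Normal.map inferInstance _ hsurj
    have hcomap : (R.map (QuotientGroup.mk' N)).comap (QuotientGroup.mk' N) = R := by
      rw [Subgroup.comap_map_eq, QuotientGroup.ker_mk', sup_eq_left]; exact hNR
    have hcc := H1.card_comap_mk' (R.map (QuotientGroup.mk' N))
    rw [hcomap, hcard] at hcc
    have hlt : Nat.card (R.map (QuotientGroup.mk' N)) < n := by
      rw [← hn, hcc]
      have h0 : 0 < Nat.card (R.map (QuotientGroup.mk' N)) := Nat.card_pos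
      nlinarith [hp.two_le]
    have h2 : H1.SSC (R.map (QuotientGroup.mk' N)) := by
      refine ih _ hlt (G ⧸ N) (R.map (QuotientGroup.mk' N)) (Y.map (QuotientGroup.mk' N)) rfl
        (hR.map _) (hY.map _) ?_ ?_
      · intro g
        obtain ⟨g, rfl⟩ := hsurj g
        rw [← map_pow]; exact ⟨_, hexp g, rfl⟩
      · intro a b
        obtain ⟨a, rfl⟩ := hsurj a
        obtain ⟨b, rfl⟩ := hsurj b
        rw [← map_inv, ← map_inv, ← map_mul, ← map_mul, ← map_mul]
        exact ⟨_, hcomm a b, rfl⟩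
    rw [← hcomap]
    exact H1.SSC.comap_mk' h1 h2

variable {Ω : Type*} [Group Ω] {S : Subgroup Ω} {F : FusionSystem S} {p : ℕ} [Fact p.Prime] [Finite S]
  {P Q : Subgroup Ω}

/-- the supersolubility condition. -/
def IsSSF (F : FusionSystem S) : Prop :=
  ∃ (m : ℕ) (c : Fin (m + 1) → Subgroup Ω), c 0 = ⊥ ∧ c (Fin.last m) = S ∧
    (∀ i : Fin (m + 1), F.StronglyClosed (c i)) ∧
    ∀ i : Fin m, c i.castSucc ≤ c i.succ ∧ ∃ x ∈ S, c i.succ = c i.castSucc ⊔ Subgroup.zpowers x

omit [Finite S] in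
theorem IsSSF.exists_nat (h : IsSSF F) : ∃ (m : ℕ) (C : ℕ → Subgroup Ω), C 0 = ⊥ ∧
    (∀ j, m ≤ j → C j = S) ∧ (∀ j, F.StronglyClosed (C j)) ∧
    ∀ j < m, CycSec (C j) (C (j + 1)) ∧ ∃ x ∈ S, C (j + 1) = C j ⊔ Subgroup.zpowers x := by
  obtain ⟨m, c, h0, hl, hsc, hst⟩ := h
  refine ⟨m, fun j => c ⟨min j m, by omega⟩, ?_, ?_, fun j => hsc _, ?_⟩
  · show c ⟨min 0 m, _⟩ = ⊥
    rw [← h0]; congr 1
  · intro j hj
    show c ⟨min j m, _⟩ = S
    rw [← hl]; congr 1; exact Fin.ext (by simp; omega)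
  · intro j hj
    have e1 : c ⟨min j m, by omega⟩ = c (⟨j, hj⟩ : Fin m).castSucc := by
      congr 1; exact Fin.ext (by simp; omega)
    have e2 : c ⟨min (j + 1) m, by omega⟩ = c (⟨j, hj⟩ : Fin m).succ := by
      congr 1; exact Fin.ext (by simp; omega)
    show CycSec (c ⟨min j m, _⟩) (c ⟨min (j + 1) m, _⟩) ∧ ∃ x ∈ S, c ⟨min (j + 1) m, _⟩ = c ⟨min j m, _⟩ ⊔ _
    rw [e1, e2]
    obtain ⟨hle, x, hx, hxe⟩ := hst ⟨j, hj⟩
    refine ⟨CycSec.of_sup ?_ x hxe, x, hx, hxe⟩
    refine ⟨fun n hn g => ?_⟩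
    rw [Subgroup.mem_subgroupOf] at hn ⊢
    exact sc_conj (hsc _) ((hsc _).1 g.2) hn

theorem normal_of_ssf (hS : IsPGroup p S) (hF : F.IsSaturated p) (h : IsSSF F) : F.IsNormal S := by
  obtain ⟨m, C, h0, hm, hsc, hst⟩ := h.exists_nat
  refine normal_top_of_no_essential hS hF fun P hP => ?_
  have hPS := hP.1.1
  haveI : Finite P := finite_of_le hPS
  haveI := finite_mulAut (P := P)
  have hPp := isPGroup_of_le hS hPS
  have hD : ∀ j, ∀ α ∈ F.autGroup P, ∀ x ∈ P, x ∈ P ⊓ C j → autFun α x ∈ P ⊓ C j :=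
    fun j α hα x hx hxj => ⟨autFun_mem α hx, sc_apply (hsc j) (mor_autFun hPS hα) hx hxj.2⟩
  have hpow : ∀ j, ∀ α ∈ F.autGroup P, Pres (P ⊓ C j) (P ⊓ C (j + 1)) (autFun α) :=
    fun j α hα => ⟨fun x hx => hD _ α hα x hx.1 hx,
      fun x hx y hy => (mor_autFun hPS hα).mul hx.1 hy.1, fun x hx hxj => hD _ α hα x hx.1 hxj⟩
  obtain ⟨-, R, hR⟩ := FN.fa hS hF hP.2.1
  set st := chainStab (F.autGroup P) (fun j => P ⊓ C j) hD with hst'
  have hsn : st.Normal := chainStab_normal
  have hsp : IsPGroup p st := isPGroup_chainStab hPp m (by show P ⊓ C 0 = ⊥; rw [h0, inf_bot_eq])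
    (by show P ≤ P ⊓ C m; rw [hm m le_rfl]; exact le_inf le_rfl hPS)
  have hsR : st ≤ (R : Subgroup (F.autGroup P)) :=
    (Cfsg.Agent.H1.le_pCore hsn hsp).trans (Cfsg.Agent.H1.pCore_le_sylow R)
  have hcomm : commutator (F.autGroup P) ≤ st := by
    rw [commutator_def, Subgroup.commutator_le]
    intro a _ b _
    show a * b * a⁻¹ * b⁻¹ ∈ st
    rw [mem_chainStab]
    intro j x hx hxj
    by_cases hj : j < m
    · have hy := hD (j + 1) _ (a⁻¹ * b⁻¹ : F.autGroup P).2 x hx hxj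
      have h1 := (((hst j hj).1).inf P).comm (hpow j _ b.2) (hpow j _ a.2) _ hy
      have e1 : autFun (b : MulAut P) (autFun (a : MulAut P)
          (autFun ((a⁻¹ * b⁻¹ : F.autGroup P) : MulAut P) x)) = x := by
        rw [← autFun_mul _ _ hx, ← autFun_mul _ _ hx]
        have : (b : MulAut P) * ((a : MulAut P) * ((a⁻¹ * b⁻¹ : F.autGroup P) : MulAut P)) = 1 := by
          show (b : MulAut P) * ((a : MulAut P) * ((a : MulAut P)⁻¹ * (b : MulAut P)⁻¹)) = 1
          rw [mul_inv_cancel_left, mul_inv_cancel]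
        rw [this, autFun_one hx]
      have e2 : autFun (a : MulAut P) (autFun (b : MulAut P)
          (autFun ((a⁻¹ * b⁻¹ : F.autGroup P) : MulAut P) x)) =
          autFun ((a * b * a⁻¹ * b⁻¹ : F.autGroup P) : MulAut P) x := by
        rw [← autFun_mul _ _ hx, ← autFun_mul _ _ hx]
        have : (a : MulAut P) * ((b : MulAut P) * ((a⁻¹ * b⁻¹ : F.autGroup P) : MulAut P)) =
            ((a * b * a⁻¹ * b⁻¹ : F.autGroup P) : MulAut P) := by
          show (a : MulAut P) * ((b : MulAut P) * ((a : MulAut P)⁻¹ * (b : MulAut P)⁻¹)) =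
            (a : MulAut P) * (b : MulAut P) * (a : MulAut P)⁻¹ * (b : MulAut P)⁻¹
          simp only [mul_assoc]
        rw [this]
      rw [e1, e2] at h1
      exact h1
    · have e : P ⊓ C j = P := by
        rw [hm j (by omega)]; exact inf_eq_left.2 hPS
      show _ ∈ P ⊓ C j
      rw [e]
      exact P.mul_mem (P.inv_mem hx) (autFun_mem _ hx)
  have hRn : (R : Subgroup (F.autGroup P)).Normal := by
    refine ⟨fun x hx g => ?_⟩
    have h1 : g * x * g⁻¹ * x⁻¹ ∈ (R : Subgroup (F.autGroup P)) :=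
      hsR (hcomm (Subgroup.commutator_mem_commutator (Subgroup.mem_top g) (Subgroup.mem_top x)))
    have h2 := mul_mem h1 hx
    simpa using h2
  exact essential_no_normal hS hF hP _ hRn R.isPGroup' hR.ge

theorem subgroupOf_sup_zpowers {N : Subgroup Ω} {x : Ω} (hN : N ≤ S) (hx : x ∈ S) :
    (N ⊔ Subgroup.zpowers x).subgroupOf S = N.subgroupOf S ⊔ Subgroup.zpowers ⟨x, hx⟩ := by
  apply Subgroup.map_injective S.subtype_injective
  have hx' : Subgroup.zpowers x ≤ S := by rwa [Subgroup.zpowers_le]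
  rw [map_subgroupOf_of_le (sup_le hN hx'), Subgroup.map_sup, map_subgroupOf_of_le hN,
    MonoidHom.map_zpowers]
  rfl

/-- if all saturated systems are supersoluble, then `p'`-groups of automorphisms are abelian of
exponent dividing `p - 1`. -/
theorem aut_of_all_ssf (hS : IsPGroup p S)
    (h : ∀ F : FusionSystem S, F.IsSaturated p → IsSSF F) (H : Subgroup (MulAut S))
    (hH : (Nat.card H).Coprime p) : IsMulCommutative H ∧ ∀ h ∈ H, h ^ (p - 1) = 1 := by
  haveI := finite_mulAut (P := S)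
  set A := Inn S ⊔ H with hA
  have hle : Inn S ≤ A := le_sup_left
  have hInn : (Inn S).Normal := ⟨fun α hα β => Inn_conj hα⟩
  have hm : ∀ α ∈ A, α ^ Nat.card H ∈ Inn S := by
    intro α hα
    rw [hA, Subgroup.mem_sup_of_normal_left] at hα
    obtain ⟨i, hi, k, hk, rfl⟩ := hα
    have h1 : (QuotientGroup.mk (i * k) : MulAut S ⧸ Inn S) = QuotientGroup.mk k := by
      rw [QuotientGroup.eq]
      have := hInn.conj_mem _ (inv_mem hi) k⁻¹
      simpa [mul_assoc] using this
    rw [← QuotientGroup.eq_one_iff, QuotientGroup.mk_pow, h1, ← QuotientGroup.mk_pow]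
    have h2 : k ^ Nat.card H = 1 := by
      have := pow_card_eq_one' (x := (⟨k, hk⟩ : H))
      exact congrArg Subtype.val this
    rw [h2]; rfl
  have hsat : (autSys S A hle).IsSaturated p := autSys_saturated hS hH hm
  obtain ⟨m, C, h0, hmS, hsc, hst⟩ := (h _ hsat).exists_nat
  have hCS : ∀ j, C j ≤ S := fun j => (hsc j).1
  refine abelian_exp_of_chain hS H hH ⊤ ?_ (fun j => (C j).subgroupOf S) m ?_ ?_ ?_ ?_
  · intro a _ ha
    exact MulEquiv.ext fun x => ha x trivial
  · show (C 0).subgroupOf S = ⊥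
    rw [h0, Subgroup.bot_subgroupOf]
  · show ⊤ ≤ (C m).subgroupOf S
    rw [hmS m le_rfl, Subgroup.subgroupOf_self]
  · intro j _ a ha x hx
    rw [Subgroup.mem_subgroupOf] at hx ⊢
    have h1 : Mor (autSys S A hle) S (autFun a) :=
      mor_autSys.2 ⟨le_rfl, a, (le_sup_right : H ≤ A) ha, fun _ _ => rfl⟩
    have h2 := sc_apply (hsc j) h1 x.2 hx
    rwa [autFun_coe] at h2
  · intro j hj
    obtain ⟨-, x, hx, hxe⟩ := hst j hj
    refine CycSec.of_sup ?_ ⟨x, hx⟩ ?_
    · refine ⟨fun n hn g => ?_⟩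
      rw [Subgroup.mem_subgroupOf, Subgroup.mem_subgroupOf] at hn ⊢
      exact sc_conj (hsc _) g.1.2 hn
    · show (C (j + 1)).subgroupOf S = _
      rw [hxe, subgroupOf_sup_zpowers (hCS j) hx]

/-- converse: a resistant group with good `p'`-automorphism groups. -/
theorem ssf_of_aut (hS : IsPGroup p S) (hF : F.IsSaturated p) (hN : F.IsNormal S)
    (hH : ∀ H : Subgroup (MulAut S), (Nat.card H).Coprime p →
      IsMulCommutative H ∧ ∀ h ∈ H, h ^ (p - 1) = 1) : IsSSF F := by
  haveI := finite_mulAut (P := S)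
  set A := F.autGroup S with hA
  obtain ⟨-, R, hR⟩ := FN.fa hS hF (fullyNormalized_top (F := F))
  rw [autInducedBy_self] at hR
  set I := (Inn S).subgroupOf A with hI
  haveI hIn : I.Normal := Inn_subgroupOf_normal
  have hIp : IsPGroup p I := by rw [← hR]; exact R.isPGroup'
  have hcop : (Nat.card I).Coprime I.index := by
    rw [← hR]; exact R.card_coprime_index
  have hidx : I.index.Coprime p := by
    have h1 := R.not_dvd_index' Subgroup.index_ne_zero_of_finite
    rw [hR] at h1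
    exact ((Nat.Prime.coprime_iff_not_dvd Fact.out).2 h1).symm
  obtain ⟨K, hK⟩ := Subgroup.exists_right_complement'_of_coprime hcop
  have hKc : (Nat.card (K.map A.subtype)).Coprime p := by
    rw [Subgroup.card_map_of_injective A.subtype_injective, ← hK.symm.index_eq_card]
    exact hidx
  obtain ⟨hKcomm, hKexp⟩ := hH _ hKc
  have hdec : ∀ a : A, ∃ k ∈ K, (QuotientGroup.mk a : A ⧸ I) = QuotientGroup.mk k := by
    intro a
    have h1 : a ∈ I ⊔ K := by rw [hK.sup_eq_top]; trivial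
    rw [Subgroup.mem_sup_of_normal_left] at h1
    obtain ⟨i, hi, k, hk, rfl⟩ := h1
    refine ⟨k, hk, ?_⟩
    rw [QuotientGroup.eq]
    have := hIn.conj_mem _ (inv_mem hi) k⁻¹
    simpa [mul_assoc] using this
  have hexpA : ∀ a : A, a ^ (p - 1) ∈ I := by
    intro a
    obtain ⟨k, hk, hak⟩ := hdec a
    rw [← QuotientGroup.eq_one_iff, QuotientGroup.mk_pow, hak, ← QuotientGroup.mk_pow]
    have h1 : k ^ (p - 1) = 1 := Subtype.ext (hKexp _ ⟨k, hk, rfl⟩)
    rw [h1]; rfl
  have hcommA : ∀ a b : A, a * b * a⁻¹ * b⁻¹ ∈ I := by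
    intro a b
    obtain ⟨k, hk, hak⟩ := hdec a
    obtain ⟨l, hl, hbl⟩ := hdec b
    have hkl : k * l = l * k := by
      have h1 := hKcomm.is_comm.comm ⟨(k : MulAut S), ⟨k, hk, rfl⟩⟩ ⟨(l : MulAut S), ⟨l, hl, rfl⟩⟩
      exact Subtype.ext (congrArg (fun z : K.map A.subtype => (z : MulAut S)) h1)
    rw [← QuotientGroup.eq_one_iff, QuotientGroup.mk_mul, QuotientGroup.mk_mul,
      QuotientGroup.mk_mul, QuotientGroup.mk_inv, QuotientGroup.mk_inv, hak, hbl,
      ← QuotientGroup.mk_inv, ← QuotientGroup.mk_inv, ← QuotientGroup.mk_mul,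
      ← QuotientGroup.mk_mul, ← QuotientGroup.mk_mul, hkl, mul_inv_cancel_right, mul_inv_cancel]
    rfl
  set Y : Subgroup (SP A S) := I.comap SemidirectProduct.rightHom with hY
  have hYn : Y.Normal := by rw [hY]; infer_instance
  have hgp : IsPGroup p (gS A S) := by
    obtain ⟨n, hn⟩ := IsPGroup.iff_card.1 hS
    exact IsPGroup.of_card (n := n) ((card_gS A S).trans hn)
  have hYp : IsPGroup p Y := by
    refine IsPGroup.comap_of_ker_isPGroup hIp _ ?_
    have : (SemidirectProduct.rightHom : SP A S →* A).ker = gS A S := by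
      rw [gS, SemidirectProduct.range_inl_eq_ker_rightHom]
    rw [this]; exact hgp
  have hssc : H1.SSC (gS A S) := by
    refine ssc_of_pgroup (Nat.card (gS A S)) (SP A S) (gS A S) Y rfl hgp hYp ?_ ?_
    · intro g
      rw [hY, Subgroup.mem_comap, map_pow]
      exact hexpA _
    · intro a b
      rw [hY, Subgroup.mem_comap, map_mul, map_mul, map_mul, map_inv, map_inv]
      exact hcommA _ _
  obtain ⟨n, c, h0, hl, hn, hs⟩ := H1.chain_of_ssc hssc
  have hmono : Monotone c := Fin.monotone_iff_le_succ.2 fun i => by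
    obtain ⟨g, hg⟩ := hs i
    rw [hg]; exact le_sup_left
  have hle : ∀ i, c i ≤ gS A S := fun i => by rw [← hl]; exact hmono (Fin.le_last i)
  have hinj := iG_injective A S
  refine ⟨n, fun i => ((c i).comap (iG A S)).map S.subtype, ?_, ?_, ?_, ?_⟩
  · show ((c 0).comap (iG A S)).map S.subtype = ⊥
    rw [h0, MonoidHom.comap_bot, (MonoidHom.ker_eq_bot_iff _).2 hinj, Subgroup.map_bot]
  · show ((c (Fin.last n)).comap (iG A S)).map S.subtype = S
    have : (gS A S).comap (iG A S) = ⊤ := by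
      rw [eq_top_iff]; intro x _; exact ⟨x, rfl⟩
    rw [hl, this, ← MonoidHom.range_eq_map, Subgroup.range_subtype]
  · intro i
    rw [stronglyClosed_iff]
    refine ⟨Subgroup.map_subtype_le _, fun Q f hQ hf x hx => ?_⟩
    obtain ⟨α, hα, hαf⟩ := normal_self_iff.1 hN Q f hf
    obtain ⟨y, hy, rfl⟩ := hQ hx
    have h1 : f (S.subtype y) = ((α y : S) : Ω) := by
      rw [hαf _ hx]; exact autFun_coe α y
    rw [h1]
    refine ⟨α y, ?_, rfl⟩
    have h2 := (hn i).conj_mem _ hy (iA A S ⟨α, hα⟩)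
    rw [iA_mul_iG] at h2
    exact h2
  · intro i
    obtain ⟨g, hg⟩ := hs i
    have hgm : g ∈ gS A S := hle i.succ (by rw [hg]; exact Subgroup.mem_sup_right (Subgroup.mem_zpowers g))
    obtain ⟨s, rfl⟩ := hgm
    have hmc : ∀ i, ((c i).comap (iG A S)).map (iG A S) = c i := fun i =>
      Subgroup.map_comap_eq_self (hle i)
    have h1 : (c i.succ).comap (iG A S) = (c i.castSucc).comap (iG A S) ⊔ Subgroup.zpowers s := by
      apply Subgroup.map_injective hinj
      rw [hmc, Subgroup.map_sup, hmc, hg, MonoidHom.map_zpowers]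
    have h2 : ((c i.succ).comap (iG A S)).map S.subtype =
        ((c i.castSucc).comap (iG A S)).map S.subtype ⊔ Subgroup.zpowers (s : Ω) := by
      rw [h1, Subgroup.map_sup, MonoidHom.map_zpowers]; rfl
    exact ⟨le_sup_left.trans h2.ge, s, s.2, h2⟩

end Cfsg.Agent.H13
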