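import Mathlib
import Cfsg.Agent.H13.AbInv
import Cfsg.Agent.H13.SuperFus

/-!
# Abelian `p`-groups with distinct invariants: fusion systems
-/

set_option autoImplicit false
set_option linter.all false
open Cfsg Cfsg.FusionSystem

namespace Cfsg.Agent.H13

open Cfsg.Agent.H28

section
variable {p : ℕ} [Fact p.Prime]

/-- transport of the property along an isomorphism. -/
theorem aut_prop_of_equiv {V W : Type*} [Group V] [Group W] (e : V ≃* W)
    (h : ∀ H : Subgroup (MulAut W), (Nat.card H).Coprime p →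
      IsMulCommutative H ∧ ∀ h ∈ H, h ^ (p - 1) = 1)
    (H : Subgroup (MulAut V)) (hH : (Nat.card H).Coprime p) :
    IsMulCommutative H ∧ ∀ h ∈ H, h ^ (p - 1) = 1 := by
  have hinj : Function.Injective (MulAut.congr e).toMonoidHom := (MulAut.congr e).injective
  obtain ⟨h1, h2⟩ := h (H.map (MulAut.congr e).toMonoidHom)
    (by rwa [Subgroup.card_map_of_injective hinj])
  refine ⟨⟨⟨?_⟩⟩, ?_⟩
  · rintro ⟨a, ha⟩ ⟨b, hb⟩
    have h3 := h1.is_comm.comm ⟨_, ⟨a, ha, rfl⟩⟩ ⟨_, ⟨b, hb, rfl⟩⟩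
    have h4 := congrArg Subtype.val h3
    apply Subtype.ext
    apply hinj
    show (MulAut.congr e).toMonoidHom (a * b) = (MulAut.congr e).toMonoidHom (b * a)
    rw [map_mul, map_mul]; exact h4
  · intro a ha
    have h3 := h2 _ ⟨a, ha, rfl⟩
    apply hinj
    rw [map_pow, map_one]; exact h3

theorem aut_prop_distinct {V : Type*} [Group V] [Finite V] {ι : Type*} [Finite ι] (a : ι → ℕ)
    (ha : Function.Injective a) (ha1 : ∀ i, 1 ≤ a i)
    (e : V ≃* Multiplicative ((i : ι) → ZMod (p ^ a i))) (H : Subgroup (MulAut V))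
    (hH : (Nat.card H).Coprime p) : IsMulCommutative H ∧ ∀ h ∈ H, h ^ (p - 1) = 1 := by
  have hp := Fact.out (p := p.Prime)
  haveI : ∀ i, NeZero (p ^ a i) := fun i => ⟨pow_ne_zero _ hp.ne_zero⟩
  haveI : Finite (Multiplicative ((i : ι) → ZMod (p ^ a i))) := Finite.of_equiv _ e.toEquiv
  have hpg : IsPGroup p (Multiplicative ((i : ι) → ZMod (p ^ a i))) := by
    haveI := Fintype.ofFinite ι
    refine IsPGroup.of_card (n := ∑ i, a i) ?_
    rw [show Nat.card (Multiplicative ((i : ι) → ZMod (p ^ a i))) =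
      Nat.card ((i : ι) → ZMod (p ^ a i)) from rfl, Nat.card_pi, ← Finset.prod_pow_eq_pow_sum]
    exact Finset.prod_congr rfl fun i _ => Nat.card_zmod _
  exact aut_prop_of_equiv e (ab_abelian_exp hpg (cycSec_of_injective a ha ha1)) H hH

end

variable {Ω : Type*} [Group Ω] {S : Subgroup Ω} {F : FusionSystem S} [Finite S]
  {P Q : Subgroup Ω}

/-- distinct invariants, `p = 2`: only the inner fusion system. -/
theorem inner_of_distinct {ι : Type*} [Finite ι] (a : ι → ℕ) (ha : Function.Injective a)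
    (ha1 : ∀ i, 1 ≤ a i) (e : S ≃* Multiplicative ((i : ι) → ZMod (2 ^ a i)))
    (hF : F.IsSaturated 2) : F = innerFusionSystem S := by
  haveI : Fact (Nat.Prime 2) := ⟨Nat.prime_two⟩
  haveI := finite_mulAut (P := S)
  have hS : IsPGroup 2 S := by
    haveI := Fintype.ofFinite ι
    haveI : ∀ i, NeZero (2 ^ a i) := fun i => ⟨pow_ne_zero _ (by norm_num)⟩
    refine IsPGroup.of_card (n := ∑ i, a i) ?_
    rw [Nat.card_congr e.toEquiv, show Nat.card (Multiplicative ((i : ι) → ZMod (2 ^ a i))) =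
      Nat.card ((i : ι) → ZMod (2 ^ a i)) from rfl, Nat.card_pi, ← Finset.prod_pow_eq_pow_sum]
    exact Finset.prod_congr rfl fun i _ => Nat.card_zmod _
  have hab : ∀ x ∈ S, ∀ y ∈ S, x * y = y * x := by
    intro x hx y hy
    have h1 : (⟨x, hx⟩ : S) * ⟨y, hy⟩ = ⟨y, hy⟩ * ⟨x, hx⟩ := by
      apply e.injective
      rw [map_mul, map_mul, mul_comm]
    exact congrArg Subtype.val h1
  have hc : (Nat.card (F.autGroup S)).Coprime 2 :=
    ((Nat.Prime.coprime_iff_not_dvd Nat.prime_two).2 (ab_coprime hS hF hab)).symm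
  obtain ⟨-, h2⟩ := aut_prop_distinct (p := 2) a ha ha1 e (F.autGroup S) hc
  apply fs_le_antisymm
  · rw [le_iff_mor]
    intro P f hf
    obtain ⟨α, hα, hαf⟩ := ab_mor hS hF hab hf
    have h3 : α = 1 := by simpa using h2 α hα
    refine mor_inner.2 ⟨hf.le, 1, one_mem _, fun x hx => ?_⟩
    rw [hαf x hx, h3, autFun_one (hf.le hx)]; simp
  · exact inner_le

end Cfsg.Agent.H13
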