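import Mathlib
import Cfsg.Agent.H13.FusMore
import Cfsg.Agent.H13.FusCtl
import Cfsg.Agent.H28.FusSurj

/-!
# The Camina-Herzog criterion for saturated fusion systems on 2-groups
-/

set_option autoImplicit false
set_option linter.all false
open Cfsg Cfsg.FusionSystem

universe u

namespace Cfsg.Agent.H13

open Cfsg.Agent.H28

variable {Ω : Type u} [Group Ω]

/-- the subgroup generated by the involutions -/
def Om (A : Subgroup Ω) : Subgroup Ω := Subgroup.closure {x | x ∈ A ∧ x * x = 1}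

theorem Om_le {A : Subgroup Ω} : Om A ≤ A := by
  unfold Om
  rw [Subgroup.closure_le]
  exact fun x hx => hx.1

theorem mem_Om {A : Subgroup Ω} {x : Ω} (h : x ∈ A) (h2 : x * x = 1) : x ∈ Om A :=
  Subgroup.subset_closure ⟨h, h2⟩

theorem Om_mono {A B : Subgroup Ω} (h : A ≤ B) : Om A ≤ Om B :=
  Subgroup.closure_mono fun _ hx => ⟨h hx.1, hx.2⟩

theorem Om_le_iff {A B : Subgroup Ω} : Om A ≤ B ↔ ∀ x ∈ A, x * x = 1 → x ∈ B := by
  unfold Om
  rw [Subgroup.closure_le]
  exact ⟨fun h x hx h2 => h ⟨hx, h2⟩, fun h x hx => h x hx.1 hx.2⟩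

theorem Om_comm {A : Subgroup Ω} {v : Ω} (h : ∀ x ∈ A, x * x = 1 → v * x = x * v) :
    ∀ x ∈ Om A, v * x = x * v := by
  have : Om A ≤ Subgroup.centralizer {v} := by
    rw [Om_le_iff]
    intro x hx h2
    rw [Subgroup.mem_centralizer_singleton_iff]
    exact (h x hx h2).symm
  intro x hx
  exact (Subgroup.mem_centralizer_singleton_iff.1 (this hx)).symm

/-- centralizer of an element in `S` -/
def cS (S : Subgroup Ω) (a : Ω) : Subgroup Ω := S ⊓ Subgroup.centralizer {a}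

theorem mem_cS {S : Subgroup Ω} {a x : Ω} : x ∈ cS S a ↔ x ∈ S ∧ x * a = a * x := by
  unfold cS
  rw [Subgroup.mem_inf, Subgroup.mem_centralizer_singleton_iff]

/-- central involutions of `K` -/
def VV (K : Subgroup Ω) : Subgroup Ω where
  carrier := {v | v ∈ K ∧ v * v = 1 ∧ ∀ k ∈ K, v * k = k * v}
  mul_mem' := by
    rintro a b ⟨ha, ha2, hac⟩ ⟨hb, hb2, hbc⟩
    refine ⟨K.mul_mem ha hb, ?_, fun k hk => ?_⟩
    · calc a * b * (a * b) = a * (b * a) * b := by simp only [mul_assoc]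
        _ = a * (a * b) * b := by rw [hbc a ha]
        _ = (a * a) * (b * b) := by simp only [mul_assoc]
        _ = 1 := by rw [ha2, hb2, mul_one]
    · rw [mul_assoc, hbc k hk, ← mul_assoc, hac k hk, mul_assoc]
  one_mem' := ⟨K.one_mem, by simp, by simp⟩
  inv_mem' := by
    rintro a ⟨ha, ha2, hac⟩
    have : a⁻¹ = a := inv_eq_of_mul_eq_one_left ha2
    show a⁻¹ ∈ K ∧ a⁻¹ * a⁻¹ = 1 ∧ ∀ k ∈ K, a⁻¹ * k = k * a⁻¹
    rw [this]
    exact ⟨ha, ha2, hac⟩

theorem mem_VV {K : Subgroup Ω} {v : Ω} : v ∈ VV K ↔ v ∈ K ∧ v * v = 1 ∧ ∀ k ∈ K, v * k = k * v :=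
  Iff.rfl

/-- involutions of `S` commuting with all involutions of `S` -/
def ZJ (S : Subgroup Ω) : Subgroup Ω := VV (Om S)

theorem mem_ZJ {S : Subgroup Ω} {v : Ω} :
    v ∈ ZJ S ↔ v ∈ S ∧ v * v = 1 ∧ ∀ x ∈ S, x * x = 1 → v * x = x * v := by
  unfold ZJ
  rw [mem_VV]
  constructor
  · rintro ⟨h1, h2, h3⟩
    exact ⟨Om_le h1, h2, fun x hx hx2 => h3 x (mem_Om hx hx2)⟩
  · rintro ⟨h1, h2, h3⟩
    exact ⟨mem_Om h1 h2, h2, Om_comm h3⟩

variable {S : Subgroup Ω} {F : FusionSystem S} {V : Subgroup Ω} {m : ℕ} {f : Ω → Ω}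

structure Phi (S : Subgroup Ω) (m : ℕ) (V : Subgroup Ω) : Prop where
  le : V ≤ S
  eq : V = VV (Om (centralizerIn S V))
  card : Nat.card (Om (centralizerIn S V)) = m
  ne : ∃ a ∈ V, a ∉ ZJ S

theorem Phi.mem (h : Phi S m V) {v : Ω} : v ∈ V ↔ v ∈ Om (centralizerIn S V) ∧ v * v = 1 ∧
    ∀ k ∈ Om (centralizerIn S V), v * k = k * v := by
  conv_lhs => rw [h.eq]
  exact mem_VV

theorem Phi.comm (h : Phi S m V) {v w : Ω} (hv : v ∈ V) (hw : w ∈ V) : v * w = w * v :=
  (h.mem.1 hv).2.2 w (h.mem.1 hw).1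

theorem Phi.le_cent (h : Phi S m V) : V ≤ centralizerIn S V := fun v hv =>
  mem_centralizerIn.2 ⟨h.le hv, fun w hw => h.comm hv hw⟩

theorem Phi.ZJ_le (h : Phi S m V) : ZJ S ≤ V := by
  intro z hz
  obtain ⟨h1, h2, h3⟩ := mem_ZJ.1 hz
  rw [h.mem]
  refine ⟨mem_Om (mem_centralizerIn.2 ⟨h1, fun v hv => h3 v (h.le hv) (h.mem.1 hv).2.1⟩) h2, h2, ?_⟩
  exact Om_comm fun x hx hx2 => h3 x (centralizerIn_le hx) hx2

theorem Phi.K_le (h : Phi S m V) {v : Ω} (hv : v ∈ V) : Om (centralizerIn S V) ≤ Om (cS S v) :=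
  Om_mono fun x hx => mem_cS.2 ⟨(mem_centralizerIn.1 hx).1, (mem_centralizerIn.1 hx).2 v hv⟩

theorem Phi.K_eq [Finite S] (h : Phi S m V)
    (hmax : ∀ a ∈ S, a * a = 1 → a ∉ ZJ S → Nat.card (Om (cS S a)) ≤ m) {v : Ω} (hv : v ∈ V)
    (hvZ : v ∉ ZJ S) : Om (centralizerIn S V) = Om (cS S v) := by
  have : Finite (Om (cS S v)) := finite_of_le (Om_le.trans inf_le_left : Om (cS S v) ≤ S)
  refine eq_of_le_of_card (h.K_le hv) ?_
  rw [h.card]
  exact hmax v (h.le hv) (h.mem.1 hv).2.1 hvZ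

theorem exists_phi [Finite S] {a c : Ω} (ha : a ∈ S) (hc : c ∈ S) (ha2 : a * a = 1) (hc2 : c * c = 1)
    (hac : a * c ≠ c * a) : ∃ m V, Phi S m V ∧
      ∀ a ∈ S, a * a = 1 → a ∉ ZJ S → Nat.card (Om (cS S a)) ≤ m := by
  classical
  let X : Set ℕ := {n | ∃ a ∈ S, a * a = 1 ∧ a ∉ ZJ S ∧ Nat.card (Om (cS S a)) = n}
  have hX : X.Nonempty := ⟨_, a, ha, ha2, fun h => hac ((mem_ZJ.1 h).2.2 c hc hc2), rfl⟩
  have hXb : BddAbove X := ⟨Nat.card S, by
    rintro n ⟨a, -, -, -, rfl⟩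
    exact card_le_of_le (Om_le.trans inf_le_left)⟩
  obtain ⟨b, hb, hb2, hbZ, hcard⟩ := Nat.sSup_mem hX hXb
  have hbK : b ∈ VV (Om (cS S b)) := by
    rw [mem_VV]
    refine ⟨mem_Om (mem_cS.2 ⟨hb, rfl⟩) hb2, hb2, fun k hk => ?_⟩
    exact (mem_cS.1 (Om_le hk)).2.symm
  have hK : Om (centralizerIn S (VV (Om (cS S b)))) = Om (cS S b) := by
    apply le_antisymm
    · apply Om_mono
      intro x hx
      rw [mem_centralizerIn] at hx
      exact mem_cS.2 ⟨hx.1, hx.2 b hbK⟩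
    · rw [Om_le_iff]
      intro x hx hx2
      refine mem_Om (mem_centralizerIn.2 ⟨(mem_cS.1 hx).1, fun v hv => ?_⟩) hx2
      exact ((mem_VV.1 hv).2.2 x (mem_Om hx hx2)).symm
  refine ⟨sSup X, VV (Om (cS S b)), ⟨?_, ?_, ?_, ?_⟩, ?_⟩
  · intro v hv
    exact (mem_cS.1 (Om_le (mem_VV.1 hv).1)).1
  · rw [hK]
  · rw [hK]; exact hcard
  · exact ⟨b, hbK, hbZ⟩
  · intro a ha ha2 haZ
    exact le_csSup hXb ⟨a, ha, ha2, haZ, rfl⟩

theorem Om_map {A B : Subgroup Ω} (hf : Mor F A f) (h : ∀ x ∈ A, f x ∈ B) :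
    ∀ x ∈ Om A, f x ∈ Om B := by
  intro x hx
  have hx' : x ∈ Subgroup.closure {x | x ∈ A ∧ x * x = 1} := hx
  induction hx' using Subgroup.closure_induction with
  | mem y hy =>
    exact mem_Om (h y hy.1) (by rw [← hf.mul hy.1 hy.1, hy.2, hf.one])
  | one => rw [hf.one]; exact (Om B).one_mem
  | mul y z hy hz ihy ihz =>
    rw [hf.mul (Om_le hy) (Om_le hz)]
    exact (Om B).mul_mem (ihy hy) (ihz hz)
  | inv y hy ih =>
    rw [hf.inv (Om_le hy)]
    exact (Om B).inv_mem (ih hy)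

theorem Phi.map [Finite S] (h : Phi S m V)
    (hmax : ∀ a ∈ S, a * a = 1 → a ∉ ZJ S → Nat.card (Om (cS S a)) ≤ m)
    (hf : Mor F (centralizerIn S V) f) : Phi S m (img V f) := by
  classical
  set P := centralizerIn S V with hP
  have hVP : V ≤ P := h.le_cent
  have hfV : Mor F V f := hf.mono hVP
  have hSfin : Finite P := finite_of_le centralizerIn_le
  have hVfin : Finite V := finite_of_le h.le
  -- V' is not contained in ZJ
  have hV'S : img V f ≤ S := hfV.img_le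
  have hV'fin : Finite (img V f) := finite_of_le hV'S
  have hne : ∃ a ∈ img V f, a ∉ ZJ S := by
    by_contra hcon
    push Not at hcon
    have h1 : Nat.card (ZJ S) ≤ Nat.card V := card_le_of_le h.ZJ_le
    have h2 : Nat.card (img V f) ≤ Nat.card (ZJ S) := by
      have : Finite (ZJ S) := finite_of_le h.ZJ_le
      exact card_le_of_le hcon
    rw [hfV.card_img] at h2
    have h3 : ZJ S = V := eq_of_le_of_card h.ZJ_le h2
    obtain ⟨a, ha, haZ⟩ := h.ne
    exact haZ (by rw [h3]; exact ha)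
  have hmapP : ∀ x ∈ P, f x ∈ centralizerIn S (img V f) := by
    intro x hx
    rw [mem_centralizerIn]
    refine ⟨hf.mem hx, fun y hy => ?_⟩
    obtain ⟨v, hv, rfl⟩ := hfV.mem_img.1 hy
    rw [← hf.mul hx (hVP hv), ← hf.mul (hVP hv) hx, (mem_centralizerIn.1 hx).2 v hv]
  have hle : img (Om P) f ≤ Om (centralizerIn S (img V f)) := by
    rw [img_le_iff]
    exact Om_map hf hmapP
  have hfK : Mor F (Om P) f := hf.mono Om_le
  have hK'fin : Finite (Om (centralizerIn S (img V f))) :=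
    finite_of_le (Om_le.trans centralizerIn_le : Om (centralizerIn S (img V f)) ≤ S)
  obtain ⟨a', ha', ha'Z⟩ := hne
  have ha'2 : a' * a' = 1 := by
    obtain ⟨v, hv, rfl⟩ := hfV.mem_img.1 ha'
    rw [← hfV.mul hv hv, (h.mem.1 hv).2.1, hfV.one]
  have hle2 : Nat.card (Om (centralizerIn S (img V f))) ≤ m := by
    refine le_trans ?_ (hmax a' (hV'S ha') ha'2 ha'Z)
    have : Finite (Om (cS S a')) := finite_of_le (Om_le.trans inf_le_left : Om (cS S a') ≤ S)
    refine card_le_of_le (Om_mono fun x hx => ?_)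
    exact mem_cS.2 ⟨(mem_centralizerIn.1 hx).1, (mem_centralizerIn.1 hx).2 a' ha'⟩
  have heq : img (Om P) f = Om (centralizerIn S (img V f)) := by
    refine eq_of_le_of_card hle ?_
    rw [hfK.card_img, h.card]
    exact hle2
  refine ⟨hV'S, ?_, ?_, ⟨a', ha', ha'Z⟩⟩
  · rw [← heq]
    ext y
    rw [mem_VV, hfV.mem_img, hfK.mem_img]
    constructor
    · rintro ⟨v, hv, rfl⟩
      have hv' := h.mem.1 hv
      refine ⟨⟨v, hv'.1, rfl⟩, ?_, ?_⟩
      · rw [← hfV.mul hv hv, hv'.2.1, hfV.one]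
      · intro k hk
        obtain ⟨x, hx, rfl⟩ := hfK.mem_img.1 hk
        rw [← hfK.mul hv'.1 hx, ← hfK.mul hx hv'.1, hv'.2.2 x hx]
    · rintro ⟨⟨x, hx, rfl⟩, h2, h3⟩
      refine ⟨x, h.mem.2 ⟨hx, ?_, ?_⟩, rfl⟩
      · apply hfK.inj ((Om P).mul_mem hx hx) (Om P).one_mem
        rw [hfK.mul hx hx, h2, hfK.one]
      · intro k hk
        apply hfK.inj ((Om P).mul_mem hx hk) ((Om P).mul_mem hk hx)
        rw [hfK.mul hx hk, hfK.mul hk hx]
        exact h3 _ (mem_img_of_mem hk)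
  · rw [← heq, hfK.card_img, h.card]

/-- an involution normalizing `V` but not centralizing -/
theorem Phi.exists_inv [Finite S] (hS : IsPGroup 2 S) (h : Phi S m V) :
    ∃ g ∈ normalizerIn S V, g * g = 1 ∧ g ∉ centralizerIn S V := by
  classical
  set K := Om (centralizerIn S V) with hK
  have hKS : K ≤ S := Om_le.trans centralizerIn_le
  have hKfin : Finite K := finite_of_le hKS
  have hVfin : Finite V := finite_of_le h.le
  by_contra hcon
  push Not at hcon
  -- the normalizer of K normalizes V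
  have h1 : normalizerIn S K ≤ normalizerIn S V := by
    intro s hs
    have hs' := mem_normalizerIn.1 hs
    have h2 : ∀ v ∈ V, s * v * s⁻¹ ∈ V := by
      intro v hv
      have hv' := h.mem.1 hv
      rw [h.mem]
      refine ⟨(hs'.2 v).1 hv'.1, ?_, fun k hk => ?_⟩
      · calc s * v * s⁻¹ * (s * v * s⁻¹) = s * (v * v) * s⁻¹ := by group
          _ = 1 := by rw [hv'.2.1]; group
      · have hk' : s⁻¹ * k * s ∈ K := by
          rw [hs'.2]
          have : s * (s⁻¹ * k * s) * s⁻¹ = k := by group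
          rw [this]; exact hk
        have h3 := hv'.2.2 _ hk'
        calc s * v * s⁻¹ * k = s * (v * (s⁻¹ * k * s)) * s⁻¹ := by group
          _ = s * ((s⁻¹ * k * s) * v) * s⁻¹ := by rw [h3]
          _ = k * (s * v * s⁻¹) := by group
    have h4 := mem_normalizer_of_finite h2
    exact mem_normalizerIn.2 ⟨hs'.1, fun y => Subgroup.mem_normalizer_iff.1 h4 y⟩
  have h2 : Om (normalizerIn S K) = K := by
    apply le_antisymm
    · rw [Om_le_iff]
      intro x hx hx2
      exact mem_Om (hcon x (h1 hx) hx2) hx2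
    · rw [hK, Om_le_iff]
      intro x hx hx2
      refine mem_Om ?_ hx2
      exact le_normalizerIn hKS (mem_Om hx hx2)
  have h3 : normalizerIn S K = S := by
    by_contra hne
    have h4 : normalizerIn S K < S := lt_of_le_of_ne normalizerIn_le hne
    have h5 := lt_normalizerIn hS h4
    obtain ⟨s, hs, hsn⟩ := SetLike.exists_of_lt h5
    apply hsn
    have hs' := mem_normalizerIn.1 hs
    have hN : ∀ x ∈ K, s * x * s⁻¹ ∈ K := by
      intro x hx
      rw [← h2] at hx ⊢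
      exact Om_map (F := innerFusionSystem S) (f := fun x => s * x * s⁻¹)
        (mor_conj normalizerIn_le hs'.1) (fun x hx => (hs'.2 x).1 hx) x hx
    have h4 := mem_normalizer_of_finite hN
    exact mem_normalizerIn.2 ⟨hs'.1, fun y => Subgroup.mem_normalizer_iff.1 h4 y⟩
  obtain ⟨a, ha, haZ⟩ := h.ne
  apply haZ
  rw [mem_ZJ]
  refine ⟨h.le ha, (h.mem.1 ha).2.1, fun x hx hx2 => ?_⟩
  apply (h.mem.1 ha).2.2
  have : x ∈ Om (normalizerIn S K) := mem_Om (by rw [h3]; exact hx) hx2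
  rwa [h2] at this

theorem Phi.fix [Finite S] (h : Phi S m V)
    (hmax : ∀ a ∈ S, a * a = 1 → a ∉ ZJ S → Nat.card (Om (cS S a)) ≤ m) {g v : Ω}
    (hg : g ∈ normalizerIn S V) (hg2 : g * g = 1) (hgn : g ∉ centralizerIn S V) (hv : v ∈ V)
    (hgv : g * v = v * g) : v ∈ ZJ S := by
  by_contra hvZ
  have h1 := h.K_eq hmax hv hvZ
  apply hgn
  apply Om_le
  rw [h1]
  exact mem_Om (mem_cS.2 ⟨normalizerIn_le hg, hgv⟩) hg2

/-- extension of conjugations into the center -/
theorem ext_central {p : ℕ} [Fact p.Prime] [Finite S] (hS : IsPGroup p S) (hF : F.IsSaturated p) {x z : Ω} (hzS : z ∈ S)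
    (hz : ∀ s ∈ S, z * s = s * z) (h : F.IsConjElt x z) :
    ∃ f, Mor F (centralizerIn S (Subgroup.zpowers x)) f ∧ f x = z := by
  obtain ⟨f, hf, hfx⟩ := isConjElt_iff.1 h
  have hxz : x ∈ Subgroup.zpowers x := Subgroup.mem_zpowers x
  have hzc : ∀ y ∈ img (Subgroup.zpowers x) f, ∀ s ∈ S, s * y = y * s := by
    intro y hy s hs
    obtain ⟨w, hw, rfl⟩ := hf.mem_img.1 hy
    obtain ⟨n, rfl⟩ := Subgroup.mem_zpowers_iff.1 hw
    rw [hf.zpow hxz, hfx]
    have : Commute z s := hz s hs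
    exact (this.zpow_left n).eq.symm
  have hfc : F.IsFullyCentralized (img (Subgroup.zpowers x) f) := by
    rw [fullyCentralized_iff]
    refine ⟨hf.img_le, fun k hk => ?_⟩
    refine (card_le_of_le centralizerIn_le).trans ?_
    have : centralizerIn S (img (Subgroup.zpowers x) f) = S := by
      apply le_antisymm centralizerIn_le
      intro s hs
      exact mem_centralizerIn.2 ⟨hs, fun y hy => hzc y hy s hs⟩
    rw [this]
  obtain ⟨g, hg, hgf⟩ := receptive_extend (fullyCentralized_receptive hS hF hfc) hf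
  exact ⟨g, hg.mono hf.centralizer_le_Nf, by rw [hgf x hxz, hfx]⟩


theorem normal_le_sylow {p : ℕ} [Fact p.Prime] {G : Type*} [Group G] [Finite G] {Y : Subgroup G} (hY : IsPGroup p Y)
    (hn : Y.Normal) (R : Sylow p G) : Y ≤ (R : Subgroup G) := by
  obtain ⟨R', hR'⟩ := hY.exists_le_sylow
  obtain ⟨g, hg⟩ := MulAction.exists_smul_eq G R' R
  intro y hy
  rw [← hg]
  have h1 : g⁻¹ * y * g ∈ R' := hR' (by simpa using hn.conj_mem y hy g⁻¹)
  rw [Sylow.smul_def, Sylow.pointwise_smul_def]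
  refine ⟨g⁻¹ * y * g, h1, ?_⟩
  simp [MulAut.smul_def, mul_assoc]

/-- the filtration of `V` by powers of central elements of `C_S(V)` -/
def Vk (S V : Subgroup Ω) (k : ℕ) : Subgroup Ω where
  carrier := {v | v ∈ V ∧ ∃ b ∈ centralizerIn S V, (∀ x ∈ centralizerIn S V, b * x = x * b) ∧
    b ^ 2 ^ k = v}
  mul_mem' := by
    rintro _ _ ⟨hv, b, hb, hbc, rfl⟩ ⟨hw, c, hc, hcc, rfl⟩
    refine ⟨V.mul_mem hv hw, b * c, Subgroup.mul_mem _ hb hc, fun x hx => ?_, ?_⟩
    · rw [mul_assoc, hcc x hx, ← mul_assoc, hbc x hx, mul_assoc]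
    · have : Commute b c := hbc c hc
      rw [this.mul_pow]
  one_mem' := ⟨V.one_mem, 1, Subgroup.one_mem _, by simp, by simp⟩
  inv_mem' := by
    rintro _ ⟨hv, b, hb, hbc, rfl⟩
    refine ⟨V.inv_mem hv, b⁻¹, Subgroup.inv_mem _ hb, fun x hx => ?_, ?_⟩
    · have : Commute b x := hbc x hx
      exact this.inv_left.eq
    · rw [inv_pow]

theorem phi_false [Finite S] (hS : IsPGroup 2 S) (hF : F.IsSaturated 2)
    (hcent : ∀ x ∈ S, ∃ z ∈ S, (∀ s ∈ S, z * s = s * z) ∧ F.IsConjElt x z)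
    (hmax : ∀ a ∈ S, a * a = 1 → a ∉ ZJ S → Nat.card (Om (cS S a)) ≤ m)
    (h : Phi S m V) (hV : F.IsFullyNormalized V) : False := by
  classical
  have hVS := h.le
  have hVfin : Finite V := finite_of_le hVS
  set P := centralizerIn S V with hP
  have hPS : P ≤ S := centralizerIn_le
  have hPfin : Finite P := finite_of_le hPS
  have hVP : V ≤ P := h.le_cent
  have hVfc := FN.fc hS hF hV
  -- every element of V is conjugate into ZJ
  have X1 : ∀ v ∈ V, ∃ α ∈ F.autGroup V, autFun α v ∈ ZJ S := by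
    intro v hv
    obtain ⟨z, hzS, hzc, hvz⟩ := hcent v (hVS hv)
    obtain ⟨f, hf, hfv⟩ := ext_central hS hF hzS hzc hvz
    have hPle : P ≤ centralizerIn S (Subgroup.zpowers v) := centralizerIn_anti (by
      rwa [Subgroup.zpowers_le])
    have hfP := hf.mono hPle
    have hfV := hfP.mono hVP
    have hphi := h.map hmax hfP
    obtain ⟨k, hk, hkV⟩ := FN.exists_map hS hF hV (isConj_symm hfV.isConj)
    have hcomp : Mor F V (fun x => k (f x)) := hfV.comp hk (fun x hx => by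
      exact le_normalizerIn hphi.le (mem_img_of_mem hx))
    have himg : img V (fun x => k (f x)) = V := by
      rw [← hfV.img_comp, hkV]
    obtain ⟨α, hα, hαf⟩ := hcomp.exists_aut himg
    refine ⟨α, hα, ?_⟩
    rw [hαf v hv, hfv]
    by_contra hkz
    have hzV' : z ∈ img V f := by rw [← hfv]; exact mem_img_of_mem hv
    have hzN : z ∈ normalizerIn S (img V f) := le_normalizerIn hphi.le hzV'
    have hkzV : k z ∈ V := by
      rw [← hkV]; exact mem_img_of_mem hzV'
    have hkz2 := (h.mem.1 hkzV).2.1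
    have h1 := hmax (k z) (hVS hkzV) hkz2 hkz
    -- the image of the normalizer
    obtain ⟨g, hg, hg2, hgn⟩ := hphi.exists_inv hS
    have h2 : img (Om (normalizerIn S (img V f))) k ≤ Om (cS S (k z)) := by
      rw [img_le_iff]
      refine Om_map hk fun x hx => ?_
      rw [mem_cS]
      refine ⟨hk.mem hx, ?_⟩
      rw [← hk.mul hx hzN, ← hk.mul hzN hx, hzc x (normalizerIn_le hx)]
    have h3 : Om (centralizerIn S (img V f)) < Om (normalizerIn S (img V f)) := by
      refine lt_of_le_of_ne (Om_mono centralizerIn_le_normalizerIn) ?_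
      intro he
      apply hgn
      apply Om_le
      rw [he]
      exact mem_Om hg hg2
    have hfin1 : Finite (Om (normalizerIn S (img V f))) :=
      finite_of_le (Om_le.trans normalizerIn_le : _ ≤ S)
    have hfin2 : Finite (Om (cS S (k z))) := finite_of_le (Om_le.trans inf_le_left : _ ≤ S)
    have h4 : Nat.card (Om (centralizerIn S (img V f))) < Nat.card (Om (normalizerIn S (img V f))) := by
      refine lt_of_le_of_ne (card_le_of_le h3.le) fun he => ?_
      exact h3.ne (eq_of_le_of_card h3.le he.ge)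
    have h5 := card_le_of_le h2
    rw [(hk.mono Om_le).card_img] at h5
    rw [hphi.card] at h4
    omega
  -- extension of automorphisms of V
  have hrec := FN.rec hS hF hV
  have hext : ∀ α ∈ F.autGroup V, ∃ g, Mor F (Nf S V (autFun α)) g ∧ ∀ x ∈ V, g x = autFun α x := by
    intro α hα
    refine receptive_extend ?_ (mor_autFun hVS hα)
    rw [img_autFun]; exact hrec
  -- invariance of the filtration
  have hinv : ∀ k, ∀ α ∈ F.autGroup V, ∀ x ∈ V, x ∈ Vk S V k → autFun α x ∈ Vk S V k := by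
    rintro k α hα x hx ⟨-, b, hb, hbc, rfl⟩
    obtain ⟨g, hg, hgα⟩ := hext α hα
    have hPN : P ≤ Nf S V (autFun α) := (mor_autFun hVS hα).centralizer_le_Nf
    have hgP := hg.mono hPN
    have hgPP : ∀ x ∈ P, g x ∈ P := by
      intro y hy
      rw [hP, mem_centralizerIn]
      refine ⟨hgP.mem hy, fun v hv => ?_⟩
      have hv' : autFun α⁻¹ v ∈ V := autFun_mem _ hv
      have e : v = g (autFun α⁻¹ v) := by rw [hgα _ hv', autFun_apply_inv _ hv]
      rw [e, ← hgP.mul hy (hVP hv'), ← hgP.mul (hVP hv') hy, (mem_centralizerIn.1 hy).2 _ hv']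
    have himg : img P g = P := eq_of_le_of_card (img_le_iff.2 hgPP) hgP.card_img.ge
    refine ⟨autFun_mem _ hx, g b, hgPP b hb, fun y hy => ?_, ?_⟩
    · have hy' : y ∈ img P g := by rw [himg]; exact hy
      obtain ⟨x', hx', rfl⟩ := hgP.mem_img.1 hy'
      rw [← hgP.mul hb hx', ← hgP.mul hx' hb, hbc x' hx']
    · rw [← hgP.pow hb, hgα _ hx]
  -- the involutions act trivially on the factors
  have X4 : ∀ g ∈ normalizerIn S V, g * g = 1 → g ∉ P → ∀ k, ∀ v ∈ Vk S V k,
      v⁻¹ * (g * v * g⁻¹) ∈ Vk S V (k + 1) := by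
    rintro g hg hg2 hgn k v ⟨hv, b, hb, hbc, hbv⟩
    have hginv : g⁻¹ = g := inv_eq_of_mul_eq_one_left hg2
    have hgN := mem_normalizerIn.1 hg
    have hgS := hgN.1
    set b' := g * b * g⁻¹ with hb'
    have hgP : ∀ x ∈ P, g * x * g⁻¹ ∈ P := by
      intro x hx
      rw [hP, mem_centralizerIn] at hx ⊢
      refine ⟨S.mul_mem (S.mul_mem hgS hx.1) (S.inv_mem hgS), fun y hy => ?_⟩
      have hy' : g⁻¹ * y * g ∈ V := by
        rw [hgN.2]
        have : g * (g⁻¹ * y * g) * g⁻¹ = y := by group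
        rw [this]; exact hy
      calc g * x * g⁻¹ * y = g * (x * (g⁻¹ * y * g)) * g⁻¹ := by group
        _ = g * ((g⁻¹ * y * g) * x) * g⁻¹ := by rw [hx.2 _ hy']
        _ = y * (g * x * g⁻¹) := by group
    have hb'P : b' ∈ P := hgP b hb
    have hcomm : Commute b b' := hbc b' hb'P
    set y := b * g with hy
    have hyS : y ∈ S := S.mul_mem (hPS hb) hgS
    have hy2 : y ^ 2 = b * b' := by
      rw [pow_two, hy, hb', hginv]; simp only [mul_assoc]
    have hb'v : b' ^ 2 ^ k = g * v * g⁻¹ := by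
      rw [hb', conj_pow, hbv]
    set w := v * (g * v * g⁻¹) with hw
    have hyw : y ^ 2 ^ (k + 1) = w := by
      rw [pow_succ', pow_mul, hy2, hcomm.mul_pow, hbv, hb'v]
    have hgv : g * v * g⁻¹ ∈ V := (hgN.2 v).1 hv
    have hwV : w ∈ V := V.mul_mem hv hgv
    have hv2 := (h.mem.1 hv).2.1
    have hvinv : v⁻¹ = v := inv_eq_of_mul_eq_one_left hv2
    rw [hvinv]
    show w ∈ _
    obtain ⟨u, huS, huc, hyu⟩ := hcent y hyS
    obtain ⟨h₀, hh₀, hh₀y⟩ := isConjElt_iff.1 hyu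
    have hyz : y ∈ Subgroup.zpowers y := Subgroup.mem_zpowers y
    have hwz : w ∈ Subgroup.zpowers y := by rw [← hyw]; exact Subgroup.pow_mem _ hyz _
    have hh₀w : h₀ w = u ^ 2 ^ (k + 1) := by rw [← hyw, hh₀.pow hyz, hh₀y]
    have hcw : F.IsConjElt w (u ^ 2 ^ (k + 1)) :=
      isConjElt_iff.2 ⟨h₀, hh₀.mono (by rwa [Subgroup.zpowers_le]), hh₀w⟩
    have huc' : ∀ s ∈ S, u ^ 2 ^ (k + 1) * s = s * u ^ 2 ^ (k + 1) := by
      intro s hs
      have : Commute u s := huc s hs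
      exact (this.pow_left _).eq
    obtain ⟨f, hf, hfw⟩ := ext_central hS hF (S.pow_mem huS _) huc' hcw
    have hPle : P ≤ centralizerIn S (Subgroup.zpowers w) := centralizerIn_anti (by
      rwa [Subgroup.zpowers_le])
    have hfP := hf.mono hPle
    have hfV := hfP.mono hVP
    have hle : img P f ≤ centralizerIn S (img V f) := by
      rw [img_le_iff]
      intro x hx
      rw [mem_centralizerIn]
      refine ⟨hfP.mem hx, fun y hy => ?_⟩
      obtain ⟨v', hv', rfl⟩ := hfV.mem_img.1 hy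
      rw [← hfP.mul hx (hVP hv'), ← hfP.mul (hVP hv') hx, (mem_centralizerIn.1 hx).2 _ hv']
    have hfin : Finite (centralizerIn S (img V f)) := finite_of_le centralizerIn_le
    have heq : img P f = centralizerIn S (img V f) := by
      refine eq_of_le_of_card hle ?_
      rw [hfP.card_img]
      exact (fullyCentralized_iff.1 hVfc).2 f hfV
    have hu : u ∈ img P f := by
      rw [heq, mem_centralizerIn]
      exact ⟨huS, fun y hy => huc y (hfV.img_le hy)⟩
    obtain ⟨c, hc, hcu⟩ := hfP.mem_img.1 hu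
    refine ⟨hwV, c, hc, fun x hx => ?_, ?_⟩
    · apply hfP.inj (P.mul_mem hc hx) (P.mul_mem hx hc)
      rw [hfP.mul hc hx, hfP.mul hx hc, hcu, huc _ (hfP.mem hx)]
    · apply hfP.inj (P.pow_mem hc _) (hVP hwV)
      rw [hfP.pow hc, hcu, hfw]
  -- the stabilizer of the filtration
  obtain ⟨n, hn⟩ := IsPGroup.iff_card.1 hS
  set D : ℕ → Subgroup Ω := fun j => Vk S V (n - j) with hD
  have hD0 : D 0 = ⊥ := by
    rw [eq_bot_iff]
    rintro x ⟨-, b, hb, -, rfl⟩
    rw [Subgroup.mem_bot, Nat.sub_zero, ← hn]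
    have h1 : (⟨b, hPS hb⟩ : S) ^ Nat.card S = 1 := pow_card_eq_one'
    exact congrArg Subtype.val h1
  have hDn : V ≤ D n := by
    intro v hv
    show v ∈ Vk S V (n - n)
    rw [Nat.sub_self]
    refine ⟨hv, v, hVP hv, fun x hx => ((mem_centralizerIn.1 hx).2 v hv).symm, by simp⟩
  have hinv' : ∀ j, ∀ α ∈ F.autGroup V, ∀ x ∈ V, x ∈ D j → autFun α x ∈ D j :=
    fun j => hinv (n - j)
  have hVp : IsPGroup 2 V := hS.to_le hVS
  have hYp := isPGroup_chainStab (A := F.autGroup V) (D := D) (hD := hinv') hVp n hD0 hDn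
  have hYn := chainStab_normal (A := F.autGroup V) (D := D) (hD := hinv')
  set Y := chainStab (F.autGroup V) D hinv' with hY
  obtain ⟨g, hg, hg2, hgn⟩ := h.exists_inv hS
  have hgN := mem_normalizerIn.1 hg
  have hgnorm : g ∈ Subgroup.normalizer (V : Set Ω) := mem_normalizer_of_finite
    (fun x hx => (hgN.2 x).1 hx)
  have hr₀ : conjAut V g hgnorm ∈ autInducedBy S V := conjAut_mem hgnorm hgN.1
  have hr₀F : conjAut V g hgnorm ∈ F.autGroup V := autInducedBy_le hVS le_rfl hr₀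
  have hr₀Y : (⟨_, hr₀F⟩ : F.autGroup V) ∈ Y := by
    rw [hY, mem_chainStab]
    intro j x hx hxD
    show x⁻¹ * autFun (conjAut V g hgnorm) x ∈ D j
    rw [autFun_conjAut hgnorm hx]
    by_cases hj : j + 1 ≤ n
    · have e : n - j = n - (j + 1) + 1 := by omega
      show _ ∈ Vk S V (n - j)
      rw [e]
      exact X4 g hg hg2 hgn _ x hxD
    · -- beyond the end
      have e1 : n - (j + 1) = 0 := by omega
      have e2 : n - j = 0 := by omega
      show _ ∈ Vk S V (n - j)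
      rw [e2]
      have h1 : x⁻¹ * (g * x * g⁻¹) ∈ V := V.mul_mem (V.inv_mem hx) ((hgN.2 x).1 hx)
      exact ⟨h1, _, hVP h1, fun y hy => ((mem_centralizerIn.1 hy).2 _ h1).symm, by simp⟩
  -- ZJ is invariant
  have X6 : ∀ α ∈ F.autGroup V, ∀ z ∈ ZJ S, autFun α z ∈ ZJ S := by
    intro α hα z hz
    have hzV : z ∈ V := h.ZJ_le hz
    have h1 : (⟨α, hα⟩ : F.autGroup V) * ⟨_, hr₀F⟩ * (⟨α, hα⟩ : F.autGroup V)⁻¹ ∈ Y :=
      hYn.conj_mem _ hr₀Y _
    -- Y is in Aut_S(V)
    have hYle : Y ≤ (autInducedBy S V).subgroupOf (F.autGroup V) := by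
      obtain ⟨-, R, hR⟩ := FN.fa hS hF hV
      rw [← hR]
      exact normal_le_sylow hYp hYn R
    have h2 : (⟨α, hα⟩ : F.autGroup V) * ⟨_, hr₀F⟩ * (⟨α, hα⟩ : F.autGroup V)⁻¹ ∈
        (autInducedBy S V).subgroupOf (F.autGroup V) := hYle h1
    have h3 : α * conjAut V g hgnorm * α⁻¹ ∈ autInducedBy S V := h2
    obtain ⟨s, hs, hsα⟩ := mem_autInducedBy'.1 h3
    have h4 : ∀ x ∈ V, autFun α (g * x * g⁻¹) = s * autFun α x * s⁻¹ := by
      intro x hx
      have h5 := hsα (autFun α x) (autFun_mem _ hx)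
      rw [← h5, autFun_mul _ _ (autFun_mem _ hx), autFun_mul _ _ (autFun_mem _ (autFun_mem _ hx)),
        autFun_inv_apply _ hx, autFun_conjAut hgnorm hx]
    obtain ⟨k, hk, hkα⟩ := hext α hα
    have hgNf : g ∈ Nf S V (autFun α) := mem_Nf.2 ⟨hgN.1, hgnorm, s, hs, h4⟩
    have hVN : V ≤ Nf S V (autFun α) := (mor_autFun hVS hα).le_Nf
    have hkconj : ∀ x ∈ V, k g * autFun α x * (k g)⁻¹ = autFun α (g * x * g⁻¹) := by
      intro x hx
      rw [← hkα x hx, ← hk.conj hgNf (hVN hx), hkα _ ((hgN.2 x).1 hx)]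
    have hkgN : k g ∈ normalizerIn S V := by
      have : ∀ y ∈ V, k g * y * (k g)⁻¹ ∈ V := by
        intro y hy
        have hy' : autFun α⁻¹ y ∈ V := autFun_mem _ hy
        have e : y = autFun α (autFun α⁻¹ y) := (autFun_apply_inv _ hy).symm
        rw [e, hkconj _ hy']
        exact autFun_mem _ ((hgN.2 _).1 hy')
      have h5 := mem_normalizer_of_finite this
      exact mem_normalizerIn.2 ⟨hk.mem hgNf, fun y => Subgroup.mem_normalizer_iff.1 h5 y⟩
    have hkg2 : k g * k g = 1 := by rw [← hk.mul hgNf hgNf, hg2, hk.one]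
    have hkgn : k g ∉ centralizerIn S V := by
      intro hcon
      apply hgn
      rw [mem_centralizerIn]
      refine ⟨hgN.1, fun x hx => ?_⟩
      have h5 := hkconj x hx
      rw [(mem_centralizerIn.1 hcon).2 _ (autFun_mem _ hx), mul_inv_cancel_right] at h5
      have h6 : x = g * x * g⁻¹ := (mor_autFun hVS hα).inj hx ((hgN.2 x).1 hx) h5
      conv_rhs => rw [h6]
      group
    apply h.fix hmax hkgN hkg2 hkgn (autFun_mem _ hzV)
    have h5 := hkconj z hzV
    have h6 : g * z * g⁻¹ = z := by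
      rw [← (mem_ZJ.1 hz).2.2 g hgN.1 hg2]; group
    rw [h6] at h5
    exact mul_inv_eq_iff_eq_mul.1 h5
  obtain ⟨a, ha, haZ⟩ := h.ne
  obtain ⟨α, hα, hαa⟩ := X1 a ha
  apply haZ
  have := X6 α⁻¹ ((F.autGroup V).inv_mem hα) _ hαa
  rwa [autFun_inv_apply _ ha] at this


theorem camina_herzog : ∀ (n : ℕ) {Ω : Type u} [Group Ω] {S : Subgroup Ω} [Finite S]
    (F : FusionSystem S), Nat.card S ≤ n → IsPGroup 2 S → F.IsSaturated 2 →
    (∀ x ∈ S, ∃ z ∈ S, (∀ s ∈ S, z * s = s * z) ∧ F.IsConjElt x z) →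
    ∀ x ∈ S, ∀ y ∈ S, x * y = y * x := by
  intro n
  induction n with
  | zero =>
    intro Ω _ S _ F hn
    have : 0 < Nat.card S := Nat.card_pos
    omega
  | succ n ih =>
  intro Ω _ S _ F hn hS hF hcent
  classical
  by_cases hcom : ∃ a ∈ S, ∃ c ∈ S, a * a = 1 ∧ c * c = 1 ∧ a * c ≠ c * a
  · exfalso
    obtain ⟨a, ha, c, hc, ha2, hc2, hac⟩ := hcom
    obtain ⟨m, V, hphi, hmax⟩ := exists_phi ha hc ha2 hc2 hac
    obtain ⟨Q, hQ, hQn⟩ := exists_fullyNormalized (F := F) hphi.le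
    obtain ⟨g, hg, hgV⟩ := FN.exists_map hS hF hQn hQ
    have h1 := hphi.map hmax (hg.mono centralizerIn_le_normalizerIn)
    rw [hgV] at h1
    exact phi_false hS hF hcent hmax h1 hQn
  push Not at hcom
  have hJ : ∀ x, x ∈ ZJ S ↔ x ∈ S ∧ x * x = 1 := by
    intro x
    rw [mem_ZJ]
    exact ⟨fun h => ⟨h.1, h.2.1⟩, fun h => ⟨h.1, h.2, fun y hy hy2 => hcom x h.1 y hy h.2 hy2⟩⟩
  have hJS : ZJ S ≤ S := fun x hx => ((hJ x).1 hx).1
  have hJsc : F.StronglyClosed (ZJ S) := by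
    rw [stronglyClosed_iff]
    refine ⟨hJS, fun R f hR hf x hx => ?_⟩
    rw [hJ]
    refine ⟨hf.mem hx, ?_⟩
    rw [← hf.mul hx hx, ((hJ x).1 (hR hx)).2, hf.one]
  have hJab : IsMulCommutative (ZJ S) := ⟨⟨fun a b => Subtype.ext
    (hcom a ((hJ a).1 a.2).1 b ((hJ b).1 b.2).1 ((hJ a).1 a.2).2 ((hJ b).1 b.2).2)⟩⟩
  have hJn : F.IsNormal (ZJ S) := normal_of_sc_abelian hS hF hJsc hJab
  -- normal subgroups centralized
  have key : ∀ N : Subgroup Ω, F.IsNormal N → ∀ x ∈ S, ∀ y ∈ N, x * y = y * x := by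
    intro N hN x hx y hy
    obtain ⟨z, hzS, hzc, hxz⟩ := hcent x hx
    obtain ⟨f, hf, hfx⟩ := isConjElt_iff.1 hxz
    obtain ⟨g, hg, hgf, -⟩ := (isNormal_iff.1 hN).2 _ f hf
    have hxx : x ∈ Subgroup.zpowers x := Subgroup.mem_zpowers x
    have hxm : x ∈ Subgroup.zpowers x ⊔ N := Subgroup.mem_sup_left hxx
    have hym : y ∈ Subgroup.zpowers x ⊔ N := Subgroup.mem_sup_right hy
    apply hg.inj (Subgroup.mul_mem _ hxm hym) (Subgroup.mul_mem _ hym hxm)
    rw [hg.mul hxm hym, hg.mul hym hxm, hgf x hxx, hfx, hzc _ (hg.mem hym)]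
  have hJcen := key _ hJn
  by_cases hJ1 : ZJ S = ⊥
  · -- S is trivial
    have hS1 : Nat.card S = 1 := by
      by_contra hne
      have hnt : Nontrivial S := by
        rw [← Finite.one_lt_card_iff_nontrivial]
        have : 0 < Nat.card S := Nat.card_pos
        omega
      obtain ⟨k, hk, hc⟩ := (IsPGroup.nontrivial_iff_card hS).1 hnt
      have hdvd : 2 ∣ Nat.card S := by rw [hc]; exact dvd_pow_self 2 hk.ne'
      obtain ⟨x, hx⟩ := exists_prime_orderOf_dvd_card' 2 hdvd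
      have hx2 : x * x = 1 := by rw [← pow_two, ← hx, pow_orderOf_eq_one]
      have h1 : (x : Ω) ∈ ZJ S := (hJ _).2 ⟨x.2, congrArg Subtype.val hx2⟩
      rw [hJ1, Subgroup.mem_bot] at h1
      have : x = 1 := Subtype.ext h1
      rw [this, orderOf_one] at hx
      omega
    intro x hx y hy
    have := (Nat.card_eq_one_iff_unique.1 hS1).1
    have h1 : (⟨x, hx⟩ : S) = ⟨y, hy⟩ := Subsingleton.elim _ _
    have h2 : x = y := congrArg Subtype.val h1
    rw [h2]
  -- the factor system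
  have hJnorm : ((ZJ S).subgroupOf S).Normal := ⟨fun a ha b => by
    rw [Subgroup.mem_subgroupOf] at ha ⊢
    exact sc_conj hJsc b.2 ha⟩
  set θ : S →* S ⧸ (ZJ S).subgroupOf S := QuotientGroup.mk' _ with hθ
  have hk : ∀ x ∈ S, tf θ x = 1 ↔ x ∈ ZJ S := by
    intro x hx
    rw [tf_apply θ hx, hθ, QuotientGroup.mk'_apply, QuotientGroup.eq_one_iff,
      Subgroup.mem_subgroupOf]
  have hE := factorSys_isFactor (F := F) hJsc hk
  set E := factorSys F (ZJ S) hJsc θ hk with hEdef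
  have hsur := factor_surj hS hF hJsc hE
  have hEs := surj_saturated hS hF hsur
  have hfinr : Finite θ.range := Finite.of_surjective _ θ.rangeRestrict_surjective
  have hrp : IsPGroup 2 θ.range := hS.of_surjective θ.rangeRestrict θ.rangeRestrict_surjective
  have hcard : Nat.card θ.range ≤ n := by
    have h1 : Nat.card θ.range = ((ZJ S).subgroupOf S).index := by
      have h2 : θ.range = ⊤ := MonoidHom.range_eq_top.2 (QuotientGroup.mk'_surjective _)
      rw [h2, Subgroup.card_top]; rfl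
    have h3 := ((ZJ S).subgroupOf S).card_mul_index
    have h4 : 1 < Nat.card ((ZJ S).subgroupOf S) := by
      rw [Subgroup.one_lt_card_iff_ne_bot]
      intro h0
      apply hJ1
      rw [eq_bot_iff]
      intro x hx
      have : (⟨x, hJS hx⟩ : S) ∈ (ZJ S).subgroupOf S := hx
      rw [h0, Subgroup.mem_bot] at this
      rw [Subgroup.mem_bot]
      exact congrArg Subtype.val this
    have h5 : 0 < ((ZJ S).subgroupOf S).index := Nat.pos_of_ne_zero Subgroup.index_ne_zero_of_finite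
    rw [h1]
    have h6 : 2 * ((ZJ S).subgroupOf S).index ≤ Nat.card S := by
      rw [← h3]; exact Nat.mul_le_mul_right _ h4
    omega
  have hEc : ∀ y ∈ θ.range, ∃ z ∈ θ.range, (∀ s ∈ θ.range, z * s = s * z) ∧ E.IsConjElt y z := by
    rintro _ ⟨x, rfl⟩
    obtain ⟨z, hzS, hzc, hxz⟩ := hcent x x.2
    obtain ⟨f, hf, hfx⟩ := isConjElt_iff.1 hxz
    refine ⟨tf θ z, ?_, ?_, ?_⟩
    · rw [tf_apply θ hzS]; exact ⟨_, rfl⟩
    · rintro _ ⟨s, rfl⟩
      rw [← tf_coe θ s, ← tf_mul hzS s.2, ← tf_mul s.2 hzS, hzc s s.2]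
    · obtain ⟨f', hf', h1⟩ := morphism_apply hsur.1 hf
      have hxx : (x : Ω) ∈ Subgroup.zpowers (x : Ω) := Subgroup.mem_zpowers _
      rw [isConjElt_iff]
      refine ⟨f', hf'.mono ?_, ?_⟩
      · rw [Subgroup.zpowers_le, ← tf_coe θ x]
        exact tf_mem_imageAlong hf.le hxx
      · rw [← tf_coe θ x, h1 _ hxx, hfx]
  have hab := ih E hcard hrp hEs hEc
  have hcomm : ∀ x ∈ S, ∀ s ∈ S, x⁻¹ * (s * x * s⁻¹) ∈ ZJ S := by
    intro x hx s hs
    rw [← hk _ (S.mul_mem (S.inv_mem hx) (S.mul_mem (S.mul_mem hs hx) (S.inv_mem hs))),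
      tf_mul (S.inv_mem hx) (S.mul_mem (S.mul_mem hs hx) (S.inv_mem hs)), tf_inv hx,
      tf_conj hs hx]
    have h1 := hab (tf θ s) (by rw [tf_apply θ hs]; exact ⟨_, rfl⟩) (tf θ x)
      (by rw [tf_apply θ hx]; exact ⟨_, rfl⟩)
    rw [h1]; simp
  have hSn : F.IsNormal S := by
    refine normal_top_of_no_essential hS hF fun P hP => ?_
    have hPS := hP.1.1
    have hPfin : Finite P := finite_of_le hPS
    have hJP : ZJ S ≤ P := normal_le_centric_radical hS hJn hP.1 (essential_radical hS hP)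
    set D : ℕ → Subgroup Ω := fun j => if j = 0 then ⊥ else if j = 1 then ZJ S else P with hD
    have hinv : ∀ j, ∀ α ∈ F.autGroup P, ∀ x ∈ P, x ∈ D j → autFun α x ∈ D j := by
      intro j α hα x hx hxD
      simp only [hD] at hxD ⊢
      split_ifs at hxD ⊢ with h1 h2
      · rw [Subgroup.mem_bot] at hxD ⊢
        rw [hxD]; exact (mor_autFun hPS hα).one
      · exact sc_apply hJsc (mor_autFun hPS hα) hx hxD
      · exact autFun_mem _ hx
    refine essential_no_normal hS hF hP (chainStab (F.autGroup P) D hinv) chainStab_normal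
      (isPGroup_chainStab (hS.to_le hPS) 2 (by simp [hD]) (by simp [hD])) ?_
    intro α hα
    rw [Subgroup.mem_subgroupOf] at hα
    obtain ⟨s, hs, h1⟩ := mem_autInducedBy'.1 hα
    rw [mem_chainStab]
    intro j x hx hxD
    simp only [hD] at hxD ⊢
    rw [h1 x hx]
    by_cases hj : j = 0
    · subst hj
      simp only [zero_add, one_ne_zero, if_false, if_true] at hxD ⊢
      rw [hJcen s hs x hxD]; simp
    rw [if_neg hj]
    by_cases hj1 : j = 1
    · rw [if_pos hj1]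
      exact hcomm x (hPS hx) s hs
    · rw [if_neg hj1]
      have := autFun_mem (α : MulAut P) hx
      rw [h1 x hx] at this
      exact P.mul_mem (P.inv_mem hx) this
  exact fun x hx y hy => key S hSn x hx y hy

end Cfsg.Agent.H13
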