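import Mathlib
import Cfsg.Agent.H13.CamHer
import Cfsg.Agent.H28.FusGroup

/-!
# The Camina-Herzog criterion for finite groups
-/

set_option autoImplicit false
set_option linter.all false
open Cfsg Cfsg.FusionSystem

universe u

namespace Cfsg.Agent.H13

open Cfsg.Agent.H28

theorem sylow_comm_of_central {G : Type u} [Group G] [Finite G] (P : Sylow 2 G)
    (h : ∀ x ∈ (P : Subgroup G), ∃ Q : Sylow 2 G, (Q : Subgroup G) ≤ Subgroup.centralizer ({x} : Set G)) :
    ∀ x ∈ (P : Subgroup G), ∀ y ∈ (P : Subgroup G), x * y = y * x := by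
  refine camina_herzog (Nat.card (P : Subgroup G)) (groupFusionSystem (P : Subgroup G)) le_rfl P.2
    (group_saturated P) fun x hx => ?_
  obtain ⟨Q, hQ⟩ := h x hx
  obtain ⟨g, hg⟩ := MulAction.exists_smul_eq G Q P
  have hmem : ∀ y, y ∈ (P : Subgroup G) → g⁻¹ * y * g ∈ (Q : Subgroup G) := by
    intro y hy
    have hy' : y ∈ ((g • Q : Sylow 2 G) : Subgroup G) := by rw [hg]; exact hy
    rw [Sylow.smul_def, Sylow.pointwise_smul_def] at hy'
    obtain ⟨z, hz, rfl⟩ := hy'
    show g⁻¹ * (g * z * g⁻¹) * g ∈ (Q : Subgroup G)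
    have e : g⁻¹ * (g * z * g⁻¹) * g = z := by group
    rw [e]; exact hz
  set z := g * x * g⁻¹ with hz
  have hzc : ∀ s ∈ (P : Subgroup G), z * s = s * z := by
    intro s hs
    have h1 := Subgroup.mem_centralizer_singleton_iff.1 (hQ (hmem s hs))
    calc z * s = g * (x * (g⁻¹ * s * g)) * g⁻¹ := by rw [hz]; group
      _ = g * ((g⁻¹ * s * g) * x) * g⁻¹ := by rw [h1]
      _ = s * z := by rw [hz]; group
  -- z lies in P
  have hzP : z ∈ (P : Subgroup G) := by
    have h1 : IsPGroup 2 (Subgroup.zpowers z) := by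
      obtain ⟨k, hk⟩ := P.2 ⟨x, hx⟩
      have hk' : x ^ 2 ^ k = 1 := congrArg Subtype.val hk
      apply isPGroup_zpowers_of_pow (n := k)
      rw [hz, conj_pow, hk']; simp
    have h2 : IsPGroup 2 ((P : Subgroup G) ⊔ Subgroup.zpowers z : Subgroup G) := by
      apply IsPGroup.to_sup_of_normal_left' P.2 h1
      rw [Subgroup.zpowers_le]
      rw [Subgroup.mem_normalizer_iff]
      intro s
      constructor
      · intro hs
        rw [hzc s hs, mul_inv_cancel_right]; exact hs
      · intro hs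
        have h3 := hzc _ hs
        have h4 : s = z⁻¹ * (z * s * z⁻¹) * z := by group
        have h5 : z⁻¹ * (z * s * z⁻¹) * z = z * s * z⁻¹ := by
          rw [mul_assoc, ← h3]; group
        rw [h4, h5]; exact hs
    have h3 := P.3 h2 le_sup_left
    have h4 : Subgroup.zpowers z ≤ (P : Subgroup G) := by
      rw [← h3]; exact le_sup_right
    exact h4 (Subgroup.mem_zpowers z)
  refine ⟨z, hzP, hzc, ?_⟩
  rw [isConjElt_iff]
  refine ⟨fun y => g * y * g⁻¹, mor_group_conj (by rwa [Subgroup.zpowers_le]) ?_, rfl⟩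
  intro y hy
  obtain ⟨n, rfl⟩ := Subgroup.mem_zpowers_iff.1 hy
  rw [← conj_zpow]
  exact Subgroup.zpow_mem _ hzP n

end Cfsg.Agent.H13
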