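import Cfsg.Agent.H13.CharLocal
import Cfsg.Agent.H18.PCore

set_option autoImplicit false

namespace Cfsg.Agent.H13

open Subgroup

variable {G H : Type*} [Group G] [Group H]

/-- If `N_G(C)` has characteristic `p` then so has `N_G(U)` for every `p`-subgroup `U ≥ C`. -/
theorem charP_normalizer_of_le [Finite G] {p : ℕ} [hp : Fact p.Prime] {U : Subgroup G}
    (hU : IsPGroup p U) :
    ∀ (n : ℕ) (C : Subgroup G), C.relIndex U ≤ n → C ≤ U →
      (centralizer (pCore p (normalizer (C : Set G)) : Set (normalizer (C : Set G))) ≤
        pCore p (normalizer (C : Set G))) →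
      centralizer (pCore p (normalizer (U : Set G)) : Set (normalizer (U : Set G))) ≤
        pCore p (normalizer (U : Set G)) := by
  intro n
  induction n with
  | zero =>
    intro C hn hCU _
    exfalso
    have : C.relIndex U ≠ 0 := by
      rw [Subgroup.relIndex]
      exact Subgroup.index_ne_zero_of_finite
    omega
  | succ n ih =>
    intro C hn hCU hC
    rcases eq_or_lt_of_le hCU with rfl | hlt
    · exact hC
    · have h1 := H19.lt_inf_normalizer_of_lt hU hlt
      set C1 := U ⊓ normalizer (C : Set G) with hC1
      have hC1p : IsPGroup p C1 := hU.to_le inf_le_left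
      have h2 := H19.charP_centralizer_of_normal_sub hC1p h1.le inf_le_right hC
      have h3 := H19.charP_normalizer_of_centralizer hC1p h2
      refine ih C1 ?_ inf_le_left h3
      have h4 : C.relIndex C1 * C1.relIndex U = C.relIndex U :=
        Subgroup.relIndex_mul_relIndex _ _ _ h1.le inf_le_left
      have h5 : C.relIndex C1 ≠ 1 := by
        intro h
        exact absurd (Subgroup.relIndex_eq_one.1 h) (not_le_of_gt h1)
      have h6 : C.relIndex C1 ≠ 0 := by
        rw [Subgroup.relIndex]
        exact Subgroup.index_ne_zero_of_finite
      have h7 : C1.relIndex U ≠ 0 := by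
        rw [Subgroup.relIndex]
        exact Subgroup.index_ne_zero_of_finite
      have : 2 * C1.relIndex U ≤ C.relIndex U := by
        rw [← h4]
        exact Nat.mul_le_mul_right _ (by omega)
      omega

/-- The normalizer of a subgroup of order 2 is the centralizer of its involution. -/
theorem normalizer_zpowers_of_order_two {z : G} (hz : orderOf z = 2) :
    normalizer (zpowers z : Set G) = centralizer ({z} : Set G) := by
  have hz1 : z ≠ 1 := by
    rintro rfl
    simp at hz
  have hz2 : z ^ 2 = 1 := by rw [← hz]; exact pow_orderOf_eq_one z
  have hmem : ∀ x, x ∈ zpowers z ↔ x = 1 ∨ x = z := by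
    intro x
    constructor
    · rintro ⟨k, rfl⟩
      rcases Int.even_or_odd' k with ⟨m, rfl | rfl⟩
      · left
        simp only [zpow_mul]
        norm_cast
        simp [hz2]
      · right
        simp only [zpow_add, zpow_mul]
        norm_cast
        simp [hz2]
    · rintro (rfl | rfl)
      · exact one_mem _
      · exact mem_zpowers _
  ext g
  rw [mem_centralizer_singleton_iff]
  constructor
  · intro hg
    have h1 := (H18.mem_normalizer_iff_conj.1 hg z).1 (mem_zpowers z)
    rcases (hmem _).1 h1 with h | h
    · exfalso
      apply hz1
      have := congrArg (fun t => g⁻¹ * t * g) h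
      simpa [mul_assoc] using this
    · rw [mul_inv_eq_iff_eq_mul] at h
      exact h
  · intro hg
    rw [H18.mem_normalizer_iff_conj]
    intro x
    have e : ∀ x, g * x * g⁻¹ = z ↔ x = z := by
      intro x
      constructor
      · intro h
        rw [mul_inv_eq_iff_eq_mul, ← hg] at h
        exact mul_left_cancel h
      · rintro rfl
        rw [hg, mul_assoc, mul_inv_cancel, mul_one]
    rw [hmem, hmem, e, conj_eq_one_iff]

end Cfsg.Agent.H13
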