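import Cfsg.Agent.H13.CharLocal2
import Cfsg.Agent.H18.Basics
import Cfsg.Prelude.Def_QuasithinSetup

set_option autoImplicit false
set_option linter.style.haveILetI false

/-!
# Perfect subnormal subgroups, `O_2` and the action on `Ω₁(Z(O_2))`
-/

namespace Cfsg.Agent.H13

open Subgroup
open scoped commutatorElement

variable {G H : Type*} [Group G] [Group H] {p : ℕ}

/-- `pCoreOf` of a subgroup seen inside an overgroup. -/
theorem pCoreOf_subgroupOf_map {K Y : Subgroup G} (h : K ≤ Y) :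
    (pCoreOf p (K.subgroupOf Y)).map Y.subtype = pCoreOf p K := by
  have h1 := H18.pCore_eq_of_equiv (p := p) (subgroupOfEquivOfLe h)
  rw [pCoreOf, pCoreOf, ← h1, map_map, map_map]
  congr 1

/-- Subnormal subgroups: `O_p(K) = K ∩ O_p(Y)`. -/
theorem pCoreOf_eq_inf {K Y : Subgroup G} (h : K ≤ Y) (hs : (K.subgroupOf Y).IsSubnormal) [Finite G]
    [Fact p.Prime] : pCoreOf p K = K ⊓ pCoreOf p Y := by
  rw [← pCoreOf_subgroupOf_map h, H18.pCoreOf_eq_inf_of_isSubnormal hs,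
    map_inf _ _ _ Y.subtype_injective, map_subgroupOf_eq_of_le h]
  rfl

/-- A subgroup that is generated by `p'`-elements and subnormal is normalized by `O_p`. -/
theorem pCore_le_normalizer [Finite G] [Fact p.Prime] {K : Subgroup G} (hK : K.IsSubnormal)
    (hp : (pResidual p K).map K.subtype = K) : pCore p G ≤ normalizer (K : Set G) := by
  have h1 := H18.pRes_sup_eq_of_isSubnormal (H18.isPGroup_pCore p G) hK
  rw [hp] at h1
  have h2 := H18.le_normalizer_pRes (p := p) (K ⊔ pCore p G)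
  rw [h1] at h2
  exact le_sup_right.trans h2

theorem pCoreOf_le_normalizer [Finite G] [Fact p.Prime] {K Y : Subgroup G} (h : K ≤ Y)
    (hs : (K.subgroupOf Y).IsSubnormal) (hp : (pResidual p K).map K.subtype = K) :
    pCoreOf p Y ≤ normalizer (K : Set G) := by
  have h0 : (pResidual p (K.subgroupOf Y)).map (K.subgroupOf Y).subtype = K.subgroupOf Y := by
    apply map_injective Y.subtype_injective
    rw [map_subgroupOf_eq_of_le h, map_map]
    have h1 : (pResidual p (K.subgroupOf Y)).map (subgroupOfEquivOfLe h).toMonoidHom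
        = pResidual p K := by
      have h3 := H18.pRes_map_equiv (p := p) (subgroupOfEquivOfLe h) ⊤
      rw [H18.pRes_top, map_top_of_surjective _ (MulEquiv.surjective _), H18.pRes_top] at h3
      exact h3
    rw [← h1, map_map] at hp
    exact hp
  have h1 := pCore_le_normalizer hs h0
  rintro _ ⟨x, hx, rfl⟩
  have h2 := h1 hx
  rw [H18.mem_normalizer_iff_conj] at h2 ⊢
  intro y
  constructor
  · intro hy
    have := (h2 ⟨y, h hy⟩).1 hy
    exact this
  · intro hy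
    have hyY : y ∈ Y := by
      have h3 := h hy
      have h4 := Y.mul_mem (Y.mul_mem (Y.inv_mem x.2) h3) x.2
      simpa [mul_assoc] using h4
    exact (h2 ⟨y, hyY⟩).2 hy

/-- perfect subgroups are generated by `p'`-elements. -/
theorem pRes_eq_self_of_perfect [Finite G] [Fact p.Prime] {K : Subgroup G} (hK : ⁅K, K⁆ = K) :
    (pResidual p K).map K.subtype = K := by
  have h1 : pResidual p K = ⊤ := by
    have hq : IsPGroup p (K ⧸ pResidual p K) := H18.isPGroup_quotient_pResidual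
    have hperf : ⁅(⊤ : Subgroup K), (⊤ : Subgroup K)⁆ = ⊤ := by
      have := H18.commutator_subgroupOf (le_refl K) (le_refl K)
      rw [hK, subgroupOf_self] at this
      exact this
    have hqp : ⁅(⊤ : Subgroup (K ⧸ pResidual p K)), (⊤ : Subgroup (K ⧸ pResidual p K))⁆ = ⊤ := by
      rw [← map_top_of_surjective (QuotientGroup.mk' (pResidual p K))
        (QuotientGroup.mk'_surjective _), ← map_commutator, hperf]
    have hnil : Group.IsNilpotent (K ⧸ pResidual p K) := hq.isNilpotent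
    by_contra hne
    have hnt : Nontrivial (K ⧸ pResidual p K) := by
      rw [QuotientGroup.nontrivial_iff]
      exact hne
    have hlt := Group.IsSolvable.commutator_lt_top_of_nontrivial (K ⧸ pResidual p K)
    exact hlt.ne hqp
  rw [h1, ← MonoidHom.range_eq_map, range_subtype]

/-- `Ω₁` of an abelian subgroup consists of elements of order dividing `p`. -/
theorem omegaOne_pow {A : Subgroup G} (hA : A ≤ centralizer (A : Set G)) {x : G}
    (hx : x ∈ omegaOne p A) : x ∈ A ∧ x ^ p = 1 := by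
  refine closure_induction (p := fun x _ => x ∈ A ∧ x ^ p = 1) (fun x hx => hx)
    ⟨one_mem _, one_pow _⟩ ?_ ?_ hx
  · rintro a b _ _ ⟨ha, ha'⟩ ⟨hb, hb'⟩
    refine ⟨A.mul_mem ha hb, ?_⟩
    have hc : Commute a b := mem_centralizer_iff.1 (hA hb) a ha
    rw [hc.mul_pow, ha', hb', one_mul]
  · rintro a _ ⟨ha, ha'⟩
    exact ⟨A.inv_mem ha, by rw [inv_pow, ha', inv_one]⟩

theorem mem_omegaOne {A : Subgroup G} {x : G} (hx : x ∈ A) (hp : x ^ p = 1) :
    x ∈ omegaOne p A := subset_closure ⟨hx, hp⟩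

theorem center_abelian (Q : Subgroup G) :
    Q ⊓ centralizer (Q : Set G) ≤ centralizer ((Q ⊓ centralizer (Q : Set G) : Subgroup G) : Set G) := by
  intro x hx
  rw [mem_centralizer_iff]
  intro y hy
  exact mem_centralizer_iff.1 hx.2 y hy.1

/-- `Z*(Q) := Ω₁(Z(Q))`. -/
theorem mem_omegaZ_iff {Q : Subgroup G} {x : G} :
    x ∈ omegaOne p (Q ⊓ centralizer (Q : Set G)) ↔ x ∈ Q ∧ x ∈ centralizer (Q : Set G) ∧ x ^ p = 1 := by
  constructor
  · intro hx
    obtain ⟨h1, h2⟩ := omegaOne_pow (center_abelian Q) hx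
    exact ⟨h1.1, h1.2, h2⟩
  · rintro ⟨h1, h2, h3⟩
    exact mem_omegaOne ⟨h1, h2⟩ h3

/-- If `L = O^p(L)`, `Q` is a `p`-group, `L` and `Q` normalize each other and `L` centralizes `Ω₁(Z(Q))` then
`L` centralizes `Ω₁(Z(L ∩ Q))`. -/
theorem centralizes_omegaZ_inf [Finite G] [Fact p.Prime] {L Q : Subgroup G} (hQ : IsPGroup p Q)
    (hQL : Q ≤ normalizer (L : Set G)) (hLQ : L ≤ normalizer (Q : Set G))
    (hL : (pResidual p L).map L.subtype = L)
    (h : ∀ l ∈ L, ∀ z ∈ omegaOne p (Q ⊓ centralizer (Q : Set G)), l * z = z * l) :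
    ∀ l ∈ L, ∀ z ∈ omegaOne p ((L ⊓ Q) ⊓ centralizer ((L ⊓ Q : Subgroup G) : Set G)), l * z = z * l := by
  set R := L ⊓ Q with hR
  -- it suffices to treat `p'`-elements
  suffices hmain : ∀ x ∈ L, (orderOf x).Coprime p →
      ∀ z ∈ omegaOne p (R ⊓ centralizer (R : Set G)), x * z = z * x by
    intro l hl z hz
    rw [← hL, H18.pRes_eq_closure] at hl
    refine closure_induction (p := fun l _ => l * z = z * l) ?_ ?_ ?_ ?_ hl
    · rintro x ⟨hx, hxp⟩
      exact hmain x hx hxp z hz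
    · simp
    · intro a b _ _ ha hb
      rw [mul_assoc, hb, ← mul_assoc, ha, mul_assoc]
    · intro a _ ha
      rw [inv_mul_eq_iff_eq_mul, ← mul_assoc, ha, mul_assoc, mul_inv_cancel, mul_one]
  intro x hxL hxp
  -- normalizing facts
  have hQR : Q ≤ normalizer (R : Set G) := H18.le_normalizer_inf hQL le_normalizer
  have hLR : L ≤ normalizer (R : Set G) := H18.le_normalizer_inf le_normalizer hLQ
  have hconjZ : ∀ g ∈ normalizer (R : Set G), ∀ v ∈ omegaOne p (R ⊓ centralizer (R : Set G)),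
      g * v * g⁻¹ ∈ omegaOne p (R ⊓ centralizer (R : Set G)) := by
    intro g hg v hv
    rw [mem_omegaZ_iff] at hv ⊢
    refine ⟨H18.conj_mem_of_mem_normalizer hg hv.1, ?_, ?_⟩
    · have := H18.le_normalizer_centralizer (le_refl (normalizer (R : Set G))) hg
      exact H18.conj_mem_of_mem_normalizer this hv.2.1
    · rw [conj_pow, hv.2.2, mul_one, mul_inv_cancel]
  -- commutators `[x, q]` lie in `R`
  have hcomm : ∀ q ∈ Q, x⁻¹ * (q * x * q⁻¹) ∈ R := by
    intro q hq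
    refine ⟨L.mul_mem (L.inv_mem hxL) (H18.conj_mem_of_mem_normalizer (hQL hq) hxL), ?_⟩
    have : x⁻¹ * (q * x * q⁻¹) = (x⁻¹ * q * x) * q⁻¹ := by group
    rw [this]
    exact Q.mul_mem (H18.conj_mem_of_mem_normalizer' (hLQ hxL) hq) (Q.inv_mem hq)
  by_contra hcon
  push Not at hcon
  obtain ⟨z, hz, hxz⟩ := hcon
  -- W = { v⁻¹ x v x⁻¹ : v ∈ V }
  set V := omegaOne p (R ⊓ centralizer (R : Set G)) with hV
  have hVR : ∀ v ∈ V, v ∈ R := fun v hv => (mem_omegaZ_iff.1 hv).1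
  have hVc : ∀ v ∈ V, ∀ r ∈ R, r * v = v * r := fun v hv r hr =>
    mem_centralizer_iff.1 (mem_omegaZ_iff.1 hv).2.1 r hr
  have hxN : x ∈ normalizer (R : Set G) := hLR hxL
  have hxV : ∀ v ∈ V, x * v * x⁻¹ ∈ V := hconjZ x hxN
  have key : ∀ a ∈ V, ∀ b ∈ V, a * b = b * a := fun a ha b hb => hVc b hb a (hVR a ha)
  let W : Subgroup G :=
    { carrier := {w | ∃ v ∈ V, v⁻¹ * (x * v * x⁻¹) = w}
      one_mem' := ⟨1, one_mem _, by simp⟩
      mul_mem' := by
        rintro _ _ ⟨a, ha, rfl⟩ ⟨b, hb, rfl⟩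
        refine ⟨a * b, V.mul_mem ha hb, ?_⟩
        have h1 := key b⁻¹ (V.inv_mem hb) (a⁻¹ * (x * a * x⁻¹)) (V.mul_mem (V.inv_mem ha) (hxV a ha))
        calc (a * b)⁻¹ * (x * (a * b) * x⁻¹) = (b⁻¹ * (a⁻¹ * (x * a * x⁻¹))) * (x * b * x⁻¹) := by group
          _ = ((a⁻¹ * (x * a * x⁻¹)) * b⁻¹) * (x * b * x⁻¹) := by rw [h1]
          _ = _ := by group
      inv_mem' := by
        rintro _ ⟨a, ha, rfl⟩
        refine ⟨a⁻¹, V.inv_mem ha, ?_⟩
        have h1 := key a ha (x * a * x⁻¹)⁻¹ (V.inv_mem (hxV a ha))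
        calc a⁻¹⁻¹ * (x * a⁻¹ * x⁻¹) = a * (x * a * x⁻¹)⁻¹ := by group
          _ = (x * a * x⁻¹)⁻¹ * a := h1
          _ = _ := by group }
  have hWV : W ≤ V := by
    rintro _ ⟨v, hv, rfl⟩
    exact V.mul_mem (V.inv_mem hv) (hxV v hv)
  have hVp : IsPGroup p V := (hQ.to_le (inf_le_right : R ≤ Q)).to_le hVR
  have hWp : IsPGroup p W := hVp.to_le hWV
  have hWne : W ≠ ⊥ := by
    intro hbot
    have h1 : z⁻¹ * (x * z * x⁻¹) ∈ W := ⟨z, hz, rfl⟩
    rw [hbot, mem_bot] at h1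
    apply hxz
    rw [inv_mul_eq_one] at h1
    rw [eq_mul_inv_iff_mul_eq] at h1
    exact h1.symm
  have hQW : Q ≤ normalizer (W : Set G) := by
    rw [H18.le_normalizer_iff_conj_mem]
    rintro q hq _ ⟨v, hv, rfl⟩
    refine ⟨q * v * q⁻¹, hconjZ q (hQR hq) v hv, ?_⟩
    set c := x⁻¹ * (q * x * q⁻¹) with hc
    have hcR : c ∈ R := hcomm q hq
    have hv' : q * v * q⁻¹ ∈ V := hconjZ q (hQR hq) v hv
    have h1 : c * (q * v * q⁻¹) * c⁻¹ = q * v * q⁻¹ := by
      rw [hVc _ hv' c hcR, mul_assoc, mul_inv_cancel, mul_one]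
    have h2 : q * x * q⁻¹ = x * c := by rw [hc]; group
    calc (q * v * q⁻¹)⁻¹ * (x * (q * v * q⁻¹) * x⁻¹)
        = (q * v * q⁻¹)⁻¹ * (x * (c * (q * v * q⁻¹) * c⁻¹) * x⁻¹) := by rw [h1]
      _ = (q * v * q⁻¹)⁻¹ * ((x * c) * (q * v * q⁻¹) * (x * c)⁻¹) := by group
      _ = (q * v * q⁻¹)⁻¹ * ((q * x * q⁻¹) * (q * v * q⁻¹) * (q * x * q⁻¹)⁻¹) := by rw [← h2]
      _ = q * (v⁻¹ * (x * v * x⁻¹)) * q⁻¹ := by group
  have hne := H18.inf_centralizer_ne_bot hWp hQ hQW hWne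
  obtain ⟨⟨w, hw⟩, hw1⟩ := Subgroup.ne_bot_iff_exists_ne_one.1 hne
  obtain ⟨⟨v, hv, hvw⟩, hwc⟩ := hw
  have hwV : w ∈ V := hWV ⟨v, hv, hvw⟩
  -- `w ∈ Ω₁(Z(Q))`
  have hwZ : w ∈ omegaOne p (Q ⊓ centralizer (Q : Set G)) := by
    rw [mem_omegaZ_iff]
    exact ⟨(hVR w hwV).2, hwc, (mem_omegaZ_iff.1 hwV).2.2⟩
  have hxw : x * w = w * x := h x hxL w hwZ
  -- x^k v x^-k = v w^k
  have hpow : ∀ k : ℕ, x ^ k * v * (x ^ k)⁻¹ = v * w ^ k := by
    intro k
    induction k with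
    | zero => simp
    | succ k ih =>
      have h1 : x * v * x⁻¹ = v * w := by rw [← hvw]; group
      have h2 : x * w ^ k * x⁻¹ = w ^ k := by
        have : Commute x w := hxw
        rw [(this.pow_right k).eq, mul_assoc, mul_inv_cancel, mul_one]
      calc x ^ (k + 1) * v * (x ^ (k + 1))⁻¹ = x * (x ^ k * v * (x ^ k)⁻¹) * x⁻¹ := by
            rw [pow_succ']; group
        _ = x * (v * w ^ k) * x⁻¹ := by rw [ih]
        _ = (x * v * x⁻¹) * (x * w ^ k * x⁻¹) := by group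
        _ = v * w * w ^ k := by rw [h1, h2]
        _ = v * w ^ (k + 1) := by rw [pow_succ', mul_assoc]
  have h3 := hpow (orderOf x)
  rw [pow_orderOf_eq_one, one_mul, inv_one, mul_one] at h3
  have h4 : w ^ orderOf x = 1 := by
    have := mul_left_cancel (a := v) (b := 1) (c := w ^ orderOf x) (by rw [mul_one]; exact h3)
    exact this.symm
  have h5 : w ^ p = 1 := (mem_omegaZ_iff.1 hwV).2.2
  have h6 : orderOf w ∣ 1 := by
    rw [← Nat.Coprime.gcd_eq_one hxp]
    exact Nat.dvd_gcd (orderOf_dvd_of_pow_eq_one h4) (orderOf_dvd_of_pow_eq_one h5)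
  apply hw1
  have : w = 1 := by
    rw [Nat.dvd_one, orderOf_eq_one_iff] at h6
    exact h6
  exact Subtype.ext this

/-- If a perfect `K` and a `p`-group `P` normalize each other, and `K` does not centralize `Ω₁(Z(P))`, then
`[Ω₁(Z(K ∩ P)), K] ≠ 1`. -/
theorem commutator_omegaZ_inf_ne_bot {K P : Subgroup G}
    (hPK : P ≤ normalizer (K : Set G)) (hKP : K ≤ normalizer (P : Set G)) (hK : ⁅K, K⁆ = K)
    (h : ¬ ∀ l ∈ K, ∀ z ∈ omegaOne p (P ⊓ centralizer (P : Set G)), l * z = z * l) :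
    ⁅omegaOne p ((K ⊓ P) ⊓ centralizer ((K ⊓ P : Subgroup G) : Set G)), K⁆ ≠ ⊥ := by
  intro hbot
  set Z := omegaOne p (P ⊓ centralizer (P : Set G)) with hZ
  have hKZ : ∀ g ∈ K, ∀ z ∈ Z, g * z * g⁻¹ ∈ Z := by
    intro g hg v hv
    rw [hZ, mem_omegaZ_iff] at hv ⊢
    refine ⟨H18.conj_mem_of_mem_normalizer (hKP hg) hv.1, ?_, ?_⟩
    · have := H18.le_normalizer_centralizer hKP hg
      exact H18.conj_mem_of_mem_normalizer this hv.2.1
    · rw [conj_pow, hv.2.2, mul_one, mul_inv_cancel]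
  have hW : ⁅Z, K⁆ ≤ omegaOne p ((K ⊓ P) ⊓ centralizer ((K ⊓ P : Subgroup G) : Set G)) := by
    rw [commutator_le]
    intro z hz k hk
    have hz' := mem_omegaZ_iff.1 hz
    have h1 : ⁅z, k⁆ = z * (k * z⁻¹ * k⁻¹) := by rw [commutatorElement_def]; group
    have h2 : ⁅z, k⁆ ∈ Z := by
      rw [h1]
      exact Z.mul_mem hz (hKZ k hk _ (Z.inv_mem hz))
    have h3 : ⁅z, k⁆ ∈ K := by
      have : ⁅z, k⁆ = (z * k * z⁻¹) * k⁻¹ := by rw [commutatorElement_def]
      rw [this]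
      exact K.mul_mem (H18.conj_mem_of_mem_normalizer (hPK hz'.1) hk) (K.inv_mem hk)
    have h4 := mem_omegaZ_iff.1 h2
    rw [mem_omegaZ_iff]
    refine ⟨⟨h3, h4.1⟩, ?_, h4.2.2⟩
    exact centralizer_le (fun _ hx => hx.2) h4.2.1
  have h1 : ⁅⁅Z, K⁆, K⁆ = ⊥ := by
    rw [eq_bot_iff, ← hbot]
    exact commutator_mono hW le_rfl
  have h2 : ⁅⁅K, K⁆, Z⁆ = ⊥ := by
    apply commutator_commutator_eq_bot_of_rotate
    · rw [commutator_comm K Z]
      exact h1
    · exact h1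
  rw [hK] at h2
  apply h
  intro l hl z hz
  have h3 : ⁅l, z⁆ = 1 := by
    rw [← mem_bot, ← h2]
    exact commutator_mem_commutator hl hz
  exact (commutatorElement_eq_one_iff_mul_comm.1 h3)

end Cfsg.Agent.H13
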