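import Cfsg.Agent.H13.GalCount
import Cfsg.Agent.H23.Coprime
import Cfsg.Agent.H20.Fpf2
import Cfsg.Agent.H1.Basic
import Cfsg.Agent.H1.Coprime

set_option autoImplicit false
set_option linter.style.haveILetI false
set_option linter.unusedSectionVars false

/-!
# The order formula for a Frobenius group acting coprimely on a solvable group
-/

open Subgroup
open scoped Pointwise commutatorElement

namespace Cfsg.Agent.H13.FF

universe u

variable {X : Type u} [Group X]

/-- hypotheses -/
structure Hyp (U E H : Subgroup X) : Prop where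
  hU1 : U ≠ ⊥
  hE1 : E ≠ ⊥
  hUE : U ⊓ E = ⊥
  hUn : ∀ e ∈ E, ∀ u ∈ U, e * u * e⁻¹ ∈ U
  hfpf : ∀ e ∈ E, e ≠ 1 → ∀ u ∈ U, e * u = u * e → u = 1
  hHn : ∀ x ∈ U ⊔ E, ∀ h ∈ H, x * h * x⁻¹ ∈ H
  hsolv : Group.IsSolvable H
  hcop : Nat.Coprime (Nat.card H) (Nat.card ↥(U ⊔ E))

/-- the formula -/
def Fm (U E H : Subgroup X) : Prop :=
  Nat.card ↥(H ⊓ centralizer ((U ⊔ E : Subgroup X) : Set X)) ^ Nat.card E * Nat.card H =
    Nat.card ↥(H ⊓ centralizer (E : Set X)) ^ Nat.card E *
      Nat.card ↥(H ⊓ centralizer (U : Set X))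

theorem card_inf_centralizer_subgroupOf {Y A H : Subgroup X} (hA : A ≤ Y) (hH : H ≤ Y) :
    Nat.card ↥(H.subgroupOf Y ⊓ centralizer ((A.subgroupOf Y : Subgroup Y) : Set Y)) =
      Nat.card ↥(H ⊓ centralizer (A : Set X)) := by
  have h1 : (H.subgroupOf Y ⊓ centralizer ((A.subgroupOf Y : Subgroup Y) : Set Y)).map Y.subtype =
      H ⊓ centralizer (A : Set X) := by
    ext x
    simp only [mem_map, mem_inf, mem_subgroupOf, mem_centralizer_iff, SetLike.mem_coe,
      Subgroup.coe_subtype]
    constructor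
    · rintro ⟨y, ⟨hy1, hy2⟩, rfl⟩
      refine ⟨hy1, fun a ha => ?_⟩
      have := hy2 ⟨a, hA ha⟩ ha
      exact congrArg Subtype.val this
    · rintro ⟨hx, hx2⟩
      refine ⟨⟨x, hH hx⟩, ⟨hx, ?_⟩, rfl⟩
      intro a ha
      exact Subtype.ext (hx2 a ha)
  rw [← h1]
  exact (Nat.card_congr
    (Subgroup.equivMapOfInjective _ _ Y.subtype_injective).toEquiv)

theorem Fm.of_subgroupOf {Y U E H : Subgroup X} (hU : U ≤ Y) (hE : E ≤ Y) (hH : H ≤ Y)
    (h : Fm (U.subgroupOf Y) (E.subgroupOf Y) (H.subgroupOf Y)) : Fm U E H := by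
  unfold Fm at h ⊢
  rw [← subgroupOf_sup hU hE, card_inf_centralizer_subgroupOf (sup_le hU hE) hH,
    card_inf_centralizer_subgroupOf hE hH, card_inf_centralizer_subgroupOf hU hH,
    Nat.card_congr (subgroupOfEquivOfLe hE).toEquiv,
    Nat.card_congr (subgroupOfEquivOfLe hH).toEquiv] at h
  exact h

theorem Hyp.subgroupOf {Y U E H : Subgroup X} (hU : U ≤ Y) (hE : E ≤ Y) (hH : H ≤ Y)
    (h : Hyp U E H) : Hyp (U.subgroupOf Y) (E.subgroupOf Y) (H.subgroupOf Y) where
  hU1 := by
    intro h0
    apply h.hU1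
    rw [subgroupOf_eq_bot, disjoint_iff, inf_eq_left.2 hU] at h0
    exact h0
  hE1 := by
    intro h0
    apply h.hE1
    rw [subgroupOf_eq_bot, disjoint_iff, inf_eq_left.2 hE] at h0
    exact h0
  hUE := by
    rw [eq_bot_iff]
    intro x hx
    have h1 : (x : X) ∈ U ⊓ E := hx
    rw [h.hUE, mem_bot] at h1
    rw [mem_bot]
    exact Subtype.ext h1
  hUn := fun e he u hu => h.hUn e he u hu
  hfpf := by
    intro e he he1 u hu heu
    apply Subtype.ext
    exact h.hfpf e he (fun h0 => he1 (Subtype.ext h0)) u hu (congrArg Subtype.val heu)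
  hHn := by
    intro x hx k hk
    rw [← subgroupOf_sup hU hE] at hx
    exact h.hHn x hx k hk
  hsolv := by
    haveI := h.hsolv
    exact Group.isSolvable_of_isSolvable_injective (f := (subgroupOfEquivOfLe hH).toMonoidHom)
      (subgroupOfEquivOfLe hH).injective
  hcop := by
    rw [← subgroupOf_sup hU hE, Nat.card_congr (subgroupOfEquivOfLe (sup_le hU hE)).toEquiv,
      Nat.card_congr (subgroupOfEquivOfLe hH).toEquiv]
    exact h.hcop

theorem isSolvable_le {A B : Subgroup X} (h : A ≤ B) (hB : Group.IsSolvable B) :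
    Group.IsSolvable A := by
  haveI := hB
  exact Group.isSolvable_of_isSolvable_injective (f := inclusion h) (inclusion_injective h)

theorem Hyp.disj [Finite X] {U E H : Subgroup X} (h : Hyp U E H) : H ⊓ (U ⊔ E) = ⊥ :=
  Cfsg.Agent.H23.inf_eq_bot_of_coprime h.hcop

theorem card_map_of_inf_eq_bot [Finite X] {N A : Subgroup X} [N.Normal] (h : A ⊓ N = ⊥) :
    Nat.card (A.map (QuotientGroup.mk' N)) = Nat.card A := by
  have := Cfsg.Agent.H1.card_map_mk'_mul N A
  rwa [h, card_bot, one_mul] at this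

section quot

variable [Finite X] {U E H N : Subgroup X} [N.Normal]

theorem card_C (hyp : Hyp U E H) (hNH : N ≤ H) {A : Subgroup X} (hA : A ≤ U ⊔ E) :
    Nat.card ↥(H ⊓ centralizer (A : Set X)) = Nat.card ↥(N ⊓ centralizer (A : Set X)) *
      Nat.card ↥(H.map (QuotientGroup.mk' N) ⊓
        centralizer ((A.map (QuotientGroup.mk' N) : Subgroup (X ⧸ N)) : Set (X ⧸ N))) := by
  have hcop : (Nat.card A).Coprime (Nat.card N) :=
    (Nat.Coprime.coprime_dvd_left (card_dvd_of_le hA)
      (Nat.Coprime.coprime_dvd_right (card_dvd_of_le hNH) hyp.hcop.symm))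
  rw [← Cfsg.Agent.H23.map_inf_centralizer hcop (Or.inr (isSolvable_le hNH hyp.hsolv)) hNH,
    ← Cfsg.Agent.H1.card_map_mk'_mul N (H ⊓ centralizer (A : Set X))]
  congr 2
  rw [inf_right_comm, inf_eq_right.2 hNH]

theorem Fm.of_quot (hyp : Hyp U E H) (hNH : N ≤ H)
    (h1 : Fm (U.map (QuotientGroup.mk' N)) (E.map (QuotientGroup.mk' N))
      (H.map (QuotientGroup.mk' N))) (h2 : Fm U E N) : Fm U E H := by
  unfold Fm at h1 h2 ⊢
  have hEN : E ⊓ N = ⊥ := by
    rw [eq_bot_iff, ← hyp.disj]
    exact le_inf (inf_le_right.trans hNH) (inf_le_left.trans le_sup_right)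
  have hHc : Nat.card H = Nat.card N * Nat.card (H.map (QuotientGroup.mk' N)) := by
    rw [← Cfsg.Agent.H1.card_map_mk'_mul N H, inf_eq_right.2 hNH]
  rw [← Subgroup.map_sup, card_map_of_inf_eq_bot hEN] at h1
  rw [card_C hyp hNH le_rfl, card_C hyp hNH le_sup_right, card_C hyp hNH le_sup_left, hHc,
    mul_pow, mul_pow]
  rw [mul_mul_mul_comm, h1, h2]
  ring

theorem Hyp.map (hyp : Hyp U E H) (hNH : N ≤ H) :
    Hyp (U.map (QuotientGroup.mk' N)) (E.map (QuotientGroup.mk' N))
      (H.map (QuotientGroup.mk' N)) := by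
  have hFN : (U ⊔ E) ⊓ N = ⊥ := by
    rw [eq_bot_iff, ← hyp.disj]
    exact le_inf (inf_le_right.trans hNH) inf_le_left
  have hbot : ∀ {A : Subgroup X}, A ≤ U ⊔ E → A ≠ ⊥ → A.map (QuotientGroup.mk' N) ≠ ⊥ := by
    intro A hA hA1 h
    apply hA1
    rw [Subgroup.map_eq_bot_iff, QuotientGroup.ker_mk'] at h
    rw [eq_bot_iff, ← hFN]
    exact le_inf hA h
  have hmk : ∀ {x y : X}, QuotientGroup.mk' N x = QuotientGroup.mk' N y → x⁻¹ * y ∈ N :=
    fun {x y} h => QuotientGroup.eq.1 h
  refine
    { hU1 := hbot le_sup_left hyp.hU1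
      hE1 := hbot le_sup_right hyp.hE1
      hUE := ?_
      hUn := ?_
      hfpf := ?_
      hHn := ?_
      hsolv := ?_
      hcop := ?_ }
  · rw [eq_bot_iff]
    rintro x ⟨⟨u, hu, rfl⟩, ⟨e, he, heu⟩⟩
    have h1 : e⁻¹ * u ∈ (U ⊔ E) ⊓ N := by
      refine ⟨?_, hmk heu⟩
      exact (U ⊔ E).mul_mem ((U ⊔ E).inv_mem (mem_sup_right he)) (mem_sup_left hu)
    rw [hFN, mem_bot] at h1
    have h2 : e = u := inv_mul_eq_one.1 h1
    have h3 : u ∈ U ⊓ E := ⟨hu, h2 ▸ he⟩
    rw [hyp.hUE, mem_bot] at h3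
    rw [h3, map_one]
    exact one_mem _
  · rintro _ ⟨e, he, rfl⟩ _ ⟨u, hu, rfl⟩
    refine ⟨e * u * e⁻¹, hyp.hUn e he u hu, ?_⟩
    rw [map_mul, map_mul, map_inv]
  · rintro _ ⟨e, he, rfl⟩ he1 _ ⟨u, hu, rfl⟩ heu
    rw [← map_mul, ← map_mul] at heu
    have h1 : (e * u)⁻¹ * (u * e) ∈ (U ⊔ E) ⊓ N := by
      refine ⟨?_, hmk heu⟩
      exact (U ⊔ E).mul_mem ((U ⊔ E).inv_mem ((U ⊔ E).mul_mem (mem_sup_right he)
        (mem_sup_left hu))) ((U ⊔ E).mul_mem (mem_sup_left hu) (mem_sup_right he))
    rw [hFN, mem_bot] at h1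
    have h2 : e * u = u * e := inv_mul_eq_one.1 h1
    rw [hyp.hfpf e he (fun h => he1 (by rw [h, map_one])) u hu h2, map_one]
  · intro x hx k hk
    rw [← Subgroup.map_sup] at hx
    obtain ⟨x, hx, rfl⟩ := hx
    obtain ⟨k, hk, rfl⟩ := hk
    exact ⟨x * k * x⁻¹, hyp.hHn x hx k hk, by rw [map_mul, map_mul, map_inv]⟩
  · haveI := hyp.hsolv
    exact Group.isSolvable_of_surjective (f := (QuotientGroup.mk' N).subgroupMap H)
      ((QuotientGroup.mk' N).subgroupMap_surjective H)
  · rw [← Subgroup.map_sup]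
    exact Nat.Coprime.coprime_dvd_left (Subgroup.card_map_dvd _ _)
      (Nat.Coprime.coprime_dvd_right (Subgroup.card_map_dvd _ _) hyp.hcop)

end quot

theorem fpf_coprime [Finite X] {U E : Subgroup X} (hUn : ∀ e ∈ E, ∀ u ∈ U, e * u * e⁻¹ ∈ U)
    (hfpf : ∀ e ∈ E, e ≠ 1 → ∀ u ∈ U, e * u = u * e → u = 1) :
    (Nat.card E).Coprime (Nat.card U) := by
  rw [Nat.coprime_iff_gcd_eq_one]
  by_contra hne
  obtain ⟨r, hr, hrd⟩ := Nat.exists_prime_and_dvd hne
  have h1 : r ∣ Nat.card E := hrd.trans (Nat.gcd_dvd_left _ _)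
  have h2 : r ∣ Nat.card U := hrd.trans (Nat.gcd_dvd_right _ _)
  haveI : Fact r.Prime := ⟨hr⟩
  obtain ⟨e, he⟩ := exists_prime_orderOf_dvd_card' (G := E) r h1
  have hcong : ∀ (a : zpowers (e : X)) (u : U), (a : X) * u * (a : X)⁻¹ ∈ U := by
    intro a u
    have haE : (a : X) ∈ E := (zpowers_le.2 e.2) a.2
    exact hUn _ haE _ u.2
  letI : MulAction (zpowers (e : X)) U :=
    { smul := fun a u => ⟨(a : X) * u * (a : X)⁻¹, hcong a u⟩
      one_smul := by
        intro u
        apply Subtype.ext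
        change ((1 : zpowers (e : X)) : X) * u * ((1 : zpowers (e : X)) : X)⁻¹ = u
        simp
      mul_smul := by
        intro a b u
        apply Subtype.ext
        change ((a * b : zpowers (e : X)) : X) * u * ((a * b : zpowers (e : X)) : X)⁻¹ =
          (a : X) * ((b : X) * u * (b : X)⁻¹) * (a : X)⁻¹
        rw [Subgroup.coe_mul]
        group }
  have hsmul : ∀ (a : zpowers (e : X)) (u : U), ((a • u : U) : X) = (a : X) * u * (a : X)⁻¹ :=
    fun _ _ => rfl
  have hpg : IsPGroup r (zpowers (e : X)) := by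
    apply IsPGroup.of_card (n := 1)
    rw [Nat.card_zpowers, pow_one, Subgroup.orderOf_coe, he]
  have h3 := hpg.card_modEq_card_fixedPoints U
  have h4 : Nat.card (MulAction.fixedPoints (zpowers (e : X)) U) = 1 := by
    rw [Nat.card_eq_one_iff_unique]
    constructor
    · constructor
      intro u v
      have key : ∀ w : MulAction.fixedPoints (zpowers (e : X)) U, ((w : U) : X) = 1 := by
        intro w
        have h5 := w.2 ⟨e, mem_zpowers _⟩
        have h6 := congrArg Subtype.val h5
        rw [hsmul] at h6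
        have he1 : (e : X) ≠ 1 := by
          intro h7
          have : e = 1 := Subtype.ext h7
          rw [this, orderOf_one] at he
          exact hr.one_lt.ne he
        exact hfpf e e.2 he1 _ (w : U).2 (mul_inv_eq_iff_eq_mul.1 h6)
      apply Subtype.ext
      apply Subtype.ext
      rw [key u, key v]
    · refine ⟨⟨1, ?_⟩⟩
      intro a
      apply Subtype.ext
      rw [hsmul]
      simp
  rw [h4] at h3
  have h5 : Nat.card U ≡ 0 [MOD r] := (Nat.modEq_zero_iff_dvd).2 h2
  have h6 : 1 ≡ 0 [MOD r] := h3.symm.trans h5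
  rw [Nat.modEq_zero_iff_dvd] at h6
  exact hr.one_lt.ne' (Nat.dvd_one.1 h6)

section quotK

variable [Finite X] {U E H K : Subgroup X} [K.Normal]

theorem card_CK (hyp : Hyp U E H) (hKU : K ≤ U) {A : Subgroup X} (hA : A ≤ U ⊔ E) :
    Nat.card ↥(H ⊓ centralizer (A : Set X)) =
      Nat.card ↥(H.map (QuotientGroup.mk' K) ⊓
        centralizer ((A.map (QuotientGroup.mk' K) : Subgroup (X ⧸ K)) : Set (X ⧸ K))) := by
  have hHK : H ⊓ K = ⊥ := by
    rw [eq_bot_iff, ← hyp.disj]
    exact le_inf inf_le_left (inf_le_right.trans (hKU.trans le_sup_left))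
  have h1 : (H ⊓ centralizer (A : Set X)).map (QuotientGroup.mk' K) =
      H.map (QuotientGroup.mk' K) ⊓
        centralizer ((A.map (QuotientGroup.mk' K) : Subgroup (X ⧸ K)) : Set (X ⧸ K)) := by
    apply le_antisymm
    · rintro _ ⟨g, hg, rfl⟩
      refine mem_inf.mpr ⟨mem_map_of_mem _ hg.1, ?_⟩
      rw [mem_centralizer_iff]
      rintro _ ⟨a, ha, rfl⟩
      have := (mem_centralizer_iff.1 hg.2) a ha
      rw [← map_mul, ← map_mul, this]
    · rintro _ ⟨⟨g, hg, rfl⟩, hg2⟩
      refine ⟨g, ⟨hg, ?_⟩, rfl⟩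
      change g ∈ centralizer (A : Set X)
      rw [mem_centralizer_iff]
      intro a ha
      have h2 := (mem_centralizer_iff.1 hg2) _ (mem_map_of_mem (QuotientGroup.mk' K) ha)
      rw [← map_mul, ← map_mul] at h2
      have h3 : (a * g)⁻¹ * (g * a) ∈ K := QuotientGroup.eq.1 h2
      have h4 : (a * g)⁻¹ * (g * a) ∈ H := by
        have h5 := hyp.hHn a⁻¹ ((U ⊔ E).inv_mem (hA ha)) g hg
        rw [inv_inv] at h5
        have h6 := H.mul_mem (H.inv_mem hg) h5
        have e : (a * g)⁻¹ * (g * a) = g⁻¹ * (a⁻¹ * g * a) := by group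
        rw [e]; exact h6
      have h5 : (a * g)⁻¹ * (g * a) ∈ H ⊓ K := ⟨h4, h3⟩
      rw [hHK, mem_bot] at h5
      exact inv_mul_eq_one.1 h5
  rw [← h1, card_map_of_inf_eq_bot]
  rw [eq_bot_iff, ← hHK]
  exact inf_le_inf_right _ inf_le_left

theorem Fm.of_quotK (hyp : Hyp U E H) (hKU : K ≤ U)
    (h1 : Fm (U.map (QuotientGroup.mk' K)) (E.map (QuotientGroup.mk' K))
      (H.map (QuotientGroup.mk' K))) : Fm U E H := by
  unfold Fm at h1 ⊢
  have hHK : H ⊓ K = ⊥ := by
    rw [eq_bot_iff, ← hyp.disj]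
    exact le_inf inf_le_left (inf_le_right.trans (hKU.trans le_sup_left))
  have hEK : E ⊓ K = ⊥ := by
    rw [eq_bot_iff, ← hyp.hUE]
    exact le_inf (inf_le_right.trans hKU) inf_le_left
  rw [← Subgroup.map_sup, card_map_of_inf_eq_bot hEK, card_map_of_inf_eq_bot hHK] at h1
  rw [card_CK hyp hKU le_rfl, card_CK hyp hKU le_sup_right, card_CK hyp hKU le_sup_left]
  exact h1

theorem Hyp.mapK (hyp : Hyp U E H) (hKU : K ≤ U) (hKne : ¬ U ≤ K) :
    Hyp (U.map (QuotientGroup.mk' K)) (E.map (QuotientGroup.mk' K))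
      (H.map (QuotientGroup.mk' K)) := by
  have hmk : ∀ {x y : X}, QuotientGroup.mk' K x = QuotientGroup.mk' K y → x⁻¹ * y ∈ K :=
    fun {x y} h => QuotientGroup.eq.1 h
  refine
    { hU1 := ?_
      hE1 := ?_
      hUE := ?_
      hUn := ?_
      hfpf := ?_
      hHn := ?_
      hsolv := ?_
      hcop := ?_ }
  · intro h
    rw [Subgroup.map_eq_bot_iff, QuotientGroup.ker_mk'] at h
    exact hKne h
  · intro h
    rw [Subgroup.map_eq_bot_iff, QuotientGroup.ker_mk'] at h
    apply hyp.hE1
    rw [eq_bot_iff, ← hyp.hUE]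
    exact le_inf (h.trans hKU) le_rfl
  · rw [eq_bot_iff]
    rintro x ⟨⟨u, hu, rfl⟩, ⟨e, he, heu⟩⟩
    have h1 : e⁻¹ * u ∈ U := hKU (hmk heu)
    have h2 : e ∈ U ⊓ E := by
      refine ⟨?_, he⟩
      have := U.mul_mem hu (U.inv_mem h1)
      have e1 : u * (e⁻¹ * u)⁻¹ = e := by group
      rwa [e1] at this
    rw [hyp.hUE, mem_bot] at h2
    rw [← heu, h2, map_one]
    exact one_mem _
  · rintro _ ⟨e, he, rfl⟩ _ ⟨u, hu, rfl⟩
    refine ⟨e * u * e⁻¹, hyp.hUn e he u hu, ?_⟩
    rw [map_mul, map_mul, map_inv]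
  · rintro _ ⟨e, he, rfl⟩ he1 _ ⟨u, hu, rfl⟩ heu
    have hcomm : Commute (QuotientGroup.mk' K e) (QuotientGroup.mk' K u) := heu
    have hcopEU := fpf_coprime hyp.hUn hyp.hfpf
    have hKn : zpowers e ≤ normalizer (K : Set X) := by
      rw [Subgroup.normalizer_eq_top]; exact le_top
    obtain ⟨c, hc, hcu⟩ := Cfsg.Agent.H1.exists_fixed_in_coset (zpowers e) K hKn
      (Nat.Coprime.coprime_dvd_left (card_dvd_of_le (zpowers_le.2 he))
        (Nat.Coprime.coprime_dvd_right (card_dvd_of_le hKU) hcopEU))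
      (Or.inl (by
        haveI : IsCyclic (zpowers e) := inferInstance
        letI : CommGroup (zpowers e) := IsCyclic.commGroup
        infer_instance)) u (by
        rintro _ ⟨i, rfl⟩
        apply hmk
        simp only [map_mul, map_inv, map_zpow]
        have := (hcomm.zpow_left i).eq
        rw [this, mul_inv_cancel_right])
    have hcU : c ∈ U := by
      have := U.mul_mem hu (hKU hcu)
      rwa [mul_inv_cancel_left] at this
    have hc1 : c = 1 := by
      apply hyp.hfpf e he (fun h => he1 (by rw [h, map_one])) c hcU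
      exact (mem_centralizer_iff.1 hc) e (mem_zpowers e)
    rw [hc1, mul_one] at hcu
    have : QuotientGroup.mk' K u = 1 := by
      rw [QuotientGroup.mk'_apply, QuotientGroup.eq_one_iff]
      have := K.inv_mem hcu
      rwa [inv_inv] at this
    exact this
  · intro x hx k hk
    rw [← Subgroup.map_sup] at hx
    obtain ⟨x, hx, rfl⟩ := hx
    obtain ⟨k, hk, rfl⟩ := hk
    exact ⟨x * k * x⁻¹, hyp.hHn x hx k hk, by rw [map_mul, map_mul, map_inv]⟩
  · haveI := hyp.hsolv
    exact Group.isSolvable_of_surjective (f := (QuotientGroup.mk' K).subgroupMap H)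
      ((QuotientGroup.mk' K).subgroupMap_surjective H)
  · rw [← Subgroup.map_sup]
    exact Nat.Coprime.coprime_dvd_left (Subgroup.card_map_dvd _ _)
      (Nat.Coprime.coprime_dvd_right (Subgroup.card_map_dvd _ _) hyp.hcop)

end quotK

section base

variable [Finite X] {U E H : Subgroup X}

open Classical in
theorem base_card (hyp : Hyp U E H) (hUc : ∀ u ∈ U, ∀ v ∈ U, u * v = v * u)
    (hHc : ∀ u ∈ H, ∀ v ∈ H, u * v = v * u) (hH : H ≠ ⊥)
    (hirr : ∀ S : Subgroup X, S ≤ H → (∀ x ∈ U ⊔ E, ∀ s ∈ S, x * s * x⁻¹ ∈ S) → S = ⊥ ∨ S = H)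
    (hC : H ⊓ centralizer (U : Set X) = ⊥) :
    Nat.card H = Nat.card ↥(H ⊓ centralizer (E : Set X)) ^ Nat.card E := by
  letI : CommGroup H := { (inferInstance : Group H) with
    mul_comm := fun a b => Subtype.ext (hHc _ a.2 _ b.2) }
  letI : CommGroup U := { (inferInstance : Group U) with
    mul_comm := fun a b => Subtype.ext (hUc _ a.2 _ b.2) }
  haveI : Fintype U := Fintype.ofFinite _
  haveI : Fintype E := Fintype.ofFinite _
  haveI : Finite (Additive H) := inferInstanceAs (Finite H)
  haveI : Nontrivial H := (Subgroup.nontrivial_iff_ne_bot H).2 hH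
  haveI : Nontrivial (Additive H) := inferInstanceAs (Nontrivial H)
  let cH : ∀ x ∈ U ⊔ E, AddMonoid.End (Additive H) := fun x hx =>
    MonoidHom.toAdditive
      { toFun := fun h : H => (⟨x * h * x⁻¹, hyp.hHn x hx _ h.2⟩ : H)
        map_one' := by
          apply Subtype.ext
          change x * ((1 : H) : X) * x⁻¹ = 1
          rw [Subgroup.coe_one]; group
        map_mul' := by
          intro a b
          apply Subtype.ext
          change x * ((a * b : H) : X) * x⁻¹ = (x * (a : X) * x⁻¹) * (x * (b : X) * x⁻¹)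
          rw [Subgroup.coe_mul]
          group }
  have hcH : ∀ x hx (w : Additive H), (((cH x hx w).toMul : H) : X) =
      x * ((w.toMul : H) : X) * x⁻¹ := fun _ _ _ => rfl
  have hext : ∀ {w w' : Additive H}, ((w.toMul : H) : X) = ((w'.toMul : H) : X) → w = w' :=
    fun {w w'} h => Subtype.ext h
  let ρ : U →* AddMonoid.End (Additive H) :=
    { toFun := fun u => cH u (mem_sup_left u.2)
      map_one' := by
        apply AddMonoidHom.ext
        intro w
        apply hext
        change ((1 : U) : X) * ((w.toMul : H) : X) * ((1 : U) : X)⁻¹ = ((w.toMul : H) : X)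
        simp
      map_mul' := by
        intro a b
        apply AddMonoidHom.ext
        intro w
        apply hext
        change ((a * b : U) : X) * ((w.toMul : H) : X) * ((a * b : U) : X)⁻¹ =
          (a : X) * ((b : X) * ((w.toMul : H) : X) * (b : X)⁻¹) * (a : X)⁻¹
        rw [Subgroup.coe_mul]
        group }
  let τ : E →* AddMonoid.End (Additive H) :=
    { toFun := fun u => cH u (mem_sup_right u.2)
      map_one' := by
        apply AddMonoidHom.ext
        intro w
        apply hext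
        change ((1 : E) : X) * ((w.toMul : H) : X) * ((1 : E) : X)⁻¹ = ((w.toMul : H) : X)
        simp
      map_mul' := by
        intro a b
        apply AddMonoidHom.ext
        intro w
        apply hext
        change ((a * b : E) : X) * ((w.toMul : H) : X) * ((a * b : E) : X)⁻¹ =
          (a : X) * ((b : X) * ((w.toMul : H) : X) * (b : X)⁻¹) * (a : X)⁻¹
        rw [Subgroup.coe_mul]
        group }
  have hρ : ∀ (u : U) (w : Additive H), (((ρ u w).toMul : H) : X) =
      u * ((w.toMul : H) : X) * (u : X)⁻¹ := fun _ _ => rfl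
  have hτ : ∀ (u : E) (w : Additive H), (((τ u w).toMul : H) : X) =
      u * ((w.toMul : H) : X) * (u : X)⁻¹ := fun _ _ => rfl
  have hUn' : ∀ e ∈ E, ∀ u ∈ U, e⁻¹ * u * e ∈ U := by
    intro e he u hu
    have := hyp.hUn e⁻¹ (E.inv_mem he) u hu
    rwa [inv_inv] at this
  let α : E →* MulAut U :=
    { toFun := fun e =>
        { toFun := fun u => (⟨e * u * (e : X)⁻¹, hyp.hUn e e.2 _ u.2⟩ : U)
          invFun := fun u => (⟨(e : X)⁻¹ * u * e, hUn' e e.2 _ u.2⟩ : U)
          left_inv := by
            intro u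
            apply Subtype.ext
            change (e : X)⁻¹ * ((e : X) * (u : X) * (e : X)⁻¹) * (e : X) = u
            group
          right_inv := by
            intro u
            apply Subtype.ext
            change (e : X) * ((e : X)⁻¹ * (u : X) * (e : X)) * (e : X)⁻¹ = u
            group
          map_mul' := by
            intro a b
            apply Subtype.ext
            change (e : X) * ((a * b : U) : X) * (e : X)⁻¹ =
              ((e : X) * (a : X) * (e : X)⁻¹) * ((e : X) * (b : X) * (e : X)⁻¹)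
            rw [Subgroup.coe_mul]
            group }
      map_one' := by
        apply MulEquiv.ext
        intro u
        apply Subtype.ext
        change ((1 : E) : X) * (u : X) * ((1 : E) : X)⁻¹ = u
        simp
      map_mul' := by
        intro a b
        apply MulEquiv.ext
        intro u
        apply Subtype.ext
        change ((a * b : E) : X) * (u : X) * ((a * b : E) : X)⁻¹ =
          (a : X) * ((b : X) * (u : X) * (b : X)⁻¹) * (a : X)⁻¹
        rw [Subgroup.coe_mul]
        group }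
  have hα : ∀ (e : E) (u : U), ((α e u : U) : X) = e * u * (e : X)⁻¹ := fun _ _ => rfl
  have key := irr_count (W := Additive H) ρ τ α
    (by
      intro e u
      apply AddMonoidHom.ext
      intro w
      apply hext
      change (e : X) * ((u : X) * ((w.toMul : H) : X) * (u : X)⁻¹) * (e : X)⁻¹ =
        ((e : X) * (u : X) * (e : X)⁻¹) * ((e : X) * ((w.toMul : H) : X) * (e : X)⁻¹) *
          ((e : X) * (u : X) * (e : X)⁻¹)⁻¹
      group)
    (by
      intro e he u heu
      have h1 := congrArg Subtype.val heu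
      rw [hα] at h1
      apply Subtype.ext
      exact hyp.hfpf e e.2 (fun h => he (Subtype.ext h)) u u.2 (mul_inv_eq_iff_eq_mul.1 h1))
    (by
      intro w hw
      have h1 : ((w.toMul : H) : X) ∈ H ⊓ centralizer (U : Set X) := by
        refine ⟨(w.toMul : H).2, ?_⟩
        change ((w.toMul : H) : X) ∈ centralizer (U : Set X)
        rw [mem_centralizer_iff]
        intro u hu
        have h2 : u * ((w.toMul : H) : X) * u⁻¹ = ((w.toMul : H) : X) :=
          congrArg (fun z : Additive H => ((z.toMul : H) : X)) (hw ⟨u, hu⟩)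
        exact mul_inv_eq_iff_eq_mul.1 h2
      rw [hC, mem_bot] at h1
      exact hext h1)
    (by
      intro S hS1 hS2
      let S' : Subgroup X := (AddSubgroup.toSubgroup' S).map H.subtype
      have hmemS : ∀ x : X, x ∈ S' ↔ ∃ hx : x ∈ H, Additive.ofMul (⟨x, hx⟩ : H) ∈ S := by
        intro x
        constructor
        · rintro ⟨h, hh, rfl⟩
          exact ⟨h.2, hh⟩
        · rintro ⟨hx, h⟩
          exact ⟨⟨x, hx⟩, h, rfl⟩
      have hS'H : S' ≤ H := by
        intro x hx
        exact ((hmemS x).1 hx).1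
      rcases hirr S' hS'H (by
        have hst : ∀ x ∈ U ⊔ E, (∀ s ∈ S', x * s * x⁻¹ ∈ S') := by
          -- the stabiliser is a subgroup containing U and E
          have hfin : ∀ x : X, (∀ s ∈ S', x * s * x⁻¹ ∈ S') → x ∈ normalizer (S' : Set X) := by
            intro x hx
            rw [mem_normalizer_iff]
            have h1 : MulAut.conj x • S' ≤ S' := by
              rintro _ ⟨s, hs, rfl⟩
              exact hx s hs
            have h2 : MulAut.conj x • S' = S' :=
              Subgroup.eq_of_le_of_card_ge h1 (Cfsg.Agent.H1.conj_smul_card_eq x S').ge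
            intro s
            constructor
            · exact hx s
            · intro hs
              rw [← h2] at hs
              obtain ⟨s', hs', hss⟩ := hs
              have : s = s' := by
                have h3 : x * s' * x⁻¹ = x * s * x⁻¹ := hss
                have h4 := mul_right_cancel h3
                exact (mul_left_cancel h4).symm
              rw [this]; exact hs'
          have hle : U ⊔ E ≤ normalizer (S' : Set X) := by
            rw [sup_le_iff]
            constructor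
            · intro u hu
              apply hfin
              intro s hs
              obtain ⟨hsH, hsS⟩ := (hmemS s).1 hs
              rw [hmemS]
              exact ⟨hyp.hHn u (mem_sup_left hu) s hsH, hS1 ⟨u, hu⟩ _ hsS⟩
            · intro u hu
              apply hfin
              intro s hs
              obtain ⟨hsH, hsS⟩ := (hmemS s).1 hs
              rw [hmemS]
              exact ⟨hyp.hHn u (mem_sup_right hu) s hsH, hS2 ⟨u, hu⟩ _ hsS⟩
          intro x hx s hs
          exact (mem_normalizer_iff.1 (hle hx) s).1 hs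
        exact hst) with h | h
      · left
        rw [eq_bot_iff]
        intro w hw
        have h1 : ((w.toMul : H) : X) ∈ S' := (hmemS _).2 ⟨(w.toMul : H).2, hw⟩
        rw [h, mem_bot] at h1
        rw [AddSubgroup.mem_bot]
        exact hext h1
      · right
        rw [eq_top_iff]
        intro w _
        have h1 : ((w.toMul : H) : X) ∈ S' := by rw [h]; exact (w.toMul : H).2
        exact ((hmemS _).1 h1).2)
    (by
      have h1 : Nat.card (Additive H) = Nat.card H := rfl
      rw [h1]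
      exact Nat.Coprime.coprime_dvd_left (card_dvd_of_le le_sup_left) hyp.hcop.symm)
  have h1 : Nat.card (Additive H) = Nat.card H := rfl
  rw [h1, ← Nat.card_eq_fintype_card] at key
  rw [key]
  congr 1
  refine Nat.card_congr ⟨fun w => ⟨((w.1.toMul : H) : X), ?_⟩,
    fun x => ⟨Additive.ofMul (⟨x, x.2.1⟩ : H), ?_⟩, ?_, ?_⟩
  · refine ⟨(w.1.toMul : H).2, ?_⟩
    change ((w.1.toMul : H) : X) ∈ centralizer (E : Set X)
    rw [mem_centralizer_iff]
    intro e he
    have h2 : e * ((w.1.toMul : H) : X) * e⁻¹ = ((w.1.toMul : H) : X) :=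
      congrArg (fun z : Additive H => ((z.toMul : H) : X)) (w.2 ⟨e, he⟩)
    exact mul_inv_eq_iff_eq_mul.1 h2
  · intro e
    apply hext
    rw [hτ]
    have h2 := (mem_centralizer_iff.1 x.2.2) e e.2
    exact mul_inv_eq_iff_eq_mul.2 h2
  · intro w; rfl
  · intro x; rfl

end base

theorem le_normalizer_of_conj [Finite X] {B S : Subgroup X} (h : ∀ x ∈ B, ∀ s ∈ S, x * s * x⁻¹ ∈ S) :
    B ≤ normalizer (S : Set X) :=
  Cfsg.Agent.H23.le_normalizer_of_conj_mem h

theorem inv_centralizer {B H A : Subgroup X} (hH : ∀ x ∈ B, ∀ s ∈ H, x * s * x⁻¹ ∈ H)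
    (hA : ∀ x ∈ B, ∀ s ∈ A, x * s * x⁻¹ ∈ A) :
    ∀ x ∈ B, ∀ s ∈ H ⊓ centralizer (A : Set X), x * s * x⁻¹ ∈ H ⊓ centralizer (A : Set X) := by
  intro x hx s hs
  refine ⟨hH x hx s hs.1, ?_⟩
  change x * s * x⁻¹ ∈ centralizer (A : Set X)
  rw [mem_centralizer_iff]
  intro a ha
  have h1 := hA x⁻¹ (B.inv_mem hx) a ha
  rw [inv_inv] at h1
  have h2 := (mem_centralizer_iff.1 hs.2) _ h1
  calc a * (x * s * x⁻¹) = x * ((x⁻¹ * a * x) * s) * x⁻¹ := by group
    _ = x * (s * (x⁻¹ * a * x)) * x⁻¹ := by rw [h2]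
    _ = x * s * x⁻¹ * a := by group

theorem Hyp.sub {U E H N : Subgroup X} (hyp : Hyp U E H) (hNH : N ≤ H)
    (hN : ∀ x ∈ U ⊔ E, ∀ s ∈ N, x * s * x⁻¹ ∈ N) : Hyp U E N where
  hU1 := hyp.hU1
  hE1 := hyp.hE1
  hUE := hyp.hUE
  hUn := hyp.hUn
  hfpf := hyp.hfpf
  hHn := hN
  hsolv := isSolvable_le hNH hyp.hsolv
  hcop := Nat.Coprime.coprime_dvd_left (card_dvd_of_le hNH) hyp.hcop

theorem U_inv [Finite X] {U E H : Subgroup X} (hyp : Hyp U E H) :
    ∀ x ∈ U ⊔ E, ∀ u ∈ U, x * u * x⁻¹ ∈ U := by
  have : U ⊔ E ≤ normalizer (U : Set X) :=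
    sup_le le_normalizer (le_normalizer_of_conj hyp.hUn)
  intro x hx u hu
  exact (mem_normalizer_iff.1 (this hx) u).1 hu

theorem center_ne_bot_of_nilpotent (G : Type*) [Group G] [Nontrivial G] (h : Group.IsNilpotent G) :
    center G ≠ ⊥ := by
  intro hc
  obtain ⟨n, hn⟩ := h.nilpotent'
  have key : ∀ n, Subgroup.upperCentralSeries G n = ⊥ := by
    intro n
    induction n with
    | zero => exact Subgroup.upperCentralSeries_zero G
    | succ n ih =>
      rw [eq_bot_iff]
      intro x hx
      rw [Subgroup.mem_upperCentralSeries_succ_iff] at hx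
      rw [← hc, mem_center_iff]
      intro y
      have := hx y
      rw [ih, mem_bot] at this
      exact (commutatorElement_eq_one_iff_mul_comm.1 this).symm
  rw [key n] at hn
  exact bot_ne_top hn

/-- the inductive step through a normal subgroup `N` -/
theorem step (n : ℕ) (ih : ∀ m < n, ∀ (X : Type u) [Group X] [Finite X] (U E H : Subgroup X),
      Hyp U E H → Nat.card U + Nat.card H = m → Fm U E H)
    (X : Type u) [Group X] [Finite X] (U E H N : Subgroup X) (hyp : Hyp U E H)
    (hn : Nat.card U + Nat.card H = n) (hNH : N ≤ H) (hN1 : N ≠ ⊥) (hN2 : N ≠ H)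
    (hN : ∀ x ∈ U ⊔ E, ∀ s ∈ N, x * s * x⁻¹ ∈ N) (hHN : H ≤ normalizer (N : Set X)) :
    Fm U E H := by
  have hlt : Nat.card N < Nat.card H := by
    refine lt_of_le_of_ne (card_le_of_le hNH) ?_
    intro h
    exact hN2 (Subgroup.eq_of_le_of_card_ge hNH h.ge)
  have hNc : 1 < Nat.card N := by
    haveI := (Subgroup.nontrivial_iff_ne_bot N).2 hN1
    exact Finite.one_lt_card
  set Y : Subgroup X := normalizer (N : Set X) with hY
  have hUE : U ⊔ E ≤ Y := le_normalizer_of_conj hN
  have hU : U ≤ Y := le_sup_left.trans hUE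
  have hE : E ≤ Y := le_sup_right.trans hUE
  have hyp' := hyp.subgroupOf hU hE hHN
  have hNY : N ≤ Y := le_normalizer
  haveI : (N.subgroupOf Y).Normal := Subgroup.normal_in_normalizer
  have hNH' : N.subgroupOf Y ≤ H.subgroupOf Y := fun x hx => hNH hx
  have hcU : Nat.card (U.subgroupOf Y) = Nat.card U :=
    Nat.card_congr (subgroupOfEquivOfLe hU).toEquiv
  have hcH : Nat.card (H.subgroupOf Y) = Nat.card H :=
    Nat.card_congr (subgroupOfEquivOfLe hHN).toEquiv
  have hcN : Nat.card (N.subgroupOf Y) = Nat.card N :=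
    Nat.card_congr (subgroupOfEquivOfLe hNY).toEquiv
  apply Fm.of_subgroupOf hU hE hHN
  apply Fm.of_quot (N := N.subgroupOf Y) hyp' hNH'
  · refine ih _ ?_ _ _ _ _ (hyp'.map hNH') rfl
    have h1 : Nat.card ((U.subgroupOf Y).map (QuotientGroup.mk' (N.subgroupOf Y))) ≤ Nat.card U :=
      (Nat.le_of_dvd Nat.card_pos (Subgroup.card_map_dvd _ _)).trans hcU.le
    have h2 : Nat.card ((H.subgroupOf Y).map (QuotientGroup.mk' (N.subgroupOf Y))) <
        Nat.card H := by
      have h3 := Cfsg.Agent.H1.card_map_mk'_mul (N.subgroupOf Y) (H.subgroupOf Y)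
      rw [inf_eq_right.2 hNH', hcN, hcH] at h3
      rw [← h3]
      have h4 : 0 < Nat.card ((H.subgroupOf Y).map (QuotientGroup.mk' (N.subgroupOf Y))) :=
        Nat.card_pos
      exact lt_mul_of_one_lt_left h4 hNc
    omega
  · refine ih _ ?_ _ _ _ _ (hyp'.sub hNH' ?_) rfl
    · rw [hcU, hcN]; omega
    · intro x hx s hs
      rw [← subgroupOf_sup hU hE] at hx
      exact hN x hx s hs

theorem main_aux (n : ℕ) : ∀ (X : Type u) [Group X] [Finite X] (U E H : Subgroup X),
      Hyp U E H → Nat.card U + Nat.card H = n → Fm U E H := by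
  induction n using Nat.strong_induction_on with
  | _ n ih =>
  intro X _ _ U E H hyp hn
  classical
  by_cases hHb : H = ⊥
  · unfold Fm
    rw [hHb]
    simp
  have hHnt : Nontrivial H := (Subgroup.nontrivial_iff_ne_bot H).2 hHb
  by_cases hHc : ∀ u ∈ H, ∀ v ∈ H, u * v = v * u
  swap
  · -- nonabelian: use the derived subgroup
    have h1 : (commutator H).map H.subtype = ⁅H, H⁆ := Subgroup.map_subtype_commutator H
    have hle : ⁅H, H⁆ ≤ H := by rw [← h1]; exact Subgroup.map_subtype_le _
    refine step n ih X U E H ⁅H, H⁆ hyp hn hle ?_ ?_ ?_ ?_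
    · intro h
      apply hHc
      intro u hu v hv
      have h2 : ⁅u, v⁆ ∈ ⁅H, H⁆ := commutator_mem_commutator hu hv
      rw [h, mem_bot] at h2
      exact commutatorElement_eq_one_iff_mul_comm.1 h2
    · intro h
      haveI := hyp.hsolv
      have h2 := Group.IsSolvable.commutator_lt_top_of_nontrivial H
      apply h2.ne
      rw [eq_top_iff]
      intro x _
      have h3 : (x : X) ∈ (commutator H).map H.subtype := by rw [h1, h]; exact x.2
      obtain ⟨y, hy, hyx⟩ := h3
      have : y = x := Subtype.ext hyx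
      rwa [← this]
    · intro x hx s hs
      have h2 : (⁅H, H⁆ : Subgroup X).map (MulAut.conj x).toMonoidHom ≤ ⁅H, H⁆ := by
        rw [Subgroup.map_commutator]
        apply commutator_mono
        · rintro _ ⟨h, hh, rfl⟩
          exact hyp.hHn x hx h hh
        · rintro _ ⟨h, hh, rfl⟩
          exact hyp.hHn x hx h hh
      exact h2 ⟨s, hs, rfl⟩
    · apply le_normalizer_of_conj
      intro x hx s hs
      have h2 : ⁅x, s⁆ ∈ ⁅H, H⁆ := commutator_mem_commutator hx (hle hs)
      have h3 := (⁅H, H⁆ : Subgroup X).mul_mem h2 hs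
      rw [commutatorElement_def] at h3
      have e : x * s * x⁻¹ * s⁻¹ * s = x * s * x⁻¹ := by group
      rwa [e] at h3
  by_cases hirr : ∀ S : Subgroup X, S ≤ H → (∀ x ∈ U ⊔ E, ∀ s ∈ S, x * s * x⁻¹ ∈ S) →
      S = ⊥ ∨ S = H
  swap
  · push Not at hirr
    obtain ⟨S, hSH, hS, hS1, hS2⟩ := hirr
    refine step n ih X U E H S hyp hn hSH hS1 hS2 hS ?_
    apply le_normalizer_of_conj
    intro x hx s hs
    rw [hHc x hx s (hSH hs), mul_inv_cancel_right]
    exact hs
  by_cases hUC : U ≤ centralizer (H : Set X)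
  · have h1 : H ⊓ centralizer (U : Set X) = H := by
      rw [inf_eq_left]
      exact le_centralizer_iff.1 hUC
    have h2 : H ⊓ centralizer ((U ⊔ E : Subgroup X) : Set X) = H ⊓ centralizer (E : Set X) := by
      apply le_antisymm
      · exact inf_le_inf_left _ (centralizer_le (SetLike.coe_subset_coe.2 le_sup_right))
      · refine le_inf inf_le_left ?_
        rw [le_centralizer_iff, sup_le_iff]
        constructor
        · exact hUC.trans (centralizer_le inf_le_left)
        · rw [le_centralizer_iff]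
          exact inf_le_right
    unfold Fm
    rw [h1, h2]
  have hCH : H ⊓ centralizer (U : Set X) = ⊥ := by
    rcases hirr _ inf_le_left (inv_centralizer hyp.hHn (U_inv hyp)) with h | h
    · exact h
    · exfalso
      apply hUC
      rw [le_centralizer_iff]
      exact inf_eq_left.1 h
  have hCH2 : H ⊓ centralizer ((U ⊔ E : Subgroup X) : Set X) = ⊥ := by
    rw [eq_bot_iff, ← hCH]
    exact inf_le_inf_left _ (centralizer_le (SetLike.coe_subset_coe.2 le_sup_left))
  suffices hmain : Nat.card H = Nat.card ↥(H ⊓ centralizer (E : Set X)) ^ Nat.card E by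
    unfold Fm
    rw [hCH, hCH2, ← hmain]
    simp
  by_cases hUc : ∀ u ∈ U, ∀ v ∈ U, u * v = v * u
  · exact base_card hyp hUc hHc hHb hirr hCH
  by_cases hK : U ⊓ centralizer (H : Set X) = ⊥
  · -- use the centre of U
    obtain ⟨e, he, he1⟩ : ∃ e ∈ E, e ≠ 1 := by
      by_contra hcon
      push Not at hcon
      exact hyp.hE1 (by rw [eq_bot_iff]; intro x hx; rw [mem_bot]; exact hcon x hx)
    obtain ⟨r, hr, hrd⟩ := Nat.exists_prime_and_dvd (n := orderOf e)
      (fun h => he1 (orderOf_eq_one_iff.1 h))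
    have hnil : Group.IsNilpotent U := by
      refine Cfsg.Agent.H20.Fpf.isNilpotent_of_conj (h := e ^ (orderOf e / r)) hr ?_ ?_ ?_
      · rw [← pow_mul, Nat.div_mul_cancel hrd, pow_orderOf_eq_one]
      · intro x hx
        exact hyp.hUn _ (E.pow_mem he _) x hx
      · intro x hx hxe
        refine hyp.hfpf _ (E.pow_mem he _) ?_ x hx hxe
        intro h
        have h2 := orderOf_dvd_of_pow_eq_one h
        have h3 : 0 < orderOf e := orderOf_pos e
        have h4 : orderOf e / r < orderOf e := Nat.div_lt_self h3 hr.one_lt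
        have h5 : 0 < orderOf e / r := Nat.div_pos (Nat.le_of_dvd h3 hrd) hr.pos
        exact absurd (Nat.le_of_dvd h5 h2) (not_le.2 h4)
    haveI hUnt : Nontrivial U := (Subgroup.nontrivial_iff_ne_bot U).2 hyp.hU1
    have hZ : center U ≠ ⊥ := center_ne_bot_of_nilpotent U hnil
    set Z : Subgroup X := (center U).map U.subtype with hZdef
    have hmemZ : ∀ x : X, x ∈ Z ↔ x ∈ U ∧ ∀ v ∈ U, v * x = x * v := by
      intro x
      constructor
      · rintro ⟨z, hz, rfl⟩
        refine ⟨z.2, fun v hv => ?_⟩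
        have := (mem_center_iff.1 hz) ⟨v, hv⟩
        exact congrArg Subtype.val this
      · rintro ⟨hx, hx2⟩
        refine ⟨⟨x, hx⟩, ?_, rfl⟩
        change (⟨x, hx⟩ : U) ∈ center U
        rw [mem_center_iff]
        intro v
        exact Subtype.ext (hx2 v v.2)
    have hZU : Z ≤ U := fun x hx => ((hmemZ x).1 hx).1
    have hZ1 : Z ≠ ⊥ := by
      intro h
      rw [hZdef, Subgroup.map_eq_bot_iff_of_injective _ U.subtype_injective] at h
      exact hZ h
    have hZne : Z ≠ U := by
      intro h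
      apply hUc
      intro u hu v hv
      rw [← h] at hv
      exact ((hmemZ v).1 hv).2 u hu
    have hZlt : Nat.card Z < Nat.card U := by
      refine lt_of_le_of_ne (card_le_of_le hZU) ?_
      intro h
      exact hZne (Subgroup.eq_of_le_of_card_ge hZU h.ge)
    have hZinv : ∀ x ∈ U ⊔ E, ∀ s ∈ Z, x * s * x⁻¹ ∈ Z := by
      intro x hx s hs
      rw [hmemZ] at hs ⊢
      refine ⟨U_inv hyp x hx s hs.1, fun v hv => ?_⟩
      have h1 := U_inv hyp x⁻¹ ((U ⊔ E).inv_mem hx) v hv
      rw [inv_inv] at h1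
      have h2 := hs.2 _ h1
      calc v * (x * s * x⁻¹) = x * ((x⁻¹ * v * x) * s) * x⁻¹ := by group
        _ = x * (s * (x⁻¹ * v * x)) * x⁻¹ := by rw [h2]
        _ = x * s * x⁻¹ * v := by group
    have hle : Z ⊔ E ≤ U ⊔ E := sup_le_sup_right hZU E
    have hypZ : Hyp Z E H :=
      { hU1 := hZ1
        hE1 := hyp.hE1
        hUE := by
          rw [eq_bot_iff, ← hyp.hUE]
          exact inf_le_inf_right _ hZU
        hUn := fun e he u hu => hZinv e (mem_sup_right he) u hu
        hfpf := fun e he he1 u hu => hyp.hfpf e he he1 u (hZU hu)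
        hHn := fun x hx h hh => hyp.hHn x (hle hx) h hh
        hsolv := hyp.hsolv
        hcop := Nat.Coprime.coprime_dvd_right (card_dvd_of_le hle) hyp.hcop }
    have hFm := ih _ (by omega) X Z E H hypZ rfl
    have hCZ : H ⊓ centralizer (Z : Set X) = ⊥ := by
      rcases hirr _ inf_le_left (inv_centralizer hyp.hHn hZinv) with h | h
      · exact h
      · exfalso
        apply hZ1
        rw [eq_bot_iff, ← hK]
        refine le_inf hZU ?_
        rw [le_centralizer_iff]
        exact inf_eq_left.1 h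
    have hCZ2 : H ⊓ centralizer ((Z ⊔ E : Subgroup X) : Set X) = ⊥ := by
      rw [eq_bot_iff, ← hCZ]
      exact inf_le_inf_left _ (centralizer_le (SetLike.coe_subset_coe.2 le_sup_left))
    unfold Fm at hFm
    rw [hCZ, hCZ2] at hFm
    simpa using hFm
  · -- quotient by the kernel
    set K : Subgroup X := U ⊓ centralizer (H : Set X) with hKdef
    have hKinv : ∀ x ∈ U ⊔ E, ∀ s ∈ K, x * s * x⁻¹ ∈ K :=
      inv_centralizer (U_inv hyp) hyp.hHn
    set Y : Subgroup X := normalizer (K : Set X) with hY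
    have hUE : U ⊔ E ≤ Y := le_normalizer_of_conj hKinv
    have hU : U ≤ Y := le_sup_left.trans hUE
    have hE : E ≤ Y := le_sup_right.trans hUE
    have hHY : H ≤ Y := by
      apply le_normalizer_of_conj
      intro x hx s hs
      have h1 := (mem_centralizer_iff.1 hs.2) x hx
      rw [h1, mul_inv_cancel_right]
      exact hs
    have hKY : K ≤ Y := le_normalizer
    have hyp' := hyp.subgroupOf hU hE hHY
    haveI : (K.subgroupOf Y).Normal := Subgroup.normal_in_normalizer
    have hKU' : K.subgroupOf Y ≤ U.subgroupOf Y := fun x hx => hx.1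
    have hKne : ¬ U.subgroupOf Y ≤ K.subgroupOf Y := by
      intro h
      apply hUC
      intro u hu
      exact (h (show (⟨u, hU hu⟩ : Y) ∈ U.subgroupOf Y from hu)).2
    have hcU : Nat.card (U.subgroupOf Y) = Nat.card U :=
      Nat.card_congr (subgroupOfEquivOfLe hU).toEquiv
    have hcH : Nat.card (H.subgroupOf Y) = Nat.card H :=
      Nat.card_congr (subgroupOfEquivOfLe hHY).toEquiv
    have hcK : Nat.card (K.subgroupOf Y) = Nat.card K :=
      Nat.card_congr (subgroupOfEquivOfLe hKY).toEquiv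
    have hKc : 1 < Nat.card K := by
      haveI := (Subgroup.nontrivial_iff_ne_bot K).2 hK
      exact Finite.one_lt_card
    have hFm : Fm U E H := by
      apply Fm.of_subgroupOf hU hE hHY
      apply Fm.of_quotK (K := K.subgroupOf Y) hyp' hKU'
      refine ih _ ?_ _ _ _ _ (hyp'.mapK hKU' hKne) rfl
      have h1 : Nat.card ((H.subgroupOf Y).map (QuotientGroup.mk' (K.subgroupOf Y))) ≤
          Nat.card H :=
        (Nat.le_of_dvd Nat.card_pos (Subgroup.card_map_dvd _ _)).trans hcH.le
      have h2 : Nat.card ((U.subgroupOf Y).map (QuotientGroup.mk' (K.subgroupOf Y))) <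
          Nat.card U := by
        have h3 := Cfsg.Agent.H1.card_map_mk'_mul (K.subgroupOf Y) (U.subgroupOf Y)
        rw [inf_eq_right.2 hKU', hcK, hcU] at h3
        rw [← h3]
        have h4 : 0 < Nat.card ((U.subgroupOf Y).map (QuotientGroup.mk' (K.subgroupOf Y))) :=
          Nat.card_pos
        exact lt_mul_of_one_lt_left h4 hKc
      omega
    unfold Fm at hFm
    rw [hCH, hCH2] at hFm
    simpa using hFm

end Cfsg.Agent.H13.FF
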