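import Mathlib
import Cfsg.Agent.H13.FusCtl2
import Cfsg.Agent.H28.FusProp
import Cfsg.Agent.H28.FusKNorm

/-!
# Small abelian subgroups of the hyperfocal subgroup control fusion
-/

set_option autoImplicit false
set_option linter.all false
open Cfsg Cfsg.FusionSystem

namespace Cfsg.Agent.H13

open Cfsg.Agent.H28

variable {Ω : Type*} [Group Ω] {S : Subgroup Ω} {E F : FusionSystem S} {p : ℕ} [Fact p.Prime]
  [Finite S] {P Q : Subgroup Ω}

omit [Finite S] in
theorem exists_max_abelian [Finite P] (hPp : IsPGroup p P) {D : Subgroup Ω} (hDP : D ≤ P)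
    (hD : ∀ g ∈ P, ∀ x ∈ D, g * x * g⁻¹ ∈ D) :
    ∃ A ≤ D, (∀ g ∈ P, ∀ x ∈ A, g * x * g⁻¹ ∈ A) ∧ (∀ x ∈ A, ∀ y ∈ A, x * y = y * x) ∧
      ∀ x ∈ D, (∀ a ∈ A, x * a = a * x) → x ∈ A := by
  classical
  let X : Set ℕ := {n | ∃ A ≤ D, (∀ g ∈ P, ∀ x ∈ A, g * x * g⁻¹ ∈ A) ∧
    (∀ x ∈ A, ∀ y ∈ A, x * y = y * x) ∧ Nat.card A = n}
  have hX : X.Nonempty := ⟨1, ⊥, bot_le, by
    intro g _ x hx
    rw [Subgroup.mem_bot] at hx ⊢
    rw [hx]; simp, by
    intro x hx y hy
    rw [Subgroup.mem_bot] at hx hy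
    rw [hx, hy], by simp⟩
  have hXb : BddAbove X := ⟨Nat.card P, by
    rintro n ⟨A, hA, -, -, rfl⟩; exact card_le_of_le (hA.trans hDP)⟩
  obtain ⟨A, hAD, hAn, hAc, hcard⟩ := Nat.sSup_mem hX hXb
  refine ⟨A, hAD, hAn, hAc, fun x hx hxA => ?_⟩
  by_contra hxn
  obtain ⟨m, hm⟩ := exists_ucs_eq hPp
  have hex : ∃ i, ∃ y ∈ D, (∀ a ∈ A, y * a = a * y) ∧ y ∉ A ∧ y ∈ ucs P i :=
    ⟨m, x, hx, hxA, hxn, by rw [hm]; exact hDP hx⟩
  obtain ⟨y, hyD, hyA, hyn, hyi⟩ := Nat.find_spec hex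
  have hmin := fun j (hj : j < Nat.find hex) => Nat.find_min hex hj
  obtain ⟨i, hi⟩ : ∃ i, Nat.find hex = i + 1 := by
    rcases Nat.eq_zero_or_pos (Nat.find hex) with h | h
    · exfalso
      rw [h, ucs_zero, Subgroup.mem_bot] at hyi
      exact hyn (hyi ▸ one_mem A)
    · exact ⟨Nat.find hex - 1, by omega⟩
  rw [hi] at hyi
  have hcomm : ∀ g ∈ P, y⁻¹ * (g * y * g⁻¹) ∈ A := by
    intro g hg
    by_contra hn
    refine hmin i (by omega) ⟨_, mul_mem (D.inv_mem hyD) (hD g hg y hyD), fun a ha => ?_, hn,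
      ucs_comm hyi hg⟩
    have h1 : y⁻¹ * a = a * y⁻¹ := by
      have := congrArg (fun z => y⁻¹ * z * y⁻¹) (hyA a ha)
      simpa [mul_assoc] using this.symm
    have h2 : (g * y * g⁻¹) * a = a * (g * y * g⁻¹) := by
      have h3 := hAn g⁻¹ (P.inv_mem hg) a ha
      have h4 := hyA _ h3
      have := congrArg (fun z => g * z * g⁻¹) h4
      simpa [mul_assoc] using this
    rw [mul_assoc, h2, ← mul_assoc, h1, mul_assoc]
  -- `A ⊔ ⟨y⟩` is bigger
  have hAcen : A ≤ Subgroup.centralizer (A : Set Ω) := fun a ha => by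
    rw [Subgroup.mem_centralizer_iff]; intro b hb; exact hAc b hb a ha
  have hycen : Subgroup.zpowers y ≤ Subgroup.centralizer (A : Set Ω) := by
    rw [Subgroup.zpowers_le, Subgroup.mem_centralizer_iff]
    intro a ha; exact (hyA a ha).symm
  have hyy : Subgroup.zpowers y ≤ Subgroup.centralizer (Subgroup.zpowers y : Set Ω) := by
    intro a ha
    rw [Subgroup.mem_centralizer_iff]
    intro b hb
    obtain ⟨i, rfl⟩ := Subgroup.mem_zpowers_iff.1 ha
    obtain ⟨j, rfl⟩ := Subgroup.mem_zpowers_iff.1 hb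
    rw [← zpow_add, ← zpow_add, add_comm]
  have hXc : A ⊔ Subgroup.zpowers y ≤
      Subgroup.centralizer ((A ⊔ Subgroup.zpowers y : Subgroup Ω) : Set Ω) := by
    refine sup_le ?_ ?_
    · rw [Subgroup.le_centralizer_iff]; exact sup_le hAcen hycen
    · rw [Subgroup.le_centralizer_iff]
      refine sup_le ?_ hyy
      rw [Subgroup.le_centralizer_iff]; exact hycen
  have hmemX : Nat.card (A ⊔ Subgroup.zpowers y : Subgroup Ω) ∈ X := by
    refine ⟨_, sup_le hAD (by rwa [Subgroup.zpowers_le]), ?_, ?_, rfl⟩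
    · intro g hg x hx
      have hle : A ⊔ Subgroup.zpowers y ≤
          (A ⊔ Subgroup.zpowers y).comap (MulAut.conj g).toMonoidHom := by
        refine sup_le (fun a ha => ?_) ?_
        · exact Subgroup.mem_sup_left (hAn g hg a ha)
        · rw [Subgroup.zpowers_le]
          show g * y * g⁻¹ ∈ A ⊔ Subgroup.zpowers y
          have h1 : g * y * g⁻¹ = y * (y⁻¹ * (g * y * g⁻¹)) := by rw [mul_inv_cancel_left]
          rw [h1]
          exact mul_mem (Subgroup.mem_sup_right (Subgroup.mem_zpowers y))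
            (Subgroup.mem_sup_left (hcomm g hg))
      exact hle hx
    · intro x hx z hz
      exact (Subgroup.mem_centralizer_iff.1 (hXc hz) x hx)
  have hle := le_csSup hXb hmemX
  rw [← hcard] at hle
  haveI : Finite (A ⊔ Subgroup.zpowers y : Subgroup Ω) :=
    finite_of_le ((sup_le hAD (by rwa [Subgroup.zpowers_le])).trans hDP)
  have heq := eq_of_le_of_card (le_sup_left : A ≤ A ⊔ Subgroup.zpowers y) hle
  exact hyn (heq ▸ Subgroup.mem_sup_right (Subgroup.mem_zpowers y))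

omit [Finite S] in
theorem fix_of_fix_maxab (hPp : IsPGroup p P) {α : MulAut P} (hα : (orderOf α).Coprime p)
    {A D : Subgroup Ω} (hAD : A ≤ D) (hDP : D ≤ P) (hAn : ∀ g ∈ P, ∀ x ∈ A, g * x * g⁻¹ ∈ A)
    (hAC : ∀ x ∈ D, (∀ a ∈ A, x * a = a * x) → x ∈ A) (hαD : ∀ x ∈ D, autFun α x ∈ D)
    (hfix : ∀ a ∈ A, autFun α a = a) : ∀ x ∈ D, autFun α x = x := by
  intro x hx
  have hmul : ∀ u ∈ P, ∀ v ∈ P, autFun α (u * v) = autFun α u * autFun α v := by
    intro u hu v hv
    rw [autFun_apply _ (mul_mem hu hv), autFun_apply _ hu, autFun_apply _ hv]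
    have : (⟨u * v, mul_mem hu hv⟩ : P) = ⟨u, hu⟩ * ⟨v, hv⟩ := rfl
    rw [this, map_mul]; rfl
  have hxP := hDP hx
  refine fix_of_fix_comm hPp hα hxP (hfix _ (hAC _ (mul_mem (D.inv_mem hx) (hαD x hx)) ?_))
  intro a ha
  have haP := hDP (hAD ha)
  -- `x a x⁻¹ ∈ A` is fixed
  have h1 := hAn x hxP a ha
  have h2 := hfix _ h1
  have h3 : autFun α (x * a * x⁻¹) * autFun α x = autFun α x * a := by
    rw [← hmul _ (hDP (hAD h1)) _ hxP, inv_mul_cancel_right, hmul x hxP a haP, hfix a ha]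
  rw [h2] at h3
  rw [mul_assoc, ← h3]
  simp [mul_assoc]

/-- the `Aut_S(B)`-normalizer system. -/
theorem exists_KS (hS : IsPGroup p S) (hF : F.IsSaturated p) {B : Subgroup Ω}
    (hB : F.IsFullyNormalized B) : ∃ G : FusionSystem (normalizerIn S B), G.IsSaturated p ∧
      ∀ P f, Mor G P f ↔ P ≤ normalizerIn S B ∧ (∀ x ∈ P, f x ∈ normalizerIn S B) ∧
        ∃ g, Mor F (P ⊔ B) g ∧ (∀ x ∈ P, g x = f x) ∧
          ∃ κ ∈ autInducedBy S B, ∀ x ∈ B, g x = autFun κ x := by
  have hBS := hB.1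
  haveI : Finite B := finite_of_le hBS
  have hT : ∀ t ∈ normalizerIn S B, t ∈ S ∧ ∃ κ ∈ autInducedBy S B, ∀ x ∈ B,
      t * x * t⁻¹ = autFun κ x := fun t ht =>
    ⟨ht.1, conjAut B t ht.2, conjAut_mem ht.2 ht.1, fun x hx => (autFun_conjAut ht.2 hx).symm⟩
  have hTeq : normalizerIn S B = NK S B (autInducedBy S B) id := by
    ext s
    constructor
    · intro hs
      obtain ⟨h1, κ, hκ, h2⟩ := hT s hs
      exact mem_NK.2 ⟨h1, κ, hκ, h2⟩
    · intro hs
      obtain ⟨h1, κ, hκ, h2⟩ := mem_NK.1 hs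
      refine ⟨h1, mem_normalizer_of_finite fun x hx => ?_⟩
      have h3 := h2 x hx
      simp only [id] at h3
      rw [h3]; exact autFun_mem κ hx
  have hAK : autInducedBy S B ≤ AK S B (autInducedBy S B) id := by
    intro κ hκ
    obtain ⟨g, hg, hgκ⟩ := mem_autInducedBy'.1 hκ
    exact mem_AK.2 ⟨hκ, g, hg, fun x hx => (hgκ x hx).symm⟩
  have hmax : IsMaxK F B (autInducedBy S B) id := by
    refine ⟨mor_id hBS, fun g hg => ?_⟩
    rw [card_NK hg, card_NK (mor_id hBS (F := F))]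
    haveI := finite_mulAut (P := B)
    refine Nat.mul_le_mul ?_ ?_
    · exact card_le_of_le (AK_le.trans hAK)
    · rw [img_id]
      exact (fullyCentralized_iff.1 (FN.fc hS hF hB)).2 g hg
  exact ⟨KSys F B (autInducedBy S B) (normalizerIn S B) hBS hT, KSys_saturated hS hF hBS hTeq hmax,
    fun P f => mor_KSys⟩

theorem le_of_small (hS : IsPGroup p S) (hE : E.IsSaturated p) (hF : F.IsSaturated p)
    (hEF : ∀ P f, Mor E P f → Mor F P f)
    (hsm : ∀ A f, A ≤ F.hyperfocalSubgroup p → (∀ x ∈ A, ∀ y ∈ A, x * y = y * x) →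
      (∀ x ∈ A, x ^ smallExp p = 1) → Mor F A f → Mor E A f) : F ≤ E := by
  refine alperin_ind hS hF fun P hP hind α hα => ?_
  have hPS : P ≤ S := (fn_of_essential_or_top hP).1.1
  rw [← mor_autFun_iff hPS]
  haveI : Finite P := finite_of_le hPS
  have hPp := isPGroup_of_le hS hPS
  have hXsc := hyp_stronglyClosed hS hF
  obtain ⟨D₁, hDP, hDX, hexp, hinv, hdet⟩ := exists_detect hS hPS hXsc le_rfl
  have hDn : ∀ g ∈ P, ∀ x ∈ D₁, g * x * g⁻¹ ∈ D₁ := by
    intro g hg x hx
    have hgn : g ∈ Subgroup.normalizer (P : Set Ω) := Subgroup.le_normalizer hg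
    have h1 := hinv _ (autInducedBy_le hPS le_rfl (conjAut_mem hgn (hPS hg))) x hx
    rwa [autFun_conjAut hgn (hDP hx)] at h1
  obtain ⟨A, hAD, hAn, hAc, hAC⟩ := exists_max_abelian hPp hDP hDn
  have hAP := hAD.trans hDP
  have hAS := hAP.trans hPS
  haveI : Finite A := finite_of_le hAS
  have hfixA : ∀ γ ∈ F.autGroup P, (orderOf γ).Coprime p → (∀ x ∈ A, autFun γ x = x) → γ = 1 := by
    intro γ hγ hc h
    exact hdet γ hγ hc (fix_of_fix_maxab hPp hc hAD hDP hAn hAC (hinv γ hγ) h)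
  -- transfer of smallness
  have hsmall : ∀ X f g, Mor F A g → img A g = X → Mor F X f → Mor E X f := by
    rintro X f g hg rfl hf
    refine hsm _ f ?_ ?_ ?_ hf
    · rw [img_le_iff]
      exact fun x hx => sc_apply hXsc hg hx (hDX (hAD hx))
    · intro x hx y hy
      obtain ⟨a, ha, rfl⟩ := hg.mem_img.1 hx
      obtain ⟨b, hb, rfl⟩ := hg.mem_img.1 hy
      rw [← hg.mul ha hb, ← hg.mul hb ha, hAc a ha b hb]
    · intro x hx
      obtain ⟨a, ha, rfl⟩ := hg.mem_img.1 hx
      rw [← hg.pow ha, hexp a (hAD ha), hg.one]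
  have hEA : ∀ f, Mor F A f → Mor E A f := fun f hf =>
    hsmall A f id (mor_id hAS) img_id hf
  obtain ⟨B, hAB, hBn⟩ := exists_fullyNormalized (F := F) hAS
  obtain ⟨f₀, hf₀, hf₀B⟩ := isConj_iff.1 hAB
  have hABE : E.IsConj A B := isConj_iff.2 ⟨f₀, hEA f₀ hf₀, hf₀B⟩
  have hBnE : E.IsFullyNormalized B := by
    refine ⟨hBn.1, fun X hX => hBn.2 X ?_⟩
    obtain ⟨f, hf, hfX⟩ := isConj_iff.1 hX
    exact isConj_iff.2 ⟨f, hEF _ _ hf, hfX⟩
  have hBE : ∀ f, Mor F B f → Mor E B f := fun f hf => hsmall B f f₀ hf₀ hf₀B hf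
  have hBS := hBn.1
  haveI : Finite B := finite_of_le hBS
  -- the image of `A`
  have hα' := mor_autFun hPS hα
  have hαA := hα'.mono hAP
  set A' := img A (autFun α) with hA'
  have hA'P : A' ≤ P := img_le_iff.2 fun x hx => autFun_mem α (hAP hx)
  have hAA' : E.IsConj A A' := (hEA _ hαA).isConj
  haveI : Finite A' := finite_of_le (hA'P.trans hPS)
  have hPA : P ≤ normalizerIn S A := fun g hg =>
    ⟨hPS hg, mem_normalizer_of_finite fun x hx => hAn g hg x hx⟩
  have hPA' : P ≤ normalizerIn S A' := by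
    intro g hg
    refine ⟨hPS hg, mem_normalizer_of_finite fun y hy => ?_⟩
    obtain ⟨a, ha, rfl⟩ := hαA.mem_img.1 hy
    have h1 := autFun_apply_inv α hg
    have hg' := autFun_mem α⁻¹ hg
    rw [← h1, ← hα'.conj hg' (hAP ha)]
    exact mem_img_of_mem (hAn _ hg' a ha)
  obtain ⟨χ₁, hχ₁, hχ₁B⟩ := FN.exists_map hS hE hBnE hABE
  obtain ⟨χ₂, hχ₂, hχ₂B⟩ := FN.exists_map hS hE hBnE (isConj_trans (isConj_symm hAA') hABE)
  have hχ₁P := hχ₁.mono hPA
  have hχ₂P := hχ₂.mono hPA'
  obtain ⟨ψ, hψ, hψ1, hψ2, hψ3⟩ := hχ₁P.inverse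
  set P₁ := img P χ₁ with hP₁
  have hBP₁ : B ≤ P₁ := by rw [← hχ₁B]; exact img_mono hAP
  have hP₁S : P₁ ≤ S := hχ₁P.img_le
  have hψP : ∀ y ∈ P₁, ψ y ∈ P := fun y hy => by
    have : ψ y ∈ img P₁ ψ := mem_img_of_mem hy
    rwa [hψ3] at this
  have hψA : ∀ b ∈ B, ψ b ∈ A := by
    intro b hb
    rw [← hχ₁B] at hb
    obtain ⟨a, ha, rfl⟩ := (hχ₁P.mono hAP).mem_img.1 hb
    rw [hψ1 a (hAP ha)]; exact ha
  -- the map `θ`
  have hθ : Mor F P₁ (fun y => χ₂ (autFun α (ψ y))) :=
    ((hEF _ _ hψ).comp hα' hψP).comp (hEF _ _ hχ₂P) fun y hy => autFun_mem α (hψP y hy)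
  set θ : Ω → Ω := fun y => χ₂ (autFun α (ψ y)) with hθd
  have hθB : img B θ = B := by
    haveI : Finite B := finite_of_le hBS
    refine eq_of_le_of_card (img_le_iff.2 fun b hb => ?_) (by rw [(hθ.mono hBP₁).card_img])
    rw [← hχ₂B]
    exact mem_img_of_mem (mem_img_of_mem (hψA b hb))
  have hθBE : Mor E B θ := hBE θ (hθ.mono hBP₁)
  have hP₁n : ∀ g ∈ P₁, ∀ b ∈ B, g * b * g⁻¹ ∈ B := by
    intro g hg b hb
    obtain ⟨x, hx, rfl⟩ := hχ₁P.mem_img.1 hg
    rw [← hχ₁B] at hb ⊢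
    obtain ⟨a, ha, rfl⟩ := (hχ₁P.mono hAP).mem_img.1 hb
    rw [← hχ₁P.conj hx (hAP ha)]
    exact mem_img_of_mem (hAn x hx a ha)
  obtain ⟨δ, hδ, hδB⟩ := receptive_extend (by rw [hθB]; exact FN.rec hS hE hBnE) hθBE
  have hP₁N : P₁ ≤ Nf S B θ := by
    intro g hg
    refine mem_Nf.2 ⟨hP₁S hg, mem_normalizer_of_finite (hP₁n g hg), θ g, hθ.mem hg, fun x hx => ?_⟩
    exact hθ.conj hg (hBP₁ hx)
  have hδP := hδ.mono hP₁N
  obtain ⟨η, hη, hη1, hη2, hη3⟩ := hδP.inverse
  set U := img P₁ δ with hU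
  have hηP : ∀ y ∈ U, η y ∈ P₁ := fun y hy => by
    have : η y ∈ img U η := mem_img_of_mem hy
    rwa [hη3] at this
  have hτ : Mor F U (fun y => θ (η y)) := (hEF _ _ hη).comp hθ hηP
  have hδBB : img B δ = B := by rw [img_congr hδB, hθB]
  have hBU : B ≤ U := by rw [← hδBB]; exact img_mono hBP₁
  have hτB : ∀ b ∈ B, θ (η b) = b := by
    intro b hb
    rw [← hδBB] at hb
    obtain ⟨c, hc, rfl⟩ := (hδP.mono hBP₁).mem_img.1 hb
    rw [hη1 c (hBP₁ hc), ← hδB c hc]
  have hUS : U ≤ S := hδP.img_le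
  have hUN : U ≤ normalizerIn S B := by
    intro g hg
    refine ⟨hUS hg, mem_normalizer_of_finite fun b hb => ?_⟩
    obtain ⟨x, hx, rfl⟩ := hδP.mem_img.1 hg
    rw [← hδBB] at hb ⊢
    obtain ⟨c, hc, rfl⟩ := (hδP.mono hBP₁).mem_img.1 hb
    rw [← hδP.conj hx (hBP₁ hc)]
    exact mem_img_of_mem (hP₁n x hx c hc)
  have hτN : ∀ y ∈ U, θ (η y) ∈ normalizerIn S B := by
    intro g hg
    refine ⟨hτ.mem hg, mem_normalizer_of_finite fun b hb => ?_⟩
    have h1 := (Subgroup.mem_normalizer_iff.1 (hUN hg).2 b).1 hb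
    have h2 := hτ.conj hg (hBU hb)
    rw [hτB b hb] at h2
    rw [← h2]
    show θ (η (g * b * g⁻¹)) ∈ B
    rw [hτB _ h1]; exact h1
  obtain ⟨G, hG, hmG⟩ := exists_KS hS hF hBn
  have hTp : IsPGroup p (normalizerIn S B) := isPGroup_of_le hS normalizerIn_le
  have hTS : normalizerIn S B ≤ S := normalizerIn_le
  haveI : Finite (normalizerIn S B) := finite_of_le hTS
  have hGF : ∀ X f, Mor G X f → Mor F X f := by
    intro X f hf
    obtain ⟨-, -, g, hg, hgf, -⟩ := (hmG X f).1 hf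
    exact (hg.mono le_sup_left).congr hgf
  have hτG : Mor G U (fun y => θ (η y)) := by
    refine (hmG U _).2 ⟨hUN, hτN, fun y => θ (η y), ?_, fun _ _ => rfl, 1, one_mem _, fun x hx => ?_⟩
    · rw [sup_eq_left.2 hBU]; exact hτ
    · show θ (η x) = _
      rw [hτB x hx, autFun_one hx]
  have hcardU : Nat.card U = Nat.card P := by rw [hδP.card_img, hχ₁P.card_img]
  haveI hUfin : Finite U := finite_of_le hUS
  -- the property
  let C : Subgroup Ω → (Ω → Ω) → Prop := fun X f =>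
    (Nat.card P < Nat.card X ∨ G.IsConj U X) → Mor E X f
  have hC : MapProp G C :=
    { congr := fun X f g hX hfg h h' => (h h').congr hfg
      conj := fun X s hX hs _ => mor_conj (hX.trans hTS) (hTS hs)
      comp := by
        intro X Y f g hf hg hm h1 h2 h
        have hle : img X f ≤ Y := img_le_iff.2 hm
        have hYS := hg.le.trans hTS
        haveI : Finite Y := finite_of_le hYS
        refine (h1 h).comp (h2 ?_) hm
        rcases h with h | h
        · left
          refine lt_of_lt_of_le h ?_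
          rw [← hf.card_img]; exact card_le_of_le hle
        · have hUX : G.IsConj U (img X f) := isConj_trans h hf.isConj
          rcases hle.eq_or_lt with he | hlt
          · right; rw [← he]; exact hUX
          · left
            rw [← hcardU, isConj_card hUX]
            exact card_lt_of_lt' hlt
      inv := by
        intro X f i hf hi h1 h2 h h'
        have hfE : Mor E X f := by
          refine h ?_
          rcases h' with h' | h'
          · left; rwa [hf.card_img] at h'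
          · right; exact isConj_trans h' (isConj_symm hf.isConj)
        obtain ⟨j, hj, hj1, -, -⟩ := hfE.inverse
        refine hj.congr fun y hy => ?_
        obtain ⟨x, hx, rfl⟩ := hf.mem_img.1 hy
        rw [hj1 x hx, h1 x hx] }
  have hτE : Mor E U (fun y => θ (η y)) := by
    refine (alperin_prop hTp hG hC ?_ hτG) (Or.inr (isConj_refl hUN))
    intro R hR γ hγ h
    have hRn := fn_of_essential_or_top hR
    have hRT : R ≤ normalizerIn S B := hRn.1.1
    have hRS := hRT.trans hTS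
    rcases h with h | h
    · exact hind R _ h (hGF _ _ (mor_autFun hRT hγ))
    · -- `Aut_G(R)` is a `p`-group
      obtain ⟨σ, hσ, hσR⟩ := isConj_iff.1 h
      obtain ⟨-, -, σ', hσ', hσσ', κ, hκ, hσκ⟩ := (hmG U σ).1 hσ
      have hσF := hGF _ _ hσ
      have hσB : ∀ b ∈ B, σ b = autFun κ b := fun b hb => by rw [← hσσ' b (hBU hb), hσκ b hb]
      have hBR : B ≤ R := by
        intro b hb
        rw [← hσR]
        have h1 : σ (autFun κ⁻¹ b) = b := by
          rw [hσB _ (autFun_mem _ hb), autFun_apply_inv κ hb]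
        rw [← h1]
        exact mem_img_of_mem (hBU (autFun_mem _ hb))
      haveI : Finite R := finite_of_le hRS
      -- the isomorphism from `P` to `R`
      have hρ : Mor F P (fun x => σ (δ (χ₁ x))) :=
        ((hEF _ _ hχ₁P).comp (hEF _ _ hδP) fun x hx => mem_img_of_mem hx).comp hσF
          fun x hx => mem_img_of_mem (mem_img_of_mem hx)
      have hρR : img P (fun x => σ (δ (χ₁ x))) = R := by
        rw [← hσR, hU, hP₁, hχ₁P.img_comp, ← ((hEF _ _ hχ₁P).comp (hEF _ _ hδP)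
          fun x hx => mem_img_of_mem hx).img_comp (g := σ)]
      have hρA : ∀ a ∈ A, σ (δ (χ₁ a)) ∈ B := by
        intro a ha
        have h1 : χ₁ a ∈ B := by rw [← hχ₁B]; exact mem_img_of_mem ha
        have h2 : δ (χ₁ a) ∈ B := by
          have : δ (χ₁ a) ∈ img B δ := mem_img_of_mem h1
          rwa [hδBB] at this
        rw [hσB _ h2]; exact autFun_mem κ h2
      have hpR : IsPGroup p (G.autGroup R) := by
        haveI := finite_mulAut (P := R)
        refine isPGroup_of_coprime_trivial fun a ha => ?_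
        have hac : (orderOf (a : MulAut R)).Coprime p := by rw [Subgroup.orderOf_coe]; exact ha
        obtain ⟨-, -, a', ha', haa', κ', hκ', haκ'⟩ := (hmG R _).1 (mor_autFun hRT a.2)
        have haB : ∀ b ∈ B, autFun (a : MulAut R) b = autFun κ' b := fun b hb => by
          rw [← haa' b (hBR hb), haκ' b hb]
        have hiter : ∀ n : ℕ, ∀ b ∈ B, autFun ((a : MulAut R) ^ n) b = autFun (κ' ^ n) b := by
          intro n
          induction n with
          | zero => intro b hb; rw [pow_zero, pow_zero, autFun_one hb, autFun_one (hBR hb)]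
          | succ n ih =>
            intro b hb
            rw [pow_succ, pow_succ, autFun_mul _ _ hb, autFun_mul _ _ (hBR hb), haB b hb]
            exact ih _ (autFun_mem κ' hb)
        have hκ1 : κ' = 1 := by
          haveI := finite_mulAut (P := B)
          have h1 : κ' ^ orderOf (a : MulAut R) = 1 := by
            apply mulAut_ext
            intro b hb
            rw [← hiter _ b hb, pow_orderOf_eq_one, autFun_one (hBR hb), autFun_one hb]
          obtain ⟨k, hk⟩ := (isPGroup_autInducedBy (P := B) hS) ⟨κ', hκ'⟩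
          have hk' : κ' ^ p ^ k = 1 := congrArg Subtype.val hk
          have h2 := Nat.dvd_gcd (orderOf_dvd_of_pow_eq_one h1) (orderOf_dvd_of_pow_eq_one hk')
          rw [Nat.Coprime.pow_right k hac] at h2
          exact orderOf_eq_one_iff.1 (Nat.dvd_one.1 h2)
        have haF : (a : MulAut R) ∈ F.autGroup R := by
          rw [← mor_autFun_iff hRS]; exact hGF _ _ (mor_autFun hRT a.2)
        -- transport to `P`
        have key : ∀ R' : Subgroup Ω, ∀ (h : img P (fun x => σ (δ (χ₁ x))) = R')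
            (a : MulAut R'), a ∈ F.autGroup R' → (orderOf a).Coprime p →
            (∀ b ∈ B, autFun a b = b) → a = 1 := by
          rintro R' rfl a haF hac hfix
          set a₀ := hρ.transport.symm a with ha₀
          have h1 : a₀ ∈ F.autGroup P := hρ.transport_symm_mem haF
          have h2 : (orderOf a₀).Coprime p := by rw [ha₀, MulEquiv.orderOf_eq]; exact hac
          have h3 : a₀ = 1 := by
            refine hfixA a₀ h1 h2 fun x hx => ?_
            have h4 := hρ.transport_symm_apply a (hAP hx)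
            have h5 := hfix _ (hρA x hx)
            have h6 : (fun x => σ (δ (χ₁ x))) (autFun a₀ x) = (fun x => σ (δ (χ₁ x))) x :=
              h4.trans h5
            exact hρ.inj (autFun_mem _ (hAP hx)) (hAP hx) h6
          have h7 : hρ.transport a₀ = a := by rw [ha₀, MulEquiv.apply_symm_apply]
          rw [← h7, h3, map_one]
        refine Subtype.ext (key R hρR _ haF hac fun b hb => ?_)
        rw [haB b hb, hκ1, autFun_one hb]
      rcases hR with rfl | hR
      · have h1 := autGroup_top_eq_Inn hTp hG hpR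
        rw [h1] at hγ
        obtain ⟨g, hg, hgγ⟩ := mem_Inn.1 hγ
        exact (mor_conj (F := E) hTS (hTS hg)).congr fun x hx => (hgγ x hx).symm
      · exact absurd hpR (not_isPGroup_of_essential hTp hR)
  -- conclusion
  have hθE : Mor E P₁ θ := by
    refine (hδP.comp hτE fun x hx => mem_img_of_mem hx).congr fun x hx => ?_
    show θ (η (δ x)) = θ x
    rw [hη1 x hx]
  obtain ⟨ξ, hξ, hξ1, -, hξ3⟩ := hχ₂P.inverse
  have h1 : ∀ x ∈ P, θ (χ₁ x) ∈ img P χ₂ := by
    intro x hx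
    show χ₂ (autFun α (ψ (χ₁ x))) ∈ _
    rw [hψ1 x hx]; exact mem_img_of_mem (autFun_mem α hx)
  refine ((hχ₁P.comp hθE fun x hx => mem_img_of_mem hx).comp hξ h1).congr fun x hx => ?_
  show ξ (χ₂ (autFun α (ψ (χ₁ x)))) = _
  rw [hψ1 x hx, hξ1 _ (autFun_mem α hx)]

end Cfsg.Agent.H13
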