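import Mathlib
import Cfsg.Agent.H28.FusInv
import Cfsg.Agent.H28.FusInner
import Cfsg.Agent.H28.FusNormal2
import Cfsg.Agent.H28.Model6
import Cfsg.Agent.H1.Cores

/-!
# Constrained systems: the core is centric and radical; weakly normal subsystems are constrained
-/

set_option autoImplicit false
set_option linter.all false
open Cfsg Cfsg.FusionSystem
open scoped commutatorElement

namespace Cfsg.Agent.H13

open Cfsg.Agent.H28

universe u

variable {Ω : Type u} [Group Ω] {S T : Subgroup Ω} {F : FusionSystem S} {E : FusionSystem T} {p : ℕ}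

theorem core_centric (hF : F.IsConstrained p) [Finite S] : F.IsCentric F.core := by
  obtain ⟨-, Q, hQ, hc⟩ := hF
  exact centric_mono hc (le_core hQ) (normal_le core_normal)

theorem core_radical [Fact p.Prime] [Finite S] (hS : IsPGroup p S) (hF : F.IsConstrained p) :
    F.IsRadical p F.core := by
  have hc := core_centric hF
  obtain ⟨G, _, ι, hM⟩ := model_exists hS hF.1 (core_normal (F := F)) hc
  haveI : Finite G := hM.1
  rw [model_radical_iff hS hM core_normal hc]
  apply le_antisymm
  · apply le_core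
    exact normal_preimage_of_normal hM.2.1 (Cfsg.Agent.H1.pCore_normal p G) (pCore_le_range hM)
  · exact le_preimage_pCore hM (isPGroup_of_le hS (normal_le core_normal)) core_normal

theorem mem_normalizer_of_le {A B : Subgroup Ω} [Finite B] (h : ∀ a ∈ A, ∀ b ∈ B, a * b * a⁻¹ ∈ B) :
    A ≤ Subgroup.normalizer (B : Set Ω) := fun a ha => mem_normalizer_of_finite (h a ha)

theorem subgroupOf_normal_of_le {G : Type*} [Group G] {H A B : Subgroup G} (hAB : B ≤ A)
    (h : (H.subgroupOf A).Normal) : (H.subgroupOf B).Normal := by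
  constructor
  intro n hn g
  rw [Subgroup.mem_subgroupOf] at hn ⊢
  have := h.conj_mem ⟨n, hAB n.2⟩ (by rw [Subgroup.mem_subgroupOf]; exact hn) ⟨g, hAB g.2⟩
  rw [Subgroup.mem_subgroupOf] at this
  exact this

theorem constrained_of_weaklyNormal [Fact p.Prime] [Finite S] (hS : IsPGroup p S)
    (hF : F.IsConstrained p) (hE : E.IsWeaklyNormalIn F p) : E.IsConstrained p := by
  obtain ⟨hEs, hFs, hinvE⟩ := hE
  obtain ⟨hsub, hsc, hinv, hfr⟩ := invariant_iff.1 hinvE
  have hsub' := subsystem_iff.1 hsub
  have hTS : T ≤ S := subsystem_le hsub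
  haveI : Finite T := finite_of_le hTS
  have hT : IsPGroup p T := isPGroup_of_le hS hTS
  set Q := F.core with hQ
  have hQn : F.IsNormal Q := core_normal
  have hQS : Q ≤ S := normal_le hQn
  haveI : Finite Q := finite_of_le hQS
  have hQc : F.IsCentric Q := core_centric hF
  have hQr : F.IsRadical p Q := core_radical hS hF
  have hQsc := normal_stronglyClosed hQn
  set R := Q ⊓ T with hR
  have hRT : R ≤ T := inf_le_right
  have hRS : R ≤ S := hRT.trans hTS
  haveI : Finite R := finite_of_le hRS
  have hRsc : F.StronglyClosed R := by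
    rw [stronglyClosed_iff]
    refine ⟨hRS, fun U f hU hf x hx => ⟨?_, ?_⟩⟩
    · exact sc_apply hQsc hf hx (hU hx).1
    · exact sc_apply hsc hf hx (hU hx).2
  have hRn : F.IsNormal R := by
    rw [normal_iff_sc hS hFs]
    exact ⟨hRsc, fun P hPc hPr => inf_le_left.trans (normal_le_centric_radical hS hQn hPc hPr)⟩
  -- centralizer
  set C := centralizerIn T R with hC
  have hCT : C ≤ T := centralizerIn_le
  haveI : Finite C := finite_of_le hCT
  have hCQ : C ≤ Q := by
    let D : ℕ → Subgroup Ω := fun j => if j = 0 then ⊥ else if j = 1 then R else Q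
    have hD : ∀ j, ∀ α ∈ F.autGroup Q, ∀ x ∈ Q, x ∈ D j → autFun α x ∈ D j := by
      intro j α hα x hx hxD
      have hm := mor_autFun (F := F) hQS hα
      rcases j with _ | _ | j
      · simp only [D, if_true, Subgroup.mem_bot] at hxD ⊢
        rw [hxD]; exact hm.one
      · simp only [D] at hxD ⊢
        exact sc_apply hRsc hm hx hxD
      · simp only [D] at hxD ⊢
        exact autFun_mem α hx
    refine le_of_centric_radical hS hQc hQr (hCT.trans hTS) ?_ (chainStab (F.autGroup Q) D hD)
      chainStab_normal (isPGroup_chainStab (isPGroup_of_le hS hQS) 2 (by simp [D]) (by simp [D])) ?_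
    · refine mem_normalizer_of_le fun a ha b hb => ?_
      rw [mem_centralizerIn] at hb ⊢
      refine ⟨sc_conj hsc (hQS ha) hb.1, fun y hy => ?_⟩
      have h1 : a⁻¹ * y * a ∈ R := by
        have := sc_conj hRsc (S.inv_mem (hQS ha)) hy
        rwa [inv_inv] at this
      have h2 := hb.2 _ h1
      calc a * b * a⁻¹ * y = a * (b * (a⁻¹ * y * a)) * a⁻¹ := by group
        _ = a * ((a⁻¹ * y * a) * b) * a⁻¹ := by rw [h2]
        _ = y * (a * b * a⁻¹) := by group
    · rintro ⟨α, hα⟩ hαC
      rw [Subgroup.mem_subgroupOf] at hαC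
      obtain ⟨c, hc, hcα⟩ := mem_autInducedBy'.1 hαC
      rw [mem_chainStab]
      intro j x hx hxD
      have hcc := (mem_centralizerIn.1 hc)
      show x⁻¹ * autFun α x ∈ D j
      rw [hcα x hx]
      rcases j with _ | _ | j
      · simp only [D, zero_add, one_ne_zero, if_false, if_true] at hxD
        have : x⁻¹ * (c * x * c⁻¹) = 1 := by rw [hcc.2 x hxD]; group
        rw [this]; exact one_mem _
      · simp only [D]
        show x⁻¹ * (c * x * c⁻¹) ∈ R
        refine ⟨Q.mul_mem (Q.inv_mem hx) (sc_conj hQsc (hTS hcc.1) hx), ?_⟩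
        have e : x⁻¹ * (c * x * c⁻¹) = (x⁻¹ * c * x⁻¹⁻¹) * c⁻¹ := by group
        rw [e]
        exact T.mul_mem (sc_conj hsc (S.inv_mem (hQS hx)) hcc.1) (T.inv_mem hcc.1)
      · simp only [D]
        exact Q.mul_mem (Q.inv_mem hx) (sc_conj hQsc (hTS hcc.1) hx)
  have hRE : E.StronglyClosed R := by
    rw [stronglyClosed_iff]
    exact ⟨hRT, fun U f hU hf x hx => sc_apply hRsc (hsub' U f hf) hx (hU hx)⟩
  refine ⟨hEs, R, ?_, ?_⟩
  · rw [normal_iff_sc hT hEs]
    refine ⟨hRE, fun P hPc hPr => ?_⟩
    have hPT := centric_le hPc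
    have hn : ((autInducedBy R P).subgroupOf (F.autGroup P)).Normal := by
      refine autInducedBy_subgroupOf_normal hRS (hPT.trans hTS) fun α hα => ?_
      exact (isNormal_iff.1 hRn).2 P _ (mor_autFun (hPT.trans hTS) hα)
    have hle : E.autGroup P ≤ F.autGroup P := by
      intro α hα
      exact (mor_autFun_iff (hPT.trans hTS)).1 (hsub' _ _ (mor_autFun hPT hα))
    refine le_of_centric_radical hT hPc hPr hRT (hPT.trans (sc_normalizer hRE))
      ((autInducedBy R P).subgroupOf (E.autGroup P)) (subgroupOf_normal_of_le hle hn) ?_ le_rfl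
    exact (isPGroup_autInducedBy (isPGroup_of_le hS hRS)).comap_of_injective _
      (Subgroup.subtype_injective _)
  · refine ⟨hRT, fun Q' hQ' => ?_⟩
    obtain ⟨f, hf, rfl⟩ := isConj_iff.1 hQ'
    rw [sc_img_eq hRE hf le_rfl]
    intro c hc
    exact ⟨hCQ hc, hCT hc⟩

theorem constrained_of_subnormal {T S : Subgroup Ω} {E : FusionSystem T} {F : FusionSystem S} {p : ℕ}
    (h : E.IsSubnormalIn F p) : p.Prime → Finite S → IsPGroup p S → F.IsConstrained p →
    E.IsConstrained p := by
  induction h with
  | refl F p => exact fun _ _ _ h => h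
  | step h1 h2 ih =>
    intro hp hfin hS hF
    haveI : Fact _ := ⟨hp⟩
    have hUS := subsystem_le h2.1.2.2.1
    exact ih hp (finite_of_le hUS) (isPGroup_of_le hS hUS) (constrained_of_weaklyNormal hS hF h2.1)

end Cfsg.Agent.H13
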