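import Mathlib
import Cfsg.Agent.H13.FusCtl2
import Cfsg.Agent.H28.FusFactor

/-!
# Grün's lemma for fusion systems
-/

set_option autoImplicit false
set_option linter.all false
open Cfsg Cfsg.FusionSystem

namespace Cfsg.Agent.H13

open Cfsg.Agent.H28

variable {Ω Ω' : Type*} [Group Ω] [Group Ω'] {S : Subgroup Ω} {S' : Subgroup Ω'}
  {F : FusionSystem S} {E : FusionSystem S'} {p : ℕ} [Fact p.Prime] [Finite S]
  {P Q : Subgroup Ω} {θ : S →* Ω'}

omit [Fact p.Prime] [Finite S] in
theorem central_fix (h : F.IsCentral Q) {f : Ω → Ω} (hf : Mor F P f) {x : Ω} (hx : x ∈ P)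
    (hxQ : x ∈ Q) : f x = x := by
  rw [isCentral_iff] at h
  obtain ⟨g, hg, h1, h2⟩ := h.2 P f hf
  rw [← h1 x hx, h2 x hxQ]

omit [Fact p.Prime] [Finite S] in
theorem central_sc (h : F.IsCentral Q) : F.StronglyClosed Q := by
  rw [stronglyClosed_iff]
  exact ⟨h.1, fun R f hR hf x hx => by rw [central_fix h hf hx (hR hx)]; exact hR hx⟩

omit [Fact p.Prime] in
/-- maps of `F` move elements of the second centre by elements of the centre. -/
theorem second_center_move [Finite S'] (hE : F.IsFactorSystem F.center θ E) {f : Ω → Ω}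
    (hf : Mor F P f) {x : Ω} (hx : x ∈ P) (hxE : x ∈ preimageAlong θ E.center) :
    x⁻¹ * f x ∈ F.center := by
  have hc := center_central (F := F)
  obtain ⟨g, hg, h1, h2⟩ := (isCentral_iff.1 hc).2 P f hf
  have hle : F.center ≤ P ⊔ F.center := le_sup_right
  obtain ⟨f', hf', h3⟩ := factor_induced hE (central_sc hc) hg hle
  have hxS := hf.le hx
  have hx' : x ∈ P ⊔ F.center := Subgroup.mem_sup_left hx
  have h4 : f' (tf θ x) = tf θ x :=
    central_fix (center_central (F := E)) hf' (mem_imageAlong.2 ⟨x, hxS, hx', rfl⟩)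
      (mem_preimageAlong.1 hxE).2
  rw [h3 x hx', h1 x hx] at h4
  exact (factor_eq hE hxS (hf.mem hx)).1 h4.symm

omit [Fact p.Prime] in
theorem second_center_sc [Finite S'] (hE : F.IsFactorSystem F.center θ E) :
    F.StronglyClosed (preimageAlong θ E.center) := by
  rw [stronglyClosed_iff]
  refine ⟨preimageAlong_le, fun R f hR hf x hx => ?_⟩
  have h1 := second_center_move hE hf hx (hR hx)
  have h2 : F.center ≤ preimageAlong θ E.center := factor_le_preimage hE
  have h3 := mul_mem (hR hx) (h2 h1)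
  rwa [mul_inv_cancel_left] at h3

theorem center_comm_S {z s : Ω} (hz : z ∈ F.center) (hs : s ∈ S) : s * z * s⁻¹ = z := by
  have hc := center_central (F := F)
  exact central_fix hc (mor_conj le_rfl hs) (hc.1 hz) hz

theorem second_center_normal [Finite S'] (hS : IsPGroup p S) (hF : F.IsSaturated p)
    (hE : F.IsFactorSystem F.center θ E) : F.IsNormal (preimageAlong θ E.center) := by
  set Y := preimageAlong θ E.center with hY
  have hYS : Y ≤ S := preimageAlong_le
  have hZ := center_central (F := F)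
  have hZY : F.center ≤ Y := factor_le_preimage hE
  refine normal_of_series hS hF 2 (fun i => if i = 0 then ⊥ else if i = 1 then F.center else Y)
    rfl rfl ?_ ?_
  · intro i hi
    interval_cases i
    · exact central_sc hZ
    · exact second_center_sc hE
  · intro i hi
    interval_cases i
    · show ⁅Y, F.center⁆ ≤ ⊥
      rw [Subgroup.commutator_le]
      intro a ha z hz
      have h1 := center_comm_S hz (hYS ha)
      show a * z * a⁻¹ * z⁻¹ ∈ (⊥ : Subgroup Ω)
      rw [h1, mul_inv_cancel]; exact one_mem _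
    · show ⁅Y, Y⁆ ≤ F.center
      rw [Subgroup.commutator_le]
      intro a ha b hb
      show a * b * a⁻¹ * b⁻¹ ∈ F.center
      have h1 := second_center_move hE (mor_conj hYS (hYS ha)) hb hb
      have h2 := center_comm_S h1 (hYS hb)
      have e : b * (b⁻¹ * (a * b * a⁻¹)) * b⁻¹ = a * b * a⁻¹ * b⁻¹ := by simp [mul_assoc]
      rw [← e, h2]; exact h1

/-- the kernel of `s ↦ [s, x]`. -/
def cenS (S : Subgroup Ω) (x : Ω) : Subgroup Ω := S ⊓ Subgroup.centralizer {x}

omit [Finite S] [Fact p.Prime] in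
theorem mem_cenS {x s : Ω} : s ∈ cenS S x ↔ s ∈ S ∧ s * x * s⁻¹ = x := by
  rw [cenS, Subgroup.mem_inf, Subgroup.mem_centralizer_singleton_iff, mul_inv_eq_iff_eq_mul]

theorem grun [Finite S'] (hS : IsPGroup p S) (hF : F.IsSaturated p)
    (hperf : F.hyperfocalSubgroup p = S) (hE : F.IsFactorSystem F.center θ E) {x : Ω}
    (hx : x ∈ preimageAlong θ E.center) : ∀ P f, Mor F P f → x ∈ P → f x = x := by
  set Y := preimageAlong θ E.center with hY
  have hYS : Y ≤ S := preimageAlong_le
  have hxS := hYS hx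
  have hYn := second_center_normal hS hF hE
  have hZ := center_central (F := F)
  have hYP : ∀ P, (P = S ∨ F.IsEssential p P) → Y ≤ P := by
    rintro P (rfl | hP)
    · exact hYS
    · exact normal_le_centric_radical hS hYn hP.1 (essential_radical hS hP)
  -- the stabilizer contains the residual
  have hres : ∀ P, (P = S ∨ F.IsEssential p P) → ∀ γ : F.autGroup P,
      γ ∈ pResidual p (F.autGroup P) → autFun (γ : MulAut P) x = x := by
    intro P hP
    have hPS : P ≤ S := by
      rcases hP with rfl | hP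
      · exact le_rfl
      · exact hP.1.1
    have hxP := hYP P hP hx
    haveI : Finite P := finite_of_le hPS
    let St : Subgroup (F.autGroup P) :=
      { carrier := {γ | autFun (γ : MulAut P) x = x}
        one_mem' := autFun_one hxP
        mul_mem' := by
          intro a b ha hb
          show autFun ((a : MulAut P) * (b : MulAut P)) x = x
          rw [autFun_mul _ _ hxP, show autFun (b : MulAut P) x = x from hb]; exact ha
        inv_mem' := by
          intro a ha
          show autFun ((a : MulAut P)⁻¹) x = x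
          have h1 := autFun_inv_apply (a : MulAut P) hxP
          rwa [show autFun (a : MulAut P) x = x from ha] at h1 }
    have hle : pResidual p (F.autGroup P) ≤ St := by
      rw [pResidual, Subgroup.closure_le]
      intro γ hγ
      have hc : (orderOf (γ : MulAut P)).Coprime p := by rw [Subgroup.orderOf_coe]; exact hγ
      have h1 := second_center_move hE (mor_autFun hPS γ.2) hxP hx
      have hZP : F.center ≤ P := (factor_le_preimage hE).trans (hYP P hP)
      exact fix_of_fix_comm (isPGroup_of_le hS hPS) hc hxP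
        (central_fix hZ (mor_autFun hPS γ.2) (hZP h1) h1)
    exact fun γ hγ => hle hγ
  have hcz : ∀ s ∈ S, ∃ c ∈ F.center, s * x * s⁻¹ = x * c := by
    intro s hs
    refine ⟨x⁻¹ * (s * x * s⁻¹), second_center_move hE (mor_conj le_rfl hs) hxS hx, ?_⟩
    rw [mul_inv_cancel_left]
  -- automorphisms fixing `x` move elements by elements of the centralizer
  have hmove : ∀ P, (P = S ∨ F.IsEssential p P) → ∀ γ : F.autGroup P,
      autFun (γ : MulAut P) x = x → ∀ y ∈ P, y⁻¹ * autFun (γ : MulAut P) y ∈ cenS S x := by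
    intro P hP γ hγ y hy
    have hPS : P ≤ S := by
      rcases hP with rfl | hP
      · exact le_rfl
      · exact hP.1.1
    have hxP := hYP P hP hx
    have hZP : F.center ≤ P := (factor_le_preimage hE).trans (hYP P hP)
    obtain ⟨c, hc, hyc⟩ := hcz y (hPS hy)
    have hm := mor_autFun hPS γ.2
    have h1 := hm.conj hy hxP
    rw [hyc, hm.mul hxP (hZP hc), hγ, central_fix hZ hm (hZP hc) hc] at h1
    refine mem_cenS.2 ⟨mul_mem (S.inv_mem (hPS hy)) (hm.mem hy), ?_⟩
    have e : y⁻¹ * autFun (γ : MulAut P) y * x * (y⁻¹ * autFun (γ : MulAut P) y)⁻¹ =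
        y⁻¹ * (autFun (γ : MulAut P) y * x * (autFun (γ : MulAut P) y)⁻¹) * y := by
      simp [mul_assoc]
    rw [e, ← h1, ← hyc]; simp [mul_assoc]
  -- commutators of elements of `S` centralize `x`
  have hcomm : ∀ s ∈ S, ∀ u ∈ S, u⁻¹ * (s * u * s⁻¹) ∈ cenS S x := by
    intro s hs u hu
    refine mem_cenS.2 ⟨mul_mem (S.inv_mem hu) (mul_mem (mul_mem hs hu) (S.inv_mem hs)), ?_⟩
    have hA : ∀ s ∈ S, ∃ c ∈ F.center, ∀ z ∈ F.center, s * (x * z) * s⁻¹ = x * (c * z) := by
      intro s hs
      obtain ⟨c, hc, hsc⟩ := hcz s hs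
      refine ⟨c, hc, fun z hz => ?_⟩
      have h1 : s * (x * z) * s⁻¹ = (s * x * s⁻¹) * (s * z * s⁻¹) := by simp [mul_assoc]
      rw [h1, hsc, center_comm_S hz hs, mul_assoc]
    have hZc : ∀ z ∈ F.center, ∀ w ∈ F.center, z * w = w * z := by
      intro z hz w hw
      have := center_comm_S hw (hZ.1 hz)
      rwa [mul_inv_eq_iff_eq_mul] at this
    obtain ⟨c, hc, h1⟩ := hA s hs
    obtain ⟨c', hc', h1'⟩ := hA s⁻¹ (S.inv_mem hs)
    obtain ⟨d, hd, h2⟩ := hA u hu
    obtain ⟨d', hd', h2'⟩ := hA u⁻¹ (S.inv_mem hu)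
    have one' := one_mem F.center
    have hcc : c * c' = 1 := by
      have e : s * (x * (c' * 1)) * s⁻¹ = x := by
        rw [← h1' 1 one']; simp [mul_assoc]
      rw [h1 _ (mul_mem hc' one'), mul_one] at e
      exact mul_eq_left.1 e
    have hdd : d * d' = 1 := by
      have e : u * (x * (d' * 1)) * u⁻¹ = x := by
        rw [← h2' 1 one']; simp [mul_assoc]
      rw [h2 _ (mul_mem hd' one'), mul_one] at e
      exact mul_eq_left.1 e
    have e : u⁻¹ * (s * u * s⁻¹) * x * (u⁻¹ * (s * u * s⁻¹))⁻¹ =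
        u⁻¹ * (s * (u * (s⁻¹ * (x * 1) * s⁻¹⁻¹) * u⁻¹) * s⁻¹) * u⁻¹⁻¹ := by
      simp [mul_assoc]
    rw [e, h1' 1 one', mul_one, h2 c' hc', h1 _ (mul_mem hd hc'),
      h2' _ (mul_mem hc (mul_mem hd hc'))]
    have e2 : d' * (c * (d * c')) = (d * d') * (c * c') := by
      rw [← mul_assoc c d, hZc c hc d hd, ← mul_assoc, ← mul_assoc, hZc d' hd' d hd]
      simp only [mul_assoc]
    rw [e2, hcc, hdd, one_mul, mul_one]
  -- focal subgroup
  have hfoc : F.focalSubgroup ≤ cenS S x := by
    rw [foc_le_iff]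
    intro P f hf y hy
    refine rel_of_essential hS hF (fun u v => u⁻¹ * v ∈ cenS S x) ?_ ?_ ?_ ?_ hf hy
    · intro a b c h1 h2
      have := mul_mem h1 h2
      simpa [mul_assoc] using this
    · intro a b h
      have := (cenS S x).inv_mem h
      simpa using this
    · exact fun s hs u hu => hcomm s hs u hu
    · intro P hP α hα y hy
      obtain ⟨γ, hγ, s, hs, hsP, hαs⟩ := aut_decomp (FN.fa hS hF (fn_of_essential_or_top hP).1) hα
      have h1 := hmove P hP γ (hres P hP γ hγ) _ (hsP y hy)
      have hyS : y ∈ S := (fn_of_essential_or_top hP).1.1 hy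
      have h2 := mul_mem (hcomm s hs y hyS) h1
      show y⁻¹ * autFun α y ∈ cenS S x
      rw [hαs y hy]
      rwa [mul_assoc, mul_inv_cancel_left] at h2
  have hcen : ∀ s ∈ S, s * x * s⁻¹ = x := by
    intro s hs
    rw [← hperf] at hs
    exact (mem_cenS.1 (hfoc (hyp_le_foc hs))).2
  intro P f hf hxP
  have key := rel_of_essential hS hF (fun u v => u = x ↔ v = x)
    (fun a b c h1 h2 => h1.trans h2) (fun a b h => h.symm) ?_ ?_ hf hxP
  · exact key.1 rfl
  · intro s hs u hu
    constructor
    · rintro rfl; exact hcen s hs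
    · intro h
      have h1 := hcen s⁻¹ (S.inv_mem hs)
      rw [← h] at h1
      rw [← h, ← h1]; simp [mul_assoc]
  · intro P hP α hα u hu
    have hPfa := FN.fa hS hF (fn_of_essential_or_top hP).1
    obtain ⟨γ, hγ, s, hs, hsP, hαs⟩ := aut_decomp hPfa hα
    have hxP := hYP P hP hx
    have hαx : autFun α x = x := by
      rw [hαs x hxP, hcen s hs]; exact hres P hP γ hγ
    constructor
    · rintro rfl; exact hαx
    · intro h
      have h1 := autFun_inv_apply α hu
      have h2 := autFun_inv_apply α hxP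
      rw [hαx] at h2
      rw [h, h2] at h1
      exact h1.symm

theorem grun_center [Finite S'] (hS : IsPGroup p S) (hF : F.IsSaturated p)
    (hperf : F.hyperfocalSubgroup p = S) (hE : F.IsFactorSystem F.center θ E) : E.center = ⊥ := by
  have h1 : F.IsCentral (preimageAlong θ E.center) :=
    (central_iff hS hF).2 ⟨preimageAlong_le, fun x hx P f hf hxP => grun hS hF hperf hE hx P f hf hxP⟩
  have h2 := le_center h1
  rw [Subgroup.eq_bot_iff_forall]
  intro y hy
  have hyS : y ∈ S' := (center_central (F := E)).1 hy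
  obtain ⟨x, hx, rfl⟩ := exists_tf_eq hE.2.2.1 hyS
  exact (factor_ker hE hx).2 (h2 (mem_preimageAlong.2 ⟨hx, hy⟩))

end Cfsg.Agent.H13
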