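import Mathlib
import Cfsg.Agent.H13.FusMore2
import Cfsg.Agent.H28.FusInv
import Cfsg.Agent.H28.FusSurj

/-!
# Strong invariance and the Frattini condition
-/

set_option autoImplicit false
set_option linter.all false
open Cfsg Cfsg.FusionSystem

namespace Cfsg.Agent.H13

open Cfsg.Agent.H28

variable {Ω : Type*} [Group Ω] {S T : Subgroup Ω} {F : FusionSystem S} {E : FusionSystem T}
  {p : ℕ} {P Q R : Subgroup Ω} {f g h : Ω → Ω}

/-- strong invariance -/
def SInv (F : FusionSystem S) (E : FusionSystem T) : Prop :=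
  ∀ P Q f h, P ≤ Q → Q ≤ T → Mor E P f → (∀ x ∈ P, f x ∈ Q) → Mor F Q h →
    ∃ g, Mor E (img P h) g ∧ ∀ x ∈ P, g (h x) = h (f x)

/-- maps with a Frattini decomposition -/
def Fr (F : FusionSystem S) (E : FusionSystem T) (P : Subgroup Ω) (f : Ω → Ω) : Prop :=
  ∃ α ∈ F.autGroup T, ∃ g, Mor E P g ∧ ∀ x ∈ P, f x = autFun α (g x)

/-- invariance under `Aut_F(T)` -/
def AInv (F : FusionSystem S) (E : FusionSystem T) : Prop :=
  ∀ P f, Mor E P f → ∀ α ∈ F.autGroup T, ∃ g, Mor E (img P (autFun α)) g ∧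
    ∀ x ∈ P, g (autFun α x) = autFun α (f x)

theorem AInv.inv (hA : AInv F E) (hTS : T ≤ S) {α : MulAut T} (hα : α ∈ F.autGroup T)
    (hf : Mor E P f) : ∃ g, Mor E (img P (autFun α⁻¹)) g ∧ ∀ x ∈ img P (autFun α⁻¹),
      autFun α (g x) = f (autFun α x) := by
  obtain ⟨g, hg, h1⟩ := hA P f hf α⁻¹ ((F.autGroup T).inv_mem hα)
  refine ⟨g, hg, fun x hx => ?_⟩
  obtain ⟨y, hy, rfl⟩ := ((mor_autFun hTS ((F.autGroup T).inv_mem hα)).mono hf.le).mem_img.1 hx
  rw [h1 y hy, autFun_apply_inv _ (hf.mem hy), autFun_apply_inv _ (hf.le hy)]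

theorem Fr.mono (h : Fr F E P f) (hQ : Q ≤ P) : Fr F E Q f := by
  obtain ⟨α, hα, g, hg, h1⟩ := h
  exact ⟨α, hα, g, hg.mono hQ, fun x hx => h1 x (hQ hx)⟩

theorem Fr.congr (h : Fr F E P f) (h1 : ∀ x ∈ P, f x = g x) : Fr F E P g := by
  obtain ⟨α, hα, k, hk, h2⟩ := h
  exact ⟨α, hα, k, hk, fun x hx => by rw [← h1 x hx, h2 x hx]⟩

theorem fr_of_mor (hTS : T ≤ S) (hf : Mor E P f) : Fr F E P f :=
  ⟨1, (F.autGroup T).one_mem, f, hf, fun x hx => by rw [autFun_one (hf.mem hx)]⟩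

theorem Fr.comp (hA : AInv F E) (hTS : T ≤ S) (h1 : Fr F E P f) (h2 : Fr F E Q g)
    (hm : ∀ x ∈ P, f x ∈ Q) : Fr F E P (fun x => g (f x)) := by
  obtain ⟨α, hα, a, ha, h3⟩ := h1
  obtain ⟨β, hβ, b, hb, h4⟩ := h2
  obtain ⟨c, hc, h5⟩ := hA.inv hTS hα hb
  have hm' : ∀ x ∈ P, a x ∈ img Q (autFun α⁻¹) := by
    intro x hx
    have h6 : a x = autFun α⁻¹ (f x) := by rw [h3 x hx, autFun_inv_apply _ (ha.mem hx)]
    rw [h6]; exact mem_img_of_mem (hm x hx)
  refine ⟨β * α, (F.autGroup T).mul_mem hβ hα, fun x => c (a x), ha.comp hc hm', fun x hx => ?_⟩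
  show g (f x) = _
  rw [autFun_mul _ _ (hc.mem (hm' x hx)), h5 _ (hm' x hx), ← h3 x hx, h4 _ (hm x hx)]

theorem Fr.inverse (hA : AInv F E) (hTS : T ≤ S) (h1 : Fr F E P f) :
    ∃ g, Fr F E (img P f) g ∧ (∀ x ∈ P, g (f x) = x) ∧ ∀ y ∈ img P f, f (g y) = y := by
  obtain ⟨α, hα, a, ha, h3⟩ := h1
  obtain ⟨b, hb, hb1, hb2, hb3⟩ := ha.inverse
  -- the inverse of `f` is `b ∘ α⁻¹ = α⁻¹ ∘ (α b α⁻¹)`
  obtain ⟨c, hc, h4⟩ := hA _ b hb α hα
  have himg : img P f = img (img P a) (autFun α) := by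
    rw [ha.img_comp]; exact img_congr h3
  have hva : ∀ x ∈ P, autFun α⁻¹ (c (f x)) = x := by
    intro x hx
    rw [h3 x hx, h4 _ (mem_img_of_mem hx), autFun_inv_apply _ (hb.mem (mem_img_of_mem hx)),
      hb1 x hx]
  refine ⟨fun y => autFun α⁻¹ (c y), ⟨α⁻¹, (F.autGroup T).inv_mem hα, c, by rw [himg]; exact hc,
    fun x hx => rfl⟩, hva, ?_⟩
  intro y hy
  have hy' : ∃ x ∈ P, f x = y := by
    rw [himg] at hy
    obtain ⟨z, hz, rfl⟩ := ((mor_autFun hTS hα).mono ha.img_le).mem_img.1 hy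
    obtain ⟨x, hx, rfl⟩ := ha.mem_img.1 hz
    exact ⟨x, hx, h3 x hx⟩
  obtain ⟨x, hx, rfl⟩ := hy'
  show f (autFun α⁻¹ (c (f x))) = f x
  rw [hva x hx]

theorem exists_conj_normal {G : Type*} [Group G] [Finite G] [Fact p.Prime] (R : Sylow p G)
    (N : Subgroup G) [N.Normal] (B : Subgroup G) (hB : IsPGroup p B) (hBN : B ≤ N) :
    ∃ v ∈ N, ∀ b ∈ B, v * b * v⁻¹ ∈ (R : Subgroup G) := by
  obtain ⟨v, hv, h⟩ := exists_conj_in_kernel (QuotientGroup.mk' N) R B hB (by
    have : B.map (QuotientGroup.mk' N) = ⊥ := by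
      rw [Subgroup.map_eq_bot_iff, QuotientGroup.ker_mk']; exact hBN
    rw [this]; exact bot_le)
  rw [QuotientGroup.ker_mk'] at hv
  exact ⟨v, hv, h⟩

theorem SInv.aInv (hTS : T ≤ S) (hEF : ∀ P f, Mor E P f → Mor F P f) (h : SInv F E) : AInv F E := by
  intro P f hf α hα
  exact h P T f (autFun α) hf.le le_rfl hf (fun x hx => hf.mem hx) (mor_autFun hTS hα)

theorem SInv.frattini [Fact p.Prime] [Finite S] (hS : IsPGroup p S) (hF : F.IsSaturated p)
    (hT : F.StronglyClosed T) (hEF : ∀ P f, Mor E P f → Mor F P f) (hI : SInv F E) :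
    ∀ (n : ℕ) (P : Subgroup Ω) (f : Ω → Ω), P ≤ T → Mor F P f → Nat.card T - Nat.card P ≤ n →
      Fr F E P f := by
  have hTS := hT.1
  have hTfin : Finite T := finite_of_le hTS
  have hTp := hS.to_le hTS
  have hA := hI.aInv hTS hEF
  have hmT : ∀ P f, P ≤ T → Mor F P f → ∀ x ∈ P, f x ∈ T := fun P f hP hf x hx =>
    sc_apply hT hf hx (hP hx)
  have htop : ∀ f, Mor F T f → Fr F E T f := by
    intro f hf
    have himg : img T f = T := img_sc_eq hT hf le_rfl
    obtain ⟨α, hα, h1⟩ := hf.exists_aut himg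
    exact ⟨α, hα, fun x => x, mor_self le_rfl, fun x hx => (h1 x hx).symm⟩
  intro n
  induction n with
  | zero =>
    intro P f hP hf hn
    have hPT : P = T := eq_of_le_of_card hP (by omega)
    subst hPT
    exact htop f hf
  | succ n ih =>
  intro P f hP hf hn
  by_cases hPT : P = T
  · subst hPT; exact htop f hf
  have hlt : P < T := lt_of_le_of_ne hP hPT
  -- bigger subgroups
  have hbig : ∀ Q h, Q ≤ T → Mor F Q h → Nat.card P < Nat.card Q → Fr F E Q h := by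
    intro Q h hQ hh hc
    have : Nat.card Q ≤ Nat.card T := card_le_of_le hQ
    exact ih Q h hQ hh (by omega)
  have hnorm : ∀ Q, Q ≤ T → Nat.card Q = Nat.card P → Nat.card P < Nat.card (normalizerIn T Q) := by
    intro Q hQ hc
    have hne : Q ≠ T := by
      rintro rfl
      have := eq_of_le_of_card hP hc.le
      exact hPT this
    have h1 := lt_normalizerIn hTp (lt_of_le_of_ne hQ hne)
    have hfin : Finite (normalizerIn T Q) := finite_of_le normalizerIn_le
    rw [← hc]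
    refine lt_of_le_of_ne (card_le_of_le h1.le) fun he => ?_
    exact h1.ne (eq_of_le_of_card h1.le he.ge)
  -- a fully normalized conjugate
  obtain ⟨R, hPR, hR⟩ := exists_fullyNormalized (F := F) (hP.trans hTS)
  have hRT : R ≤ T := by
    obtain ⟨k, hk, rfl⟩ := isConj_iff.1 hPR
    exact img_le_iff.2 fun x hx => hmT P k hP hk x hx
  have hRc : Nat.card R = Nat.card P := (isConj_card hPR).symm
  have hRfin : Finite R := finite_of_le hRT
  -- maps to R
  have hmap : ∀ Q, Q ≤ T → F.IsConj Q R → ∃ g, Mor F Q g ∧ img Q g = R ∧ Fr F E Q g := by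
    intro Q hQ hQR
    obtain ⟨g, hg, hgR⟩ := FN.exists_map hS hF hR hQR
    have hle : normalizerIn T Q ≤ normalizerIn S Q := by
      intro x hx
      obtain ⟨h1, h2⟩ := mem_normalizerIn.1 hx
      exact mem_normalizerIn.2 ⟨hTS h1, h2⟩
    have hQc : Nat.card Q = Nat.card P := by rw [← hRc, isConj_card hQR]
    have h1 := hbig _ g normalizerIn_le (hg.mono hle) (hnorm Q hQ hQc)
    exact ⟨g, hg.mono (le_normalizerIn (hQ.trans hTS)), hgR, h1.mono (le_normalizerIn hQ)⟩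
  -- automorphisms of R
  have haut : ∀ κ ∈ F.autGroup R, Fr F E R (autFun κ) := by
    intro κ hκ
    obtain ⟨-, U, hU⟩ := FN.fa hS hF hR
    -- the automizer in E
    have hEle : E.autGroup R ≤ F.autGroup R := by
      intro α hα
      exact (mor_autFun_iff (hRT.trans hTS)).1 (hEF _ _ (mor_autFun hRT hα))
    have hEn : ((E.autGroup R).subgroupOf (F.autGroup R)).Normal := by
      refine ⟨fun α hα β => ?_⟩
      rw [Subgroup.mem_subgroupOf] at hα ⊢
      obtain ⟨g, hg, h1⟩ := hI R R (autFun α) (autFun β) le_rfl hRT (mor_autFun hRT hα)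
        (fun x hx => autFun_mem _ hx) (mor_autFun (hRT.trans hTS) β.2)
      rw [img_autFun] at hg
      refine mem_autGroup_of_mor hg (fun x => ?_)
      have hx : (x : Ω) = autFun (β : MulAut R) (autFun (β : MulAut R)⁻¹ x) :=
        (autFun_apply_inv _ x.2).symm
      rw [← autFun_coe]
      show autFun ((β : MulAut R) * (α : MulAut R) * (β : MulAut R)⁻¹) x = g x
      rw [autFun_mul _ _ x.2, autFun_mul _ _ (autFun_mem _ x.2)]
      conv_rhs => rw [hx]
      rw [h1 _ (autFun_mem _ x.2)]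
    set κ' : F.autGroup R := ⟨κ, hκ⟩ with hκ'
    have hTE : autInducedBy T R ≤ E.autGroup R := autInducedBy_le hRT le_rfl
    set B : Subgroup (F.autGroup R) :=
      ((autInducedBy T R).subgroupOf (F.autGroup R)).map (MulAut.conj κ').toMonoidHom with hB
    have hBp : IsPGroup p B := by
      apply IsPGroup.map
      exact (isPGroup_autInducedBy hTp).comap_of_injective (F.autGroup R).subtype
        (Subgroup.subtype_injective _)
    have hBN : B ≤ (E.autGroup R).subgroupOf (F.autGroup R) := by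
      rintro _ ⟨α, hα, rfl⟩
      exact hEn.conj_mem _ (Subgroup.mem_subgroupOf.2 (hTE hα)) κ'
    have hfin : Finite (MulAut R) := finite_mulAut
    obtain ⟨v, hv, hvB⟩ := exists_conj_normal U ((E.autGroup R).subgroupOf (F.autGroup R)) B hBp hBN
    -- v κ extends to the normalizer in T
    have hvE : (v : MulAut R) ∈ E.autGroup R := hv
    set δ : MulAut R := (v : MulAut R) * κ with hδ
    have hδF : δ ∈ F.autGroup R := (F.autGroup R).mul_mem v.2 hκ
    have hδm := mor_autFun (hRT.trans hTS) hδF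
    obtain ⟨k, hk, hkδ⟩ := receptive_extend (P := R) (f := autFun δ)
      (by rw [img_autFun]; exact FN.rec hS hF hR) hδm
    have hNle : normalizerIn T R ≤ Nf S R (autFun δ) := by
      intro t ht
      obtain ⟨htT, htR⟩ := mem_normalizerIn.1 ht
      have htn : t ∈ Subgroup.normalizer (R : Set Ω) :=
        mem_normalizer_of_finite fun x hx => (htR x).1 hx
      have hc : conjAut R t htn ∈ autInducedBy T R := conjAut_mem htn htT
      have hcF : conjAut R t htn ∈ F.autGroup R := hEle (hTE hc)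
      have h1 : κ' * ⟨conjAut R t htn, hcF⟩ * κ'⁻¹ ∈ B :=
        ⟨⟨conjAut R t htn, hcF⟩, Subgroup.mem_subgroupOf.2 hc, rfl⟩
      have h2 := hvB _ h1
      rw [hU, Subgroup.mem_subgroupOf] at h2
      obtain ⟨s, hs, h3⟩ := mem_autInducedBy'.1 h2
      refine mem_Nf.2 ⟨hTS htT, htn, s, hs, fun x hx => ?_⟩
      have h4 := h3 (autFun δ x) (autFun_mem _ hx)
      rw [← h4]
      show autFun δ (t * x * t⁻¹) = autFun ((v : MulAut R) * (κ * conjAut R t htn * κ⁻¹) * (v : MulAut R)⁻¹) (autFun δ x)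
      have e : (v : MulAut R) * (κ * conjAut R t htn * κ⁻¹) * (v : MulAut R)⁻¹ =
          δ * conjAut R t htn * δ⁻¹ := by rw [hδ]; group
      rw [e, autFun_mul _ _ (autFun_mem _ hx), autFun_mul _ _ (autFun_mem _ (autFun_mem _ hx)),
        autFun_inv_apply _ hx, autFun_conjAut htn hx]
    have h1 := hbig _ k normalizerIn_le (hk.mono hNle) (hnorm R hRT hRc)
    have h2 : Fr F E R (autFun δ) := (h1.mono (le_normalizerIn hRT)).congr hkδ
    have h3 : Fr F E R (autFun (v : MulAut R)⁻¹) :=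
      fr_of_mor hTS (mor_autFun hRT ((E.autGroup R).inv_mem hvE))
    refine (h2.comp hA hTS h3 (fun x hx => autFun_mem _ hx)).congr fun x hx => ?_
    show autFun (v : MulAut R)⁻¹ (autFun δ x) = _
    rw [hδ, autFun_mul _ _ hx, autFun_inv_apply _ (autFun_mem _ hx)]
  -- the general case
  obtain ⟨g₀, hg₀, hg₀R, hFr₀⟩ := hmap P hP hPR
  have himT : img P f ≤ T := img_le_iff.2 fun x hx => hmT P f hP hf x hx
  obtain ⟨g₁, hg₁, hg₁R, hFr₁⟩ := hmap (img P f) himT
    (isConj_trans (isConj_symm hf.isConj) hPR)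
  obtain ⟨i₀, hi₀, hi1, hi2, hi3⟩ := hg₀.inverse
  rw [hg₀R] at hi₀ hi2 hi3
  -- κ = g₁ f g₀⁻¹
  have hκ : Mor F R (fun x => g₁ (f (i₀ x))) := by
    have h1 : ∀ x ∈ R, i₀ x ∈ P := fun x hx => by
      rw [← hi3]; exact mem_img_of_mem hx
    exact (hi₀.comp hf h1).comp hg₁ (fun x hx => mem_img_of_mem (h1 x hx))
  have hκimg : img R (fun x => g₁ (f (i₀ x))) = R := by
    have h1 : ∀ x ∈ R, i₀ x ∈ P := fun x hx => by
      rw [← hi3]; exact mem_img_of_mem hx
    refine eq_of_le_of_card (img_le_iff.2 fun x hx => ?_) hκ.card_img.ge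
    rw [← hg₁R]
    exact mem_img_of_mem (mem_img_of_mem (h1 x hx))
  obtain ⟨κ, hκF, hκf⟩ := hκ.exists_aut hκimg
  obtain ⟨j, hj, hj1, hj2⟩ := hFr₁.inverse hA hTS
  rw [hg₁R] at hj
  have hg₀m : ∀ x ∈ P, g₀ x ∈ R := fun x hx => by rw [← hg₀R]; exact mem_img_of_mem hx
  have h1 := (hFr₀.comp hA hTS (haut κ hκF) hg₀m).comp hA hTS hj
    (fun x hx => autFun_mem _ (hg₀m x hx))
  refine h1.congr fun x hx => ?_
  show j (autFun κ (g₀ x)) = f x
  rw [hκf _ (hg₀m x hx), hi1 x hx, hj1 _ (mem_img_of_mem hx)]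

theorem invariant_of_strong [Fact p.Prime] [Finite S] (hS : IsPGroup p S) (hF : F.IsSaturated p)
    (hT : F.StronglyClosed T) (hEF : E.IsSubsystemOf F) (hI : SInv F E) : E.IsInvariantIn F := by
  have hEF' := subsystem_iff.1 hEF
  rw [invariant_iff]
  exact ⟨hEF, hT, hI.aInv hT.1 hEF', fun P f hP hf =>
    hI.frattini hS hF hT hEF' _ P f hP hf le_rfl⟩

theorem strong_of_invariant [Finite S] (h : E.IsInvariantIn F) : SInv F E := by
  obtain ⟨hEF, hT, hA, hFr⟩ := invariant_iff.1 h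
  intro P Q f h hPQ hQT hf hfQ hh
  have hEF' := subsystem_iff.1 hEF
  obtain ⟨α, hα, g, hg, h1⟩ := hFr Q h hQT hh
  -- g f g⁻¹ on g(P)
  obtain ⟨i, hi, hi1, hi2, hi3⟩ := (hg.mono hPQ).inverse
  have him : ∀ x ∈ img P g, i x ∈ P := fun x hx => by rw [← hi3]; exact mem_img_of_mem hx
  have hc : Mor E (img P g) (fun x => g (f (i x))) :=
    (hi.comp hf him).comp hg (fun x hx => hfQ _ (him x hx))
  obtain ⟨k, hk, h2⟩ := hA _ _ hc α hα
  have himg : img (img P g) (autFun α) = img P h := by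
    rw [(hg.mono hPQ).img_comp]
    exact img_congr fun x hx => (h1 x (hPQ hx)).symm
  rw [himg] at hk
  refine ⟨k, hk, fun x hx => ?_⟩
  rw [h1 x (hPQ hx), h2 _ (mem_img_of_mem hx), hi1 x hx, h1 _ (hfQ x hx)]

end Cfsg.Agent.H13
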