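import Mathlib
import Cfsg.Agent.H28.FusInv
import Cfsg.Agent.H28.FusInner
import Cfsg.Agent.H28.FusNormal2

/-!
# Normal subgroups and weakly normal subsystems
-/

set_option autoImplicit false
set_option linter.all false
open Cfsg Cfsg.FusionSystem

namespace Cfsg.Agent.H13

open Cfsg.Agent.H28

variable {Ω : Type*} [Group Ω] {S T : Subgroup Ω} {F : FusionSystem S} {E : FusionSystem T} {p : ℕ}

/-- if every map on a subgroup of the strongly closed `Q` preserves every characteristic subgroup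
of `Q`, then `Q` is normal. -/
theorem normal_of_char_sc [Fact p.Prime] [Finite S] (hS : IsPGroup p S) (hF : F.IsSaturated p)
    {Q : Subgroup Ω} (hQS : Q ≤ S)
    (h : ∀ U : Subgroup Ω, U ≤ Q → (U.subgroupOf Q).Characteristic → F.StronglyClosed U) :
    F.IsNormal Q := by
  exact normal_of_lcs hS hF hQS fun n => h _ (Subgroup.lowerCentralSeries_le_self Q n) (lcs_characteristic Q n)

theorem normal_iff_inner_weaklyNormal [Fact p.Prime] [Finite S] (hS : IsPGroup p S) (hF : F.IsSaturated p)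
    {Q : Subgroup Ω} (hQ : Q ≤ S) : F.IsNormal Q ↔ (innerFusionSystem Q).IsWeaklyNormalIn F p := by
  haveI : Finite Q := finite_of_le hQ
  constructor
  · intro h
    refine ⟨inner_saturated (isPGroup_of_le hS hQ), hF, ?_⟩
    rw [invariant_iff]
    refine ⟨?_, normal_stronglyClosed h, ?_, ?_⟩
    · rw [subsystem_iff]
      intro P f hf
      obtain ⟨hP, g, hg, hh⟩ := mor_inner.1 hf
      exact (mor_conj (hP.trans hQ) (hQ hg)).congr fun x hx => (hh x hx).symm
    · intro P f hf α hα
      obtain ⟨hP, g, hg, hh⟩ := mor_inner.1 hf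
      have hm := mor_autFun (F := F) hQ hα
      refine ⟨fun y => autFun α g * y * (autFun α g)⁻¹, ?_, ?_⟩
      · rw [mor_inner]
        refine ⟨?_, autFun α g, autFun_mem α hg, fun x hx => rfl⟩
        rw [img_le_iff]
        intro x hx; exact autFun_mem α (hP hx)
      · intro x hx
        rw [hh x hx, hm.conj hg (hP hx)]
    · intro P f hPQ hf
      obtain ⟨-, hn⟩ := isNormal_iff.1 h
      obtain ⟨g, hg, hgf, him⟩ := hn P f hf
      obtain ⟨α, hα, hh⟩ := (hg.mono (le_sup_right : Q ≤ P ⊔ Q)).exists_aut him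
      exact ⟨α, hα, fun x => x, mor_self hPQ, fun x hx => by rw [hh x (hPQ hx), hgf x hx]⟩
  · intro h
    obtain ⟨-, hsc, -, hfr⟩ := invariant_iff.1 h.2.2
    refine normal_of_char_sc hS hF hQ fun U hUQ hU => ?_
    rw [stronglyClosed_iff]
    refine ⟨hUQ.trans hQ, fun R f hR hf x hx => ?_⟩
    obtain ⟨α, hα, g, hg, hh⟩ := hfr R f (hR.trans hUQ) hf
    obtain ⟨-, q, hq, hgq⟩ := mor_inner.1 hg
    rw [hh x hx, hgq x hx]
    have hxU : x ∈ U := hR hx
    have h1 : q * x * q⁻¹ ∈ U := by
      have hUn : (U.subgroupOf Q).Normal := inferInstance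
      exact hUn.conj_mem (⟨x, hUQ hxU⟩ : Q) hxU ⟨q, hq⟩
    have h2 := img_characteristic hU hUQ α
    rw [← h2]
    exact mem_img_of_mem h1

/-- the conjugates under `Aut_F(T)` of a subgroup normal in an invariant subsystem are normal in it. -/
theorem normal_img_of_invariant (hE : E.IsInvariantIn F) {R : Subgroup Ω} (hR : E.IsNormal R)
    {α : MulAut T} (hα : α ∈ F.autGroup T) : E.IsNormal (img R (autFun α)) := by
  obtain ⟨hsub, hsc, hinv, -⟩ := invariant_iff.1 hE
  have hTS : T ≤ S := subsystem_le hsub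
  have hRT : R ≤ T := normal_le hR
  have hm := mor_autFun (F := F) hTS hα
  have hm' := mor_autFun (F := F) hTS (Subgroup.inv_mem _ hα)
  rw [isNormal_iff]
  refine ⟨?_, ?_⟩
  · rw [img_le_iff]; intro x hx; exact autFun_mem α (hRT hx)
  intro P f hf
  have hPT : P ≤ T := hf.le
  have hfT : ∀ x ∈ P, f x ∈ T := fun x hx => hf.mem hx
  -- transport by `α⁻¹`
  obtain ⟨f', hf', hff⟩ := hinv P f hf α⁻¹ (Subgroup.inv_mem _ hα)
  obtain ⟨g', hg', hgf, hgR⟩ := (isNormal_iff.1 hR).2 _ f' hf'
  -- transport back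
  obtain ⟨g, hg, hgg⟩ := hinv _ g' hg' α hα
  have hW : img (img P (autFun α⁻¹) ⊔ R) (autFun α) = P ⊔ img R (autFun α) := by
    have h1 : img P (autFun α⁻¹) ≤ T := by
      rw [img_le_iff]; intro x hx; exact autFun_mem _ (hPT hx)
    rw [(hm.mono (sup_le h1 hRT)).img_sup]
    congr 1
    have h2 : img (img P (autFun α⁻¹)) (autFun α) = img P (fun x => autFun α (autFun α⁻¹ x)) :=
      (hm'.mono hPT).img_comp
    rw [h2]
    exact img_id' fun x hx => autFun_apply_inv α (hPT hx)
  refine ⟨g, by rw [← hW]; exact hg, ?_, ?_⟩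
  · intro x hx
    have hx' : autFun α⁻¹ x ∈ img P (autFun α⁻¹) := mem_img_of_mem hx
    have e1 := hgg (autFun α⁻¹ x) (Subgroup.mem_sup_left hx')
    rw [autFun_apply_inv α (hPT hx), hgf _ hx', hff x hx, autFun_apply_inv α (hfT x hx)] at e1
    exact e1
  · apply le_antisymm
    · rw [img_le_iff]
      intro y hy
      obtain ⟨r, hr, rfl⟩ := ((hm.mono hRT).mem_img).1 hy
      have e1 := hgg r (Subgroup.mem_sup_right hr)
      rw [e1]
      apply mem_img_of_mem
      rw [← hgR]; exact mem_img_of_mem hr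
    · rw [img_le_iff]
      intro r hr
      rw [← hgR] at hr
      obtain ⟨s, hs, rfl⟩ := ((hg'.mono le_sup_right).mem_img).1 hr
      rw [← hgg s (Subgroup.mem_sup_right hs)]
      exact mem_img_of_mem (mem_img_of_mem hs)

theorem normal_closure_of_weaklyNormal [Fact p.Prime] [Finite S] (hS : IsPGroup p S)
    (hE : E.IsWeaklyNormalIn F p) {R : Subgroup Ω} (hR : E.IsNormal R) :
    F.IsNormal (Subgroup.closure {x : Ω | ∃ φ ∈ F.Hom R, ∃ r : R, x = φ r}) := by
  obtain ⟨hEs, hF, hinvE⟩ := hE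
  obtain ⟨hsub, hsc, hinv, hfr⟩ := invariant_iff.1 hinvE
  have hTS : T ≤ S := subsystem_le hsub
  haveI : Finite T := finite_of_le hTS
  have hRT : R ≤ T := normal_le hR
  set Q := Subgroup.closure {x : Ω | ∃ φ ∈ F.Hom R, ∃ r : R, x = φ r} with hQ
  -- each `φ(R)` is `α(R)`
  have himg : ∀ f, Mor F R f → ∃ α ∈ F.autGroup T, img R f = img R (autFun α) := by
    intro f hf
    obtain ⟨α, hα, g, hg, hh⟩ := hfr R f hRT hf
    refine ⟨α, hα, ?_⟩
    have h1 : img R g = R := by
      obtain ⟨g', hg', hgg, him⟩ := (isNormal_iff.1 hR).2 R g hg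
      exact (img_congr fun x hx => (hgg x hx).symm).trans him
    rw [img_congr hh]
    have h2 := (hg).img_comp (g := autFun α)
    rw [h1] at h2
    exact h2.symm
  have hQT : Q ≤ T := by
    rw [hQ, Subgroup.closure_le]
    rintro _ ⟨φ, hφ, r, rfl⟩
    have := mor_toFun hφ
    have h2 := sc_apply hsc this r.2 (hRT r.2)
    rwa [toFun_coe] at h2
  have hgen : ∀ f, Mor F R f → img R f ≤ Q := by
    intro f hf
    rw [img_le_iff]
    intro x hx
    obtain ⟨φ, hφ, h⟩ := hf
    exact Subgroup.subset_closure ⟨φ, hφ, ⟨x, hx⟩, (h ⟨x, hx⟩).symm⟩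
  -- `Q` is normal in `E`
  have hQE : E.IsNormal Q := by
    have h1 := sSup_mem_of_finite (S := T) (X := {U | E.IsNormal U ∧ U ≤ Q})
      ⟨isNormal_bot, bot_le⟩ (fun U hU => normal_le hU.1)
      (fun U hU V hV => ⟨isNormal_sup hU.1 hV.1, sup_le hU.2 hV.2⟩)
    have h2 : sSup {U | E.IsNormal U ∧ U ≤ Q} = Q := by
      apply le_antisymm h1.2
      rw [hQ, Subgroup.closure_le]
      rintro _ ⟨φ, hφ, r, rfl⟩
      have hm := mor_toFun hφ
      obtain ⟨α, hα, him⟩ := himg _ hm
      have h3 : img R (toFun φ) ∈ {U | E.IsNormal U ∧ U ≤ Q} :=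
        ⟨by rw [him]; exact normal_img_of_invariant hinvE hR hα, hgen _ hm⟩
      have h4 : φ r ∈ img R (toFun φ) := by
        rw [← toFun_coe]; exact mem_img_of_mem r.2
      exact (le_sSup h3) h4
    rw [h2] at h1
    exact h1.1
  -- `Q` is invariant under `Aut_F(T)`
  have hQα : ∀ α ∈ F.autGroup T, img Q (autFun α) = Q := by
    intro α hα
    have hm := mor_autFun (F := F) hTS hα
    have hle : img Q (autFun α) ≤ Q := by
      rw [img_le_iff]
      intro x hx
      rw [hQ] at hx
      induction hx using Subgroup.closure_induction with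
      | mem x hx =>
        obtain ⟨φ, hφ, r, rfl⟩ := hx
        have h1 := (mor_toFun hφ)
        have hφT : ∀ x ∈ R, toFun φ x ∈ T := fun x hx => sc_apply hsc h1 hx (hRT hx)
        have h2 := h1.comp hm hφT
        have h3 := hgen _ h2
        rw [img_le_iff] at h3
        have h4 := h3 r r.2
        rwa [toFun_coe] at h4
      | one => rw [hm.one]; exact one_mem _
      | mul x y hx hy h1 h2 =>
        rw [hm.mul (hQT hx) (hQT hy)]; exact mul_mem h1 h2
      | inv x hx h1 => rw [hm.inv (hQT hx)]; exact inv_mem h1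
    haveI : Finite Q := finite_of_le hQT
    exact eq_of_le_of_card hle (by rw [(hm.mono hQT).card_img])
  refine normal_of_char_sc hS hF (hQT.trans hTS) fun U hUQ hU => ?_
  have hUE : E.StronglyClosed U := normal_stronglyClosed (normal_of_characteristic hQE hUQ hU)
  rw [stronglyClosed_iff]
  refine ⟨hUQ.trans (hQT.trans hTS), fun W f hW hf x hx => ?_⟩
  obtain ⟨α, hα, g, hg, hh⟩ := hfr W f (hW.trans (hUQ.trans hQT)) hf
  rw [hh x hx]
  have h1 : g x ∈ U := sc_apply hUE hg hx (hW hx)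
  have hm := mor_autFun (F := F) hTS hα
  obtain ⟨β, hβ, hh'⟩ := (hm.mono hQT).exists_aut (hQα α hα)
  rw [← hh' _ (hUQ h1)]
  have h2 := img_characteristic hU hUQ β
  rw [← h2]
  exact mem_img_of_mem h1

end Cfsg.Agent.H13
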