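import Mathlib

set_option autoImplicit false
set_option linter.style.haveILetI false
set_option linter.unusedSectionVars false

/-!
# Galois descent count

A finite commutative ring `A` with a group `E` of automorphisms, a Galois system, and `A^E` a
field: then for every finite `A`-module `W` with compatible `E`-action, `|W| = |W^E| ^ |E|`.
-/

namespace Cfsg.Agent.H13

section

variable (A E W : Type*) [CommRing A] [Finite A] [Nontrivial A] [Group E] [Fintype E]
  [MulSemiringAction E A] [AddCommGroup W] [Finite W] [Module A W] [DistribMulAction E W]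

/-- fixed subring -/
def fixSub : Subring A where
  carrier := {a | ∀ e : E, e • a = a}
  mul_mem' := by
    intro a b ha hb e
    rw [smul_mul', ha e, hb e]
  one_mem' := by intro e; exact smul_one e
  add_mem' := by
    intro a b ha hb e
    rw [smul_add, ha e, hb e]
  zero_mem' := by intro e; exact smul_zero e
  neg_mem' := by
    intro a ha e
    rw [smul_neg, ha e]

open Classical in
theorem galois_count {ι : Type*} [Fintype ι] (x y : ι → A) (n : ℕ)
    (hxy : ∀ e : E, ∑ u, x u * (e • y u) = if e = 1 then (n : A) else 0)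
    (hnA : n.Coprime (Nat.card A))
    (hcompat : ∀ (e : E) (a : A) (w : W), e • (a • w) = (e • a) • (e • w))
    (hfield : IsField (fixSub A E)) :
    Nat.card W = Nat.card {w : W // ∀ e : E, e • w = w} ^ Fintype.card E := by
  letI := hfield.toField
  -- n is a unit in A
  obtain ⟨ν, hν⟩ : ∃ ν : A, ν * (n : A) = 1 := by
    have h0 : ((Nat.card A : ℕ) : A) = 0 := by
      haveI : Fintype A := Fintype.ofFinite A
      rw [Nat.card_eq_fintype_card]
      exact Nat.cast_card_eq_zero A
    refine ⟨((Nat.gcdA n (Nat.card A) : ℤ) : A), ?_⟩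
    have h1 := Nat.gcd_eq_gcd_ab n (Nat.card A)
    rw [hnA] at h1
    have h2 := congrArg (fun z : ℤ => (z : A)) h1
    simp only [Nat.cast_one, Int.cast_one, Int.cast_add, Int.cast_mul, Int.cast_natCast, h0,
      zero_mul, add_zero] at h2
    rw [mul_comm, ← h2]
  have hinjW : ∀ w : W, (n : A) • w = 0 → w = 0 := by
    intro w hw
    have : w = ν • ((n : A) • w) := by rw [smul_smul, hν, one_smul]
    rw [this, hw, smul_zero]
  have hsurjW : ∀ w : W, ∃ w', (n : A) • w' = w := by
    intro w
    exact ⟨ν • w, by rw [smul_smul, mul_comm, hν, one_smul]⟩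
  let K := fixSub A E
  let b := Module.finBasis K A
  set d := Module.finrank K A with hd
  let c : ι → Fin d → A := fun u j => ((b.repr (y u) j : K) : A)
  have hc : ∀ u j (e : E), e • c u j = c u j := fun u j e => (b.repr (y u) j : K).2 e
  have hy : ∀ u, y u = ∑ j, c u j * b j := by
    intro u
    conv_lhs => rw [← b.sum_repr (y u)]
    rfl
  let ψ : Fin d → A := fun j => ∑ u, x u * c u j
  have h1 : ∀ e : E, ∑ j, ψ j * (e • b j) = if e = 1 then (n : A) else 0 := by
    intro e
    rw [← hxy e]
    simp only [ψ, Finset.sum_mul]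
    rw [Finset.sum_comm]
    refine Finset.sum_congr rfl fun u _ => ?_
    conv_rhs => rw [hy u]
    rw [Finset.smul_sum, Finset.mul_sum]
    refine Finset.sum_congr rfl fun j _ => ?_
    rw [smul_mul', hc, mul_assoc]
  have hsmuln : ∀ e : E, e • (n : A) = (n : A) := by
    intro e
    have := map_natCast (MulSemiringAction.toRingHom E A e) n
    exact this
  have h1' : ∀ e e' : E, ∑ j, (e' • ψ j) * (e • b j) = if e = e' then (n : A) else 0 := by
    intro e e'
    have h2 := congrArg (fun z => e' • z) (h1 (e'⁻¹ * e))
    simp only [Finset.smul_sum, smul_mul'] at h2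
    have h3 : ∀ j, e' • (e'⁻¹ * e) • b j = e • b j := by
      intro j
      rw [smul_smul, mul_inv_cancel_left]
    simp only [h3] at h2
    rw [h2]
    by_cases he : e = e'
    · rw [if_pos he, if_pos (by rw [he, inv_mul_cancel]), hsmuln]
    · rw [if_neg he, if_neg (by
        intro h4
        exact he (inv_mul_eq_one.1 h4).symm), smul_zero]
  -- the trace
  have htr : ∀ a : A, (∑ e : E, e • a) ∈ fixSub A E := by
    intro a e
    rw [Finset.smul_sum]
    simp only [smul_smul]
    exact Fintype.sum_equiv (Equiv.mulLeft e) _ _ (fun _ => rfl)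
  have h2 : ∀ i j, ∑ e : E, e • (ψ i * b j) = if i = j then (n : A) else 0 := by
    intro i j
    have h3 : (n : A) * b j = ∑ l, (∑ e : E, e • (ψ l * b j)) * b l := by
      have h4 : ∀ e : E, ∑ l, (e • ψ l) * b l = if e = 1 then (n : A) else 0 := by
        intro e
        have := h1' 1 e
        simp only [one_smul] at this
        rw [this]
        by_cases he : e = 1
        · rw [if_pos he, if_pos he.symm]
        · rw [if_neg he, if_neg (Ne.symm he)]
      have h5 : ∑ l, (∑ e : E, e • (ψ l * b j)) * b l =
          ∑ e : E, (∑ l, (e • ψ l) * b l) * (e • b j) := by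
        simp only [Finset.sum_mul, smul_mul']
        rw [Finset.sum_comm]
        refine Finset.sum_congr rfl fun e _ => Finset.sum_congr rfl fun l _ => ?_
        ring
      rw [h5]
      simp only [h4, ite_mul, zero_mul, Finset.sum_ite_eq', Finset.mem_univ, if_true, one_smul]
    -- compare coordinates
    have h6 : b.repr ((n : A) * b j) = ∑ l, (⟨_, htr (ψ l * b j)⟩ : K) • Finsupp.single l 1 := by
      rw [h3, map_sum]
      refine Finset.sum_congr rfl fun l _ => ?_
      have : (∑ e : E, e • (ψ l * b j)) * b l = (⟨_, htr (ψ l * b j)⟩ : K) • b l := rfl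
      rw [this, map_smul, b.repr_self]
    have h7 : (n : A) * b j = ((n : ℕ) : K) • b j := by
      have : (((n : ℕ) : K) : A) = (n : A) := by simp
      rw [← this]
      rfl
    rw [h7, map_smul, b.repr_self] at h6
    have h8 := congrArg (fun f => ((f i : K) : A)) h6
    simp only [Finsupp.smul_single, Finsupp.finsetSum_apply, smul_eq_mul, mul_one] at h8
    have h9 : ∀ l, ((Finsupp.single l (⟨_, htr (ψ l * b j)⟩ : K)) i) =
        if l = i then (⟨_, htr (ψ l * b j)⟩ : K) else 0 := by
      intro l
      rw [Finsupp.single_apply]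
    simp only [h9, Finset.sum_ite_eq', Finset.mem_univ, if_true] at h8
    rw [← h8, Finsupp.single_apply]
    by_cases hij : i = j
    · rw [if_pos hij, if_pos hij.symm]; simp
    · rw [if_neg hij, if_neg (Ne.symm hij)]; rfl
  -- cardinalities
  have htrW : ∀ w : W, ∀ e' : E, e' • (∑ e : E, e • w) = ∑ e : E, e • w := by
    intro w e'
    rw [Finset.smul_sum]
    simp only [smul_smul]
    exact Fintype.sum_equiv (Equiv.mulLeft e') _ _ (fun _ => rfl)
  let Θ : (Fin d → {w : W // ∀ e : E, e • w = w}) → W := fun w => ∑ j, b j • (w j : W)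
  have hΘ1 : ∀ (w : Fin d → {w : W // ∀ e : E, e • w = w}) i,
      ∑ e : E, e • (ψ i • Θ w) = (n : A) • (w i : W) := by
    intro w i
    have : ∀ e : E, e • (ψ i • Θ w) = ∑ j, (e • (ψ i * b j)) • (w j : W) := by
      intro e
      simp only [Θ, Finset.smul_sum]
      refine Finset.sum_congr rfl fun j _ => ?_
      rw [smul_smul (ψ i) (b j), hcompat, (w j).2 e]
    simp only [this]
    rw [Finset.sum_comm]
    simp only [← Finset.sum_smul, h2, ite_smul, zero_smul, Finset.sum_ite_eq, Finset.mem_univ,
      if_true]
  have hΘ2 : ∀ w : W, ∑ j, b j • (∑ e : E, e • (ψ j • w)) = (n : A) • w := by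
    intro w
    have h4 : ∀ e : E, ∑ l, (e • ψ l) * b l = if e = 1 then (n : A) else 0 := by
      intro e
      have := h1' 1 e
      simp only [one_smul] at this
      rw [this]
      by_cases he : e = 1
      · rw [if_pos he, if_pos he.symm]
      · rw [if_neg he, if_neg (Ne.symm he)]
    have : ∑ j, b j • (∑ e : E, e • (ψ j • w)) = ∑ e : E, (∑ l, (e • ψ l) * b l) • (e • w) := by
      simp only [Finset.smul_sum, Finset.sum_smul]
      rw [Finset.sum_comm]
      refine Finset.sum_congr rfl fun e _ => Finset.sum_congr rfl fun l _ => ?_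
      rw [hcompat, smul_smul, mul_comm]
    rw [this]
    simp only [h4, ite_smul, zero_smul, Finset.sum_ite_eq', Finset.mem_univ, if_true, one_smul]
  have hΘinj : Function.Injective Θ := by
    intro w w' hww
    funext i
    apply Subtype.ext
    have h3 := hΘ1 w i
    rw [hww, hΘ1 w' i] at h3
    have h4 : (n : A) • ((w i : W) - (w' i : W)) = 0 := by
      rw [smul_sub, h3, sub_self]
    exact sub_eq_zero.1 (hinjW _ h4)
  have hΘsurj : Function.Surjective Θ := by
    intro w
    obtain ⟨w', hw'⟩ := hsurjW w
    refine ⟨fun j => ⟨∑ e : E, e • (ψ j • w'), htrW _⟩, ?_⟩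
    rw [← hw', ← hΘ2 w']
  have hcard := Nat.card_congr (Equiv.ofBijective Θ ⟨hΘinj, hΘsurj⟩)
  have hdE : Fintype.card E = d := by
    have := Matrix.square_of_invertible (n := E) (m := Fin d) (R := A)
      (Matrix.of fun e j => e • b j) (Matrix.of fun j e => ν * (e • ψ j)) (by
        ext e e'
        rw [Matrix.mul_apply, Matrix.one_apply]
        have h3 : ∀ j, (Matrix.of fun e j => e • b j : Matrix E (Fin d) A) e j *
          (Matrix.of fun j e => ν * (e • ψ j) : Matrix (Fin d) E A) j e' =
          ν * ((e' • ψ j) * (e • b j)) := by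
          intro j
          simp only [Matrix.of_apply]
          ring
        simp only [h3]
        rw [← Finset.mul_sum, h1']
        by_cases he : e = e'
        · rw [if_pos he, if_pos he, hν]
        · rw [if_neg he, if_neg he, mul_zero]) (by
        ext i j
        rw [Matrix.mul_apply, Matrix.one_apply]
        have h3 : ∀ e, (Matrix.of fun j e => ν * (e • ψ j) : Matrix (Fin d) E A) i e *
          (Matrix.of fun e j => e • b j : Matrix E (Fin d) A) e j =
          ν * (e • (ψ i * b j)) := by
          intro e
          simp only [Matrix.of_apply, smul_mul']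
          ring
        simp only [h3]
        rw [← Finset.mul_sum, h2]
        by_cases he : i = j
        · rw [if_pos he, if_pos he, hν]
        · rw [if_neg he, if_neg he, mul_zero])
    rwa [Fintype.card_fin] at this
  rw [← hcard, Nat.card_fun, Nat.card_fin, hdE]

end

section

variable {W U E : Type*} [AddCommGroup W] [Finite W] [Nontrivial W] [CommGroup U] [Fintype U]
  [Group E] [Fintype E]

set_option maxHeartbeats 1000000 in
open Classical in
theorem irr_count (ρ : U →* AddMonoid.End W) (τ : E →* AddMonoid.End W) (α : E →* MulAut U)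
    (hα : ∀ e u, τ e * ρ u = ρ (α e u) * τ e) (hfpf : ∀ e, e ≠ 1 → ∀ u, α e u = u → u = 1)
    (hC : ∀ w, (∀ u, ρ u w = w) → w = 0)
    (hirr : ∀ S : AddSubgroup W, (∀ u, ∀ s ∈ S, ρ u s ∈ S) → (∀ e, ∀ s ∈ S, τ e s ∈ S) →
      S = ⊥ ∨ S = ⊤)
    (hcop : (Nat.card U).Coprime (Nat.card W)) :
    Nat.card W = Nat.card {w : W // ∀ e : E, τ e w = w} ^ Fintype.card E := by
  have hτ1 : ∀ e, τ e * τ e⁻¹ = 1 := fun e => by rw [← map_mul, mul_inv_cancel, map_one]
  have hτ2 : ∀ e, τ e⁻¹ * τ e = 1 := fun e => by rw [← map_mul, inv_mul_cancel, map_one]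
  let A := Subring.closure (Set.range ρ)
  haveI hAc : IsMulCommutative A := Subring.isMulCommutative_closure (by
    rintro _ ⟨u, rfl⟩ _ ⟨v, rfl⟩
    rw [← map_mul, ← map_mul, mul_comm])
  letI : CommRing A := { (inferInstance : Ring A) with mul_comm := hAc.is_comm.comm }
  haveI : Finite (AddMonoid.End W) := Finite.of_injective (fun f : AddMonoid.End W => (f : W → W))
    DFunLike.coe_injective
  haveI : Finite A := inferInstance
  -- conjugation
  let cj : E → (AddMonoid.End W →+* AddMonoid.End W) := fun e =>
    { toFun := fun a => τ e * a * τ e⁻¹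
      map_one' := by rw [mul_one, hτ1]
      map_mul' := by
        intro a b
        calc τ e * (a * b) * τ e⁻¹ = τ e * a * 1 * b * τ e⁻¹ := by simp only [mul_assoc, one_mul]
          _ = τ e * a * (τ e⁻¹ * τ e) * b * τ e⁻¹ := by rw [hτ2]
          _ = τ e * a * τ e⁻¹ * (τ e * b * τ e⁻¹) := by simp only [mul_assoc]
      map_zero' := by rw [mul_zero, zero_mul]
      map_add' := by intro a b; rw [mul_add, add_mul] }
  have hcj : ∀ e a, cj e a = τ e * a * τ e⁻¹ := fun _ _ => rfl
  have hcjρ : ∀ e u, cj e (ρ u) = ρ (α e u) := by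
    intro e u
    rw [hcj, hα, mul_assoc, hτ1, mul_one]
  have hcjA : ∀ e a, a ∈ A → cj e a ∈ A := by
    intro e a ha
    have h1 : cj e a ∈ A.map (cj e) := ⟨a, ha, rfl⟩
    have h2 : A.map (cj e) ≤ A := by
      rw [RingHom.map_closure]
      rw [Subring.closure_le]
      rintro _ ⟨_, ⟨u, rfl⟩, rfl⟩
      rw [hcjρ]
      exact Subring.subset_closure ⟨_, rfl⟩
    exact h2 h1
  letI act : MulSemiringAction E A :=
    { smul := fun e a => ⟨cj e a, hcjA e a a.2⟩
      one_smul := by
        intro a
        apply Subtype.ext
        change τ 1 * (a : AddMonoid.End W) * τ 1⁻¹ = a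
        rw [inv_one, map_one, one_mul, mul_one]
      mul_smul := by
        intro e e' a
        apply Subtype.ext
        change τ (e * e') * (a : AddMonoid.End W) * τ (e * e')⁻¹ =
          τ e * (τ e' * (a : AddMonoid.End W) * τ e'⁻¹) * τ e⁻¹
        rw [mul_inv_rev, map_mul, map_mul]
        simp only [mul_assoc]
      smul_zero := by
        intro e
        apply Subtype.ext
        exact map_zero (cj e)
      smul_add := by
        intro e a b
        apply Subtype.ext
        exact map_add (cj e) _ _
      smul_one := by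
        intro e
        apply Subtype.ext
        exact map_one (cj e)
      smul_mul := by
        intro e a b
        apply Subtype.ext
        exact map_mul (cj e) _ _ }
  have hact : ∀ (e : E) (a : A), ((e • a : A) : AddMonoid.End W) = τ e * a * τ e⁻¹ :=
    fun _ _ => rfl
  letI actW : DistribMulAction E W :=
    { smul := fun e w => τ e w
      one_smul := by
        intro w
        change τ 1 w = w
        rw [map_one]; rfl
      mul_smul := by
        intro e e' w
        change τ (e * e') w = τ e (τ e' w)
        rw [map_mul]; rfl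
      smul_zero := fun e => map_zero (τ e)
      smul_add := fun e => map_add (τ e) }
  have hactW : ∀ (e : E) (w : W), e • w = τ e w := fun _ _ => rfl
  haveI : Nontrivial A := by
    refine ⟨⟨0, 1, ?_⟩⟩
    intro h
    obtain ⟨w, hw⟩ := exists_ne (0 : W)
    have h1 := congrArg (fun a : A => (a : AddMonoid.End W) w) h
    exact hw h1.symm
  have hsmul : ∀ (a : A) (w : W), a • w = (a : AddMonoid.End W) w := fun _ _ => rfl
  have hWcard : ∀ w : W, Nat.card W • w = 0 := by
    intro w
    exact addOrderOf_dvd_iff_nsmul_eq_zero.1 (addOrderOf_dvd_natCard w)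
  -- n coprime to |A|
  have hnA : (Fintype.card U).Coprime (Nat.card A) := by
    -- every prime dividing |A| divides |W|
    rw [← Nat.card_eq_fintype_card]
    rw [Nat.coprime_iff_gcd_eq_one]
    by_contra hne
    obtain ⟨r, hr, hrd⟩ := Nat.exists_prime_and_dvd hne
    have h1 : r ∣ Nat.card A := hrd.trans (Nat.gcd_dvd_right _ _)
    have h2 : r ∣ Nat.card U := hrd.trans (Nat.gcd_dvd_left _ _)
    haveI : Fact r.Prime := ⟨hr⟩
    obtain ⟨a, ha⟩ := exists_prime_addOrderOf_dvd_card' (G := A) r h1
    -- a ≠ 0, r a = 0; |W| a = 0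
    have h3 : (Nat.card W) • a = 0 := by
      apply Subtype.ext
      apply AddMonoidHom.ext
      intro w
      have : (((Nat.card W) • a : A) : AddMonoid.End W) w =
        (Nat.card W) • ((a : AddMonoid.End W) w) := rfl
      exact this.trans ((hWcard _).trans rfl)
    have h4 : addOrderOf a ∣ Nat.card W := addOrderOf_dvd_of_nsmul_eq_zero h3
    rw [ha] at h4
    have h5 := Nat.dvd_gcd h2 h4
    rw [hcop] at h5
    exact hr.one_lt.ne' (Nat.dvd_one.1 h5)
  -- the norm element vanishes
  have hN : ∑ v : U, ρ v = 0 := by
    apply AddMonoidHom.ext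
    intro w
    apply hC
    intro u
    have h1 : ρ u * ∑ v : U, ρ v = ∑ v : U, ρ v := by
      rw [Finset.mul_sum]
      simp only [← map_mul]
      exact Fintype.sum_equiv (Equiv.mulLeft u) _ _ (fun _ => rfl)
    have h2 := congrArg (fun f : AddMonoid.End W => f w) h1
    exact h2
  let ρA : U → A := fun u => ⟨ρ u, Subring.subset_closure ⟨u, rfl⟩⟩
  have hcoeSum : ∀ f : U → A, ((∑ u, f u : A) : AddMonoid.End W) = ∑ u, (f u : AddMonoid.End W) :=
    fun f => map_sum A.subtype f Finset.univ
  have hsys : ∀ e : E, ∑ u, ρA u⁻¹ * (e • ρA u) = if e = 1 then ((Fintype.card U : ℕ) : A) else 0 := by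
    intro e
    have h1 : ∀ u, ρA u⁻¹ * (e • ρA u) = ρA (u⁻¹ * α e u) := by
      intro u
      apply Subtype.ext
      change ρ u⁻¹ * cj e (ρ u) = ρ (u⁻¹ * α e u)
      rw [hcjρ, ← map_mul]
    simp only [h1]
    by_cases he : e = 1
    · rw [if_pos he]
      have h2 : ∀ u, ρA (u⁻¹ * α e u) = 1 := by
        intro u
        apply Subtype.ext
        change ρ (u⁻¹ * α e u) = 1
        rw [he, map_one, MulAut.one_apply, inv_mul_cancel, map_one]
      simp only [h2, Finset.sum_const, Finset.card_univ, nsmul_eq_mul, mul_one]
    · rw [if_neg he]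
      apply Subtype.ext
      rw [hcoeSum]
      change ∑ u, ρ (u⁻¹ * α e u) = 0
      have hinj : Function.Injective (fun u : U => u⁻¹ * α e u) := by
        intro u v huv
        simp only at huv
        have h3 : α e (v * u⁻¹) = v * u⁻¹ := by
          rw [map_mul, map_inv]
          have h4 : α e v = v * (u⁻¹ * α e u) := by rw [huv]; group
          rw [h4]
          group
        have h5 := hfpf e he _ h3
        exact (mul_inv_eq_one.1 h5).symm
      have hbij := (Finite.injective_iff_bijective.1 hinj)
      rw [← hN]
      exact Fintype.sum_bijective _ hbij _ _ (fun _ => rfl)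
  -- fixed subring is a field
  haveI hdom : IsDomain (fixSub A E) := by
    haveI : NoZeroDivisors (fixSub A E) := by
      refine ⟨?_⟩
      intro a b hab
      by_contra hne
      push Not at hne
      obtain ⟨ha, hb⟩ := hne
      -- kernel of a
      let f : AddMonoid.End W := ((a : A) : AddMonoid.End W)
      have hfρ : ∀ u, f * ρ u = ρ u * f := by
        intro u
        have := mul_comm (a : A) (ρA u)
        exact congrArg Subtype.val this
      have hfτ : ∀ e, f * τ e = τ e * f := by
        intro e
        have h1 : e • (a : A) = a := a.2 e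
        have h2 : τ e * f * τ e⁻¹ = f := congrArg Subtype.val h1
        calc f * τ e = (τ e * f * τ e⁻¹) * τ e := by rw [h2]
          _ = τ e * f * (τ e⁻¹ * τ e) := by simp only [mul_assoc]
          _ = τ e * f := by rw [hτ2, mul_one]
      rcases hirr (AddMonoidHom.ker (f : W →+ W)) (by
        intro u s hs
        have hs' : f s = 0 := hs
        have h1 : f (ρ u s) = ρ u (f s) := congrArg (fun g : AddMonoid.End W => g s) (hfρ u)
        have h2 : f (ρ u s) = 0 := by rw [h1, hs', map_zero]
        exact h2) (by
        intro e s hs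
        have hs' : f s = 0 := hs
        have h1 : f (τ e s) = τ e (f s) := congrArg (fun g : AddMonoid.End W => g s) (hfτ e)
        have h2 : f (τ e s) = 0 := by rw [h1, hs', map_zero]
        exact h2) with h | h
      · apply hb
        apply Subtype.ext
        apply Subtype.ext
        apply AddMonoidHom.ext
        intro w
        have h1 : f ((((b : A) : AddMonoid.End W)) w) = 0 := by
          have h2 : (((a * b : fixSub A E) : A) : AddMonoid.End W) w = 0 := by rw [hab]; rfl
          exact h2
        have h3 : (((b : A) : AddMonoid.End W)) w ∈ AddMonoidHom.ker (f : W →+ W) := h1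
        rw [h, AddSubgroup.mem_bot] at h3
        exact h3
      · apply ha
        apply Subtype.ext
        apply Subtype.ext
        apply AddMonoidHom.ext
        intro w
        have h3 : w ∈ AddMonoidHom.ker (f : W →+ W) := by rw [h]; trivial
        exact h3
    haveI : Nontrivial (fixSub A E) := ⟨⟨0, 1, fun h => zero_ne_one (congrArg Subtype.val h)⟩⟩
    exact NoZeroDivisors.to_isDomain _
  have hfield : IsField (fixSub A E) := Finite.isField_of_domain _
  exact galois_count A E W (fun u => ρA u⁻¹) ρA (Fintype.card U) hsys hnA (by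
    intro e a w
    rw [hactW, hsmul, hsmul, hactW, hact]
    have h1 : (τ e * (a : AddMonoid.End W) * τ e⁻¹) (τ e w) =
      ((τ e * (a : AddMonoid.End W)) * (τ e⁻¹ * τ e)) w := rfl
    rw [h1, hτ2, mul_one]
    rfl) hfield

end

end Cfsg.Agent.H13
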