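import Mathlib
import Cfsg.Agent.H13.ActSemi
import Cfsg.Agent.H10.OE7
import Cfsg.Agent.H2.OddSolv
import Cfsg.Agent.S0117
import Cfsg.Agent.H1.Chief

/-!
# Coprime action with all invariant proper subgroups nilpotent
-/

set_option autoImplicit false
set_option linter.all false

namespace Cfsg.Agent.H13

open Subgroup Cfsg
open scoped Pointwise

universe u

variable {X : Type u} [Group X] [Finite X]

theorem inf_le_normalizer {A B C : Subgroup X} (h1 : A ≤ normalizer (B : Set X))
    (h2 : A ≤ normalizer (C : Set X)) : A ≤ normalizer ((B ⊓ C : Subgroup X) : Set X) := by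
  refine H23.le_normalizer_of_conj_mem fun a ha g hg => ?_
  exact ⟨H23.mem_normalizer_conj h1 ha hg.1, H23.mem_normalizer_conj h2 ha hg.2⟩

theorem le_normalizer_normalizer {A B : Subgroup X} (h : A ≤ normalizer (B : Set X)) :
    A ≤ normalizer ((normalizer (B : Set X) : Subgroup X) : Set X) :=
  h.trans Subgroup.le_normalizer

theorem normal_of_sup {A G Z : Subgroup X} (hGA : G ⊔ A = ⊤) (hG : G ≤ normalizer (Z : Set X))
    (hA : A ≤ normalizer (Z : Set X)) : Z.Normal := by
  rw [← Subgroup.normalizer_eq_top_iff, eq_top_iff, ← hGA]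
  exact sup_le hG hA

theorem isPGroup_of_primes {H : Subgroup X} {p : ℕ} (hp : p.Prime)
    (h : ∀ q : ℕ, q.Prime → q ∣ Nat.card H → q = p) : IsPGroup p H :=
  IsPGroup.of_card (Nat.eq_prime_pow_of_unique_prime_dvd Nat.card_pos.ne' fun {d} hd hdd => h d hd hdd)

theorem simple_case (A G : Subgroup X) [G.Normal] (hGA : G ⊔ A = ⊤)
    (hcop : (Nat.card A).Coprime (Nat.card G))
    (hnil : ∀ H : Subgroup X, H < G → A ≤ normalizer (H : Set X) → Group.IsNilpotent H) (hG : G ≠ ⊥)
    (hsimple : ∀ M : Subgroup X, M.Normal → M ≤ G → M = ⊥ ∨ M = G) :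
    ∃ r : ℕ, r.Prime ∧ IsPGroup r G := by
  by_contra hcon
  have hcon' : ∀ r : ℕ, r.Prime → ¬ IsPGroup r G := fun r hr h => hcon ⟨r, hr, h⟩
  have hodd : ∃ p : ℕ, p.Prime ∧ p ∣ Nat.card G ∧ p ≠ 2 := by
    by_contra hh
    push Not at hh
    exact hcon' 2 Nat.prime_two (isPGroup_of_primes Nat.prime_two hh)
  obtain ⟨p, hp, hpG, hp2⟩ := hodd
  haveI : Fact p.Prime := ⟨hp⟩
  have hn : A ≤ normalizer (G : Set X) := by rw [Subgroup.normalizer_eq_top]; exact le_top
  obtain ⟨P, hP, hAP⟩ := H23.exists_invariant_sylow hn hcop (solvable_or_of_coprime hcop) p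
  have hPne : P ≠ ⊥ := by
    rintro rfl
    refine hP.not_dvd ?_
    rwa [Subgroup.relIndex_bot_left]
  set Z := centerThompsonOf p P with hZdef
  have hAZ : A ≤ normalizer (Z : Set X) := hAP.trans (H2.normalizer_le_normalizer_centerThompsonOf P)
  have hZP : Z ≤ P := H2.centerThompsonOf_le p P
  have hZG : Z ≤ G := hZP.trans hP.le
  have hZne : Z ≠ ⊥ := H10.zj_ne_bot hP.isPGroup hPne
  have hMne : G ⊓ normalizer (Z : Set X) ≠ G := by
    intro h
    have hZn : Z.Normal := normal_of_sup hGA (inf_eq_left.mp h) hAZ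
    rcases hsimple Z hZn hZG with h | h
    · exact hZne h
    · exact hcon' p hp (h ▸ hP.isPGroup.to_le hZP)
  have hMn : Group.IsNilpotent (G ⊓ normalizer (Z : Set X) : Subgroup X) :=
    hnil _ (lt_of_le_of_ne inf_le_left hMne) (inf_le_normalizer hn (le_normalizer_normalizer hAZ))
  obtain ⟨S, hS⟩ := id hP
  have hZS : (centerThompsonOf p (S : Subgroup G)).map G.subtype = Z := by
    rw [hZdef, ← hS]
    exact (H2.centerThompsonOf_map_of_injOn (p := p) (U := (S : Subgroup G)) (f := G.subtype)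
      (G.subtype_injective.comp (Subgroup.subtype_injective _))).symm
  have hNle : (normalizer ((centerThompsonOf p (S : Subgroup G) : Subgroup G) : Set G)).map G.subtype
      ≤ G ⊓ normalizer (Z : Set X) := by
    refine le_inf (Subgroup.map_subtype_le _) ?_
    refine H23.le_normalizer_of_conj_mem ?_
    rintro _ ⟨a, ha, rfl⟩ z hz
    rw [← hZS] at hz ⊢
    obtain ⟨w, hw, rfl⟩ := hz
    exact ⟨a * w * a⁻¹, (Subgroup.mem_normalizer_iff.mp ha w).mp hw, rfl⟩
  have hNnil : Group.IsNilpotent (normalizer ((centerThompsonOf p (S : Subgroup G) : Subgroup G) : Set G)) := by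
    have h1 := H1.isNilpotent_of_le hNle hMn
    exact H1.isNilpotent_of_equiv
      ((normalizer ((centerThompsonOf p (S : Subgroup G) : Subgroup G) : Set G)).equivMapOfInjective
        G.subtype G.subtype_injective).symm h1
  have hnpc : HasNormalPComplement p G :=
    (S0117.result hp2 S).mpr (H2.HasNormalPComplement.of_isNilpotent hNnil)
  obtain ⟨N, hNn, hNp, k, hNk⟩ := H2.hasNormalPComplement_iff.mp hnpc
  have hNle' : N ≤ pPrimeCore p G :=
    H1.le_pPrimeCore hNn ((Nat.Prime.coprime_iff_not_dvd hp).mpr hNp).symm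
  haveI : ((pPrimeCore p G).map G.subtype).Normal := inferInstance
  rcases hsimple _ this (Subgroup.map_subtype_le _) with h | h
  · rw [Subgroup.map_eq_bot_iff_of_injective _ G.subtype_injective] at h
    rw [h, le_bot_iff] at hNle'
    rw [hNle', Subgroup.index_bot] at hNk
    exact hcon' p hp (IsPGroup.of_card hNk)
  · have h1 := H1.pPrimeCore_coprime p G
    rw [← H1.card_map_subtype (pPrimeCore p G), h] at h1
    exact (Nat.Prime.coprime_iff_not_dvd hp).mp h1.symm hpG

theorem card_dvd_sup_left {H K : Subgroup X} : Nat.card H ∣ Nat.card (H ⊔ K : Subgroup X) :=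
  H1.card_dvd_of_le' le_sup_left

/-- in a nilpotent subgroup a Sylow subgroup is normalised. -/
theorem le_normalizer_of_nilpotent {H P : Subgroup X} {p : ℕ} [Fact p.Prime]
    (hH : Group.IsNilpotent H) (hP : H23.IsSylowOf p P H) : H ≤ normalizer (P : Set X) := by
  obtain ⟨S, rfl⟩ := hP
  have hn := H1.isNilpotent_iff_sylow_normal.mp hH p inferInstance S
  refine H23.le_normalizer_of_conj_mem ?_
  rintro a ha _ ⟨s, hs, rfl⟩
  exact ⟨⟨a, ha⟩ * s * ⟨a, ha⟩⁻¹, hn.conj_mem s hs _, rfl⟩

/-- and every automorphism of it (induced by conjugation) fixes the Sylow subgroup. -/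
theorem le_normalizer_of_nilpotent' {A H P : Subgroup X} {p : ℕ} [Fact p.Prime]
    (hA : A ≤ normalizer (H : Set X))
    (hH : Group.IsNilpotent H) (hP : H23.IsSylowOf p P H) : A ≤ normalizer (P : Set X) := by
  intro a ha
  have h1 := hP.conj (g := a) (hA ha)
  obtain ⟨g, hg, hh⟩ := hP.exists_conj h1
  rw [H1.mem_normalizer_iff_conj_smul, ← hh]
  exact (H1.mem_normalizer_iff_conj_smul).mp (le_normalizer_of_nilpotent hH hP hg)

theorem struct_aux (A G : Subgroup X) [G.Normal] (hGA : G ⊔ A = ⊤)
    (hcop : (Nat.card A).Coprime (Nat.card G))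
    (hnil : ∀ H : Subgroup X, H < G → A ≤ normalizer (H : Set X) → Group.IsNilpotent H)
    (hG : ¬ Group.IsNilpotent G) :
    ∃ q r : ℕ, q.Prime ∧ r.Prime ∧ q ≠ r ∧ ∃ Q R : Subgroup X, H23.IsSylowOf q Q G ∧
      H23.IsSylowOf r R G ∧ Q.Normal ∧ Q ⊔ R = G ∧ Q ≠ ⊥ := by
  have hn : ∀ H : Subgroup X, H.Normal → A ≤ normalizer (H : Set X) := fun H hH => by
    rw [Subgroup.normalizer_eq_top]; exact le_top
  have hGne : G ≠ ⊥ := by
    rintro rfl
    exact hG (inferInstance : Group.IsNilpotent (⊥ : Subgroup X))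
  obtain ⟨N, -, hN⟩ := (Set.toFinite {K : Subgroup X | K.Normal ∧ K < G}).exists_le_maximal
    (show (⊥ : Subgroup X) ∈ _ from ⟨inferInstance, bot_lt_iff_ne_bot.mpr hGne⟩)
  haveI hNn : N.Normal := hN.prop.1
  have hNG : N < G := hN.prop.2
  have hNnil : Group.IsNilpotent N := hnil N hNG (hn N hNn)
  -- the quotient
  set f := QuotientGroup.mk' N with hf
  have hfs : Function.Surjective f := QuotientGroup.mk'_surjective N
  haveI : (G.map f).Normal := Subgroup.Normal.map inferInstance f hfs
  have hr : ∃ r : ℕ, r.Prime ∧ IsPGroup r (G.map f) := by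
    refine simple_case (A.map f) (G.map f) ?_ ?_ ?_ ?_ ?_
    · rw [← Subgroup.map_sup, hGA, Subgroup.map_top_of_surjective f hfs]
    · exact (hcop.coprime_dvd_left (Subgroup.card_map_dvd A f)).coprime_dvd_right
        (Subgroup.card_map_dvd G f)
    · intro H hH hAH
      have h1 : (H.comap f).map f = H := Subgroup.map_comap_eq_self_of_surjective hfs H
      have h2 : Group.IsNilpotent (H.comap f) := by
        refine hnil _ ?_ ?_
        · have h3 : H.comap f < (G.map f).comap f := by
            refine lt_of_le_of_ne (Subgroup.comap_mono hH.le) fun h => hH.ne ?_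
            rw [← h1, h, Subgroup.map_comap_eq_self_of_surjective hfs]
          rwa [Subgroup.comap_map_eq, hf, QuotientGroup.ker_mk', sup_eq_left.mpr hNG.le] at h3
        · refine H23.le_normalizer_of_conj_mem fun a ha x hx => ?_
          rw [Subgroup.mem_comap] at hx ⊢
          rw [map_mul, map_mul, map_inv]
          exact H23.mem_normalizer_conj hAH (Subgroup.mem_map_of_mem f ha) hx
      rw [← h1]
      exact H1.isNilpotent_map f h2
    · rw [ne_eq, hf, H1.map_mk'_eq_bot_iff]
      exact not_le_of_gt hNG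
    · intro M hM hMG
      by_cases h : M = G.map f
      · exact Or.inr h
      · left
        have h1 : (M.comap f).map f = M := Subgroup.map_comap_eq_self_of_surjective hfs M
        have h2 : M.comap f < G := by
          have h3 : M.comap f < (G.map f).comap f := by
            refine lt_of_le_of_ne (Subgroup.comap_mono hMG) fun h' => h ?_
            rw [← h1, h', Subgroup.map_comap_eq_self_of_surjective hfs]
          rwa [Subgroup.comap_map_eq, hf, QuotientGroup.ker_mk', sup_eq_left.mpr hNG.le] at h3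
        have h3 : N ≤ M.comap f := H1.le_comap_mk' N M
        have h4 := hN.le_of_ge (⟨inferInstance, h2⟩ : (M.comap f).Normal ∧ M.comap f < G) h3
        rw [← h1, hf, H1.map_mk'_eq_bot_iff]
        exact h4
  obtain ⟨r, hr, hrG⟩ := hr
  haveI : Fact r.Prime := ⟨hr⟩
  obtain ⟨R, hR, hAR⟩ := H23.exists_invariant_sylow (hn G inferInstance) hcop (solvable_or_of_coprime hcop) r
  -- the index of N in G is a power of r
  have hind : ∀ q : ℕ, q.Prime → q ≠ r → ¬ q ∣ N.relIndex G := by
    intro q hq hqr hd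
    rw [← H1.card_map_mk'] at hd
    obtain ⟨k, hk⟩ := (IsPGroup.iff_card).mp hrG
    rw [hk] at hd
    exact hqr ((Nat.prime_dvd_prime_iff_eq hq hr).mp (hq.dvd_of_dvd_pow hd))
  -- the normal Sylow subgroups
  have hQ : ∀ q : ℕ, q.Prime → q ≠ r → ∃ Q : Subgroup X, H23.IsSylowOf q Q G ∧ Q.Normal := by
    intro q hq hqr
    haveI : Fact q.Prime := ⟨hq⟩
    obtain ⟨Q, hQ⟩ := H23.exists_isSylowOf q N
    refine ⟨Q, ?_, ?_⟩
    · refine H23.isSylowOf_of_not_dvd (hQ.le.trans hNG.le) hQ.isPGroup fun hd => ?_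
      rw [← Subgroup.relIndex_mul_relIndex Q N G hQ.le hNG.le] at hd
      rcases hq.dvd_mul.mp hd with h | h
      · exact hQ.not_dvd h
      · exact hind q hq hqr h
    · rw [← Subgroup.normalizer_eq_top_iff, eq_top_iff]
      exact le_normalizer_of_nilpotent' (by rw [Subgroup.normalizer_eq_top]) hNnil hQ
  -- some `Q R = G`
  have hex : ∃ q : ℕ, q.Prime ∧ q ≠ r ∧ ∃ Q : Subgroup X, H23.IsSylowOf q Q G ∧ Q.Normal ∧ Q ⊔ R = G := by
    by_contra hcon
    push Not at hcon
    apply hG
    -- `R` is normalised by everything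
    have hGR : G ≤ normalizer (R : Set X) := by
      refine H23.le_of_forall_isSylowOf_le fun q hq => ?_
      by_cases hqr : q = r
      · subst hqr
        exact ⟨R, hR, Subgroup.le_normalizer⟩
      · obtain ⟨Q, hQ1, hQ2⟩ := hQ q hq.out hqr
        refine ⟨Q, hQ1, ?_⟩
        have h1 : Q ⊔ R < G := lt_of_le_of_ne (sup_le hQ1.le hR.le) (hcon q hq.out hqr Q hQ1 hQ2)
        have h2 : Group.IsNilpotent (Q ⊔ R : Subgroup X) := by
          refine hnil _ h1 ?_
          refine (le_inf (hn Q hQ2) hAR).trans fun x hx => ?_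
          rw [H1.mem_normalizer_iff_conj_smul, H1.conj_smul_sup,
            H1.mem_normalizer_iff_conj_smul.mp hx.1, H1.mem_normalizer_iff_conj_smul.mp hx.2]
        have h3 : H23.IsSylowOf r R (Q ⊔ R) := by
          refine H23.isSylowOf_of_not_dvd le_sup_right hR.isPGroup fun hd => hR.not_dvd ?_
          exact hd.trans (Dvd.intro _ (Subgroup.relIndex_mul_relIndex R (Q ⊔ R) G le_sup_right h1.le))
        exact le_sup_left.trans (le_normalizer_of_nilpotent h2 h3)
    rw [H1.isNilpotent_iff_sylow_normal]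
    intro q hq S
    by_cases hqr : q = r
    · subst hqr
      obtain ⟨T, hT⟩ := hR
      have hTn : (T : Subgroup G).Normal := by
        constructor
        intro t ht g
        have h1 : (t : X) ∈ R := by rw [← hT]; exact ⟨t, ht, rfl⟩
        have h2 := (Subgroup.mem_normalizer_iff.mp (hGR g.2) (t : X)).mp h1
        rw [← hT] at h2
        obtain ⟨u, hu, hu'⟩ := h2
        have : u = g * t * g⁻¹ := Subtype.ext hu'
        rw [← this]; exact hu
      haveI := Sylow.unique_of_normal T hTn
      rw [Subsingleton.elim S T]; exact hTn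
    · obtain ⟨Q, ⟨T, hT⟩, hQ2⟩ := hQ q hq.out hqr
      have hTn : (T : Subgroup G).Normal := by
        constructor
        intro t ht g
        have h1 : (t : X) ∈ Q := by rw [← hT]; exact ⟨t, ht, rfl⟩
        have h2 := hQ2.conj_mem _ h1 (g : X)
        rw [← hT] at h2
        obtain ⟨u, hu, hu'⟩ := h2
        have : u = g * t * g⁻¹ := Subtype.ext hu'
        rw [← this]; exact hu
      haveI := Sylow.unique_of_normal T hTn
      rw [Subsingleton.elim S T]; exact hTn
  obtain ⟨q, hq, hqr, Q, hQ1, hQ2, hQR⟩ := hex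
  refine ⟨q, r, hq, hr, hqr, Q, R, hQ1, hR, hQ2, hQR, ?_⟩
  rintro rfl
  rw [bot_sup_eq] at hQR
  apply hG
  rw [← hQR]
  haveI := hR.isPGroup.isNilpotent
  exact this

end Cfsg.Agent.H13
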