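import Mathlib
import Cfsg.Agent.H28.IPI3
import Cfsg.Agent.H28.Model6

/-!
# p-stability and local systems
-/

set_option autoImplicit false
set_option linter.all false
open Cfsg Cfsg.FusionSystem

namespace Cfsg.Agent.H13.PL

open Cfsg.Agent.H28

universe u

variable {p : ℕ} [hp : Fact p.Prime]

theorem mem_core_iff {X : Type*} [Group X] [Finite X] {A : Subgroup X} {χ : X} :
    χ ∈ ((pCore p A).map A.subtype : Subgroup X) ↔
      ∃ N : Subgroup X, N ≤ A ∧ IsPGroup p N ∧ (∀ a ∈ A, ∀ n ∈ N, a * n * a⁻¹ ∈ N) ∧ χ ∈ N := by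
  constructor
  · intro h
    have hn : (pCore p A).Normal := normal_pCore
    refine ⟨(pCore p A).map A.subtype, Subgroup.map_subtype_le _, isPGroup_pCore.map _, ?_, h⟩
    rintro a ha _ ⟨n, hn', rfl⟩
    exact ⟨_, hn.conj_mem n hn' ⟨a, ha⟩, rfl⟩
  · rintro ⟨N, hNA, hNp, hNn, hχ⟩
    have h1 : N.subgroupOf A ≤ pCore p A := by
      refine le_pCore ⟨fun n hn a => ?_⟩ (hNp.comap_of_injective A.subtype A.subtype_injective)
      rw [Subgroup.mem_subgroupOf] at hn ⊢
      exact hNn a a.2 n hn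
    exact ⟨⟨χ, hNA hχ⟩, h1 (by rw [Subgroup.mem_subgroupOf]; exact hχ), rfl⟩

theorem mem_core_mono {X : Type*} [Group X] [Finite X] {A B : Subgroup X} (hBA : B ≤ A) {χ : X} (hχ : χ ∈ B)
    (h : χ ∈ ((pCore p A).map A.subtype : Subgroup X)) : χ ∈ ((pCore p B).map B.subtype : Subgroup X) := by
  rw [mem_core_iff] at h ⊢
  obtain ⟨N, hNA, hNp, hNn, hN⟩ := h
  exact ⟨N ⊓ B, inf_le_right, hNp.to_le inf_le_left, fun a ha n hn =>
    ⟨hNn a (hBA ha) n hn.1, mul_mem (mul_mem ha hn.2) (B.inv_mem ha)⟩, hN, hχ⟩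

theorem mem_core_map {X Y : Type*} [Group X] [Group Y] [Finite X] [Finite Y] (e : X ≃* Y) {A : Subgroup X} {B : Subgroup Y}
    (hAB : ∀ x, e x ∈ B ↔ x ∈ A) {χ : X} (h : χ ∈ ((pCore p A).map A.subtype : Subgroup X)) :
    e χ ∈ ((pCore p B).map B.subtype : Subgroup Y) := by
  rw [mem_core_iff] at h ⊢
  obtain ⟨N, hNA, hNp, hNn, hN⟩ := h
  refine ⟨N.map e.toMonoidHom, ?_, hNp.map _, ?_, ⟨χ, hN, rfl⟩⟩
  · rintro _ ⟨n, hn, rfl⟩
    exact (hAB n).2 (hNA hn)
  · rintro b hb _ ⟨n, hn, rfl⟩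
    obtain ⟨a, rfl⟩ := e.surjective b
    refine ⟨a * n * a⁻¹, hNn a ((hAB a).1 hb) n hn, ?_⟩
    show e (a * n * a⁻¹) = e a * e n * (e a)⁻¹
    rw [map_mul, map_mul, map_inv]

section
variable {Ω : Type u} [Group Ω] {S : Subgroup Ω} {F : FusionSystem S} {P Q R : Subgroup Ω} {f : Ω → Ω}

def Quad (Q : Subgroup Ω) (χ : MulAut Q) : Prop := ∀ a : Q, (χ a⁻¹) * a * (χ a⁻¹) * (χ (χ a)) = 1

theorem Quad.transport (hf : Mor F Q f) {χ : MulAut Q} (h : Quad Q χ) : Quad (img Q f) (hf.transport χ) := by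
  intro a
  obtain ⟨b, rfl⟩ := hf.equiv.surjective a
  have e1 : ∀ b : Q, hf.transport χ (hf.equiv b) = hf.equiv (χ b) := by
    intro b
    show hf.equiv (χ (hf.equiv.symm (hf.equiv b))) = _
    rw [MulEquiv.symm_apply_apply]
  rw [← map_inv, e1, e1, e1, ← map_mul, ← map_mul, ← map_mul, h b, map_one]

variable [Finite S]

/-- stability for all subgroups from the fully normalized ones -/
theorem stable_all
    (h : ∀ Q : Subgroup Ω, F.IsFullyNormalized Q → ∀ χ : MulAut ↥Q, χ ∈ F.autGroup Q → Quad Q χ →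
      χ ∈ ((Cfsg.pCore p ↥(F.autGroup Q)).map (F.autGroup Q).subtype : Subgroup (MulAut ↥Q)))
    (hQ : Q ≤ S) {χ : MulAut Q} (hχ : χ ∈ F.autGroup Q) (hq : Quad Q χ) :
    χ ∈ ((Cfsg.pCore p ↥(F.autGroup Q)).map (F.autGroup Q).subtype : Subgroup (MulAut ↥Q)) := by
  obtain ⟨Q', hQQ', hQ'n⟩ := exists_fullyNormalized (F := F) hQ
  obtain ⟨f, hf, rfl⟩ := isConj_iff.1 hQQ'
  haveI : Finite Q := finite_of_le hQ
  haveI : Finite (img Q f) := finite_of_le hf.img_le
  haveI := finite_mulAut (P := Q)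
  haveI := finite_mulAut (P := img Q f)
  have h1 := h _ hQ'n (hf.transport χ) (hf.transport_mem hχ) (hq.transport hf)
  have h2 := mem_core_map hf.transport.symm (A := F.autGroup (img Q f)) (B := F.autGroup Q) (fun x => by
    rw [← hf.transport_mem_iff, MulEquiv.apply_symm_apply]) h1
  rwa [MulEquiv.symm_apply_apply] at h2

/-- `Aut_F(Q)` extends to `R` -/
structure Good (F : FusionSystem S) (R Q : Subgroup Ω) : Prop where
  cent : F.IsCentric R
  le : Q ≤ R
  ext : ∀ α ∈ F.autGroup Q, ∃ g, Mor F R g ∧ img R g = R ∧ ∀ x ∈ Q, g x = autFun α x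

theorem good_start (hS : IsPGroup p S) (hF : F.IsSaturated p) (hQ : F.IsFullyNormalized Q) :
    Good F (Q ⊔ centralizerIn S Q) Q := by
  obtain ⟨hfc, hfa, hrec⟩ := fullyNormalized_all hS hF hQ
  refine ⟨FC_sup_centric hfc, le_sup_left, fun α hα => ?_⟩
  have hαm := mor_autFun hQ.1 hα
  have him : img Q (autFun α) = Q := img_autFun α
  obtain ⟨g, hg, hgx⟩ := receptive_extend (by rw [him]; exact hrec) hαm
  have hle : Q ⊔ centralizerIn S Q ≤ Nf S Q (autFun α) := sup_le hαm.le_Nf hαm.centralizer_le_Nf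
  have hg' := hg.mono hle
  have hQg : img Q g = Q := by rw [img_congr hgx]; exact him
  refine ⟨g, hg', ?_, hgx⟩
  have h1 := img_sup_cent_le hg'
  rw [hQg] at h1
  haveI : Finite (Q ⊔ centralizerIn S Q : Subgroup Ω) := finite_of_le (sup_le hQ.1 centralizerIn_le)
  exact Subgroup.eq_of_le_of_card_ge h1 (by rw [hg'.card_img])

theorem Good.conj (h : Good F R Q) (hf : Mor F R f) : Good F (img R f) (img Q f) := by
  refine ⟨centric_img h.cent hf, img_mono h.le, fun β hβ => ?_⟩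
  have hfQ := hf.mono h.le
  obtain ⟨g, hg, hgR, hgx⟩ := h.ext _ (hfQ.transport_symm_mem hβ)
  obtain ⟨i, hi, hif, hfi, hiimg⟩ := hf.inverse
  have hiR : ∀ y ∈ img R f, i y ∈ R := fun y hy => by rw [← hiimg]; exact mem_img_of_mem hy
  have hgR' : ∀ x ∈ R, g x ∈ R := fun x hx => by
    have : g x ∈ img R g := mem_img_of_mem hx
    rwa [hgR] at this
  have hm : Mor F (img R f) (fun y => f (g (i y))) := (hi.comp hg hiR).comp hf fun y hy => hgR' _ (hiR y hy)
  refine ⟨_, hm, ?_, ?_⟩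
  · haveI : Finite (img R f) := finite_of_le hf.img_le
    apply Subgroup.eq_of_le_of_card_ge
    · rw [img_le_iff]
      exact fun y hy => mem_img_of_mem (hgR' _ (hiR y hy))
    · rw [hm.card_img]
  · intro y hy
    obtain ⟨x, hx, rfl⟩ := hfQ.mem_img.1 hy
    show f (g (i (f x))) = _
    rw [hif x (h.le hx), hgx x hx]
    exact hfQ.transport_symm_apply β hx

theorem Good.grow (hS : IsPGroup p S) (hF : F.IsSaturated p) (h : Good F R Q) (hn : F.IsFullyNormalized R)
    (hr : ¬ F.IsRadical p R) : ∃ R₁, R < R₁ ∧ R₁ ≤ S ∧ Good F R₁ Q := by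
  have hRS := hn.1
  obtain ⟨L, _, ι, hM⟩ := norm_model_exists hS hF hn h.cent
  have hRK : R ≤ normalizerIn S R := le_normalizerIn hRS
  have hKS : normalizerIn S R ≤ S := normalizerIn_le
  have hNn : (normSys F R hRS).IsNormal R := norm_normal hRS
  have hNc : (normSys F R hRS).IsCentric R := norm_centric hRS h.cent hRK
  haveI : Finite (normalizerIn S R) := finite_of_le hKS
  have hRp : IsPGroup p R := isPGroup_of_le hS hRS
  have hle : R ≤ preimageAlong ι (pCore p L) := le_preimage_pCore hM hRp hNn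
  have hne : preimageAlong ι (pCore p L) ≠ R := by
    intro he
    apply hr
    have h1 := (model_radical_iff (isPGroup_of_le hS hKS) hM hNn hNc).2 he
    refine ⟨hRS, ?_⟩
    have h2 := h1.2
    rw [norm_autGroup hRS] at h2
    exact h2
  have hR₁K : preimageAlong ι (pCore p L) ≤ normalizerIn S R := preimageAlong_le
  refine ⟨preimageAlong ι (pCore p L), lt_of_le_of_ne hle (Ne.symm hne), hR₁K.trans hKS, ?_⟩
  obtain ⟨hfin, hr', ⟨T, hT⟩, hC⟩ := hM
  haveI := hfin
  refine ⟨centric_mono h.cent hle (hR₁K.trans hKS), h.le.trans hle, fun α hα => ?_⟩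
  obtain ⟨g, hg, hgR, hgx⟩ := h.ext α hα
  have hgR' : ∀ x ∈ R, g x ∈ R := fun x hx => by
    have : g x ∈ img R g := mem_img_of_mem hx
    rwa [hgR] at this
  have hgN : Mor (normSys F R hRS) R g :=
    mor_normSys.2 ⟨hRK, fun x hx => hRK (hgR' x hx), g, hg.mono (sup_le le_rfl le_rfl), fun _ _ => rfl, hgR⟩
  obtain ⟨-, -, k, hk⟩ := (mor_realized hr').1 hgN
  have hcn : (pCore p L).Normal := normal_pCore
  have hcT : pCore p L ≤ ι.range := by rw [← hT]; exact pCore_le_sylow T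
  have hmem : ∀ x ∈ preimageAlong ι (pCore p L), k * tf ι x * k⁻¹ ∈ pCore p L := fun x hx =>
    hcn.conj_mem _ (mem_preimageAlong.1 hx).2 k
  obtain ⟨hm, hme⟩ := mor_real_conj hr' k hR₁K (fun x hx => hcT (hmem x hx))
  have hm' := mor_norm_sub hm
  refine ⟨_, hm', ?_, ?_⟩
  · haveI : Finite (preimageAlong ι (pCore p L)) := finite_of_le (hR₁K.trans hKS)
    apply Subgroup.eq_of_le_of_card_ge
    · rw [img_le_iff]
      intro x hx
      rw [mem_preimageAlong]
      have h1 := tfi_spec (hcT (hmem x hx))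
      refine ⟨h1.1, ?_⟩
      rw [h1.2]; exact hmem x hx
    · rw [hm'.card_img]
  · intro x hx
    rw [← hgx x hx]
    apply tf_inj hr'.1 (hm.mem (hle (h.le hx))) (hRK (hgR' x (h.le hx)))
    rw [hme x (hle (h.le hx)), hk x (h.le hx)]

theorem exists_good (hS : IsPGroup p S) (hF : F.IsSaturated p) : ∀ (n : ℕ) (R Q : Subgroup Ω),
    Nat.card S - Nat.card R ≤ n → Good F R Q →
    ∃ f R', Mor F Q f ∧ Good F R' (img Q f) ∧ F.IsFullyNormalized R' ∧ F.IsRadical p R' := by
  intro n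
  induction n with
  | zero =>
    intro R Q hn h
    have hRS := h.cent.1
    have h1 : R = S := by
      apply Subgroup.eq_of_le_of_card_ge hRS
      omega
    subst h1
    by_cases hr : F.IsRadical p R
    · refine ⟨id, R, mor_id (h.le.trans hRS), ?_, fullyNormalized_top, hr⟩
      rw [img_id]; exact h
    · obtain ⟨R₁, hlt, hle, -⟩ := h.grow hS hF fullyNormalized_top hr
      exact absurd hlt (not_lt_of_ge hle)
  | succ n ih =>
    intro R Q hn h
    have hRS := h.cent.1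
    obtain ⟨R', hRR', hR'n⟩ := exists_fullyNormalized (F := F) hRS
    obtain ⟨f, hf, rfl⟩ := isConj_iff.1 hRR'
    have h1 := h.conj hf
    by_cases hr : F.IsRadical p (img R f)
    · exact ⟨f, img R f, hf.mono h.le, h1, hR'n, hr⟩
    · obtain ⟨R₁, hlt, hle, hg⟩ := h1.grow hS hF hR'n hr
      haveI : Finite R₁ := finite_of_le hle
      have hc : Nat.card (img R f) < Nat.card R₁ := by
        by_contra hge
        push Not at hge
        exact hlt.ne (Subgroup.eq_of_le_of_card_ge hlt.le hge)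
      rw [hf.card_img] at hc
      have hc2 := Subgroup.card_le_of_le hle
      obtain ⟨f', R', hf', hg', hn', hr''⟩ := ih R₁ (img Q f) (by omega) hg
      have hfQ := hf.mono h.le
      refine ⟨fun x => f' (f x), R', hfQ.comp hf' (fun x hx => mem_img_of_mem hx), ?_, hn', hr''⟩
      rw [← hfQ.img_comp]; exact hg'

end

end Cfsg.Agent.H13.PL
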