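import Mathlib
import Cfsg.Agent.S5118
import Cfsg.Agent.H28.PIdx1
import Cfsg.Agent.H28.Model8

/-!
# The normal subsystem of a realized fusion system given by a normal subgroup
-/

set_option autoImplicit false
set_option linter.all false
open Cfsg Cfsg.FusionSystem

namespace Cfsg.Agent.H13

open Cfsg.Agent.H28 Cfsg.Agent.L

universe u v

variable {Ω : Type u} [Group Ω] {S : Subgroup Ω} {F : FusionSystem S} {p : ℕ} [Fact p.Prime] [Finite S]
  {P Q : Subgroup Ω} {G : Type v} [Group G] [Finite G] {ι : S →* G}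

/-- maps realized in the subgroup `N`. -/
def inProp (ι : S →* G) (N : Subgroup G) (P : Subgroup Ω) (f : Ω → Ω) : Prop :=
  ∃ g ∈ N, ∀ x ∈ P, tf ι (f x) = g * tf ι x * g⁻¹

omit [Finite S] [Finite G] in
theorem inProp_prop (N : Subgroup G) : MapPropOn F (preimageAlong ι N) (inProp ι N) where
  congr := by
    rintro P f g - hfg ⟨a, ha, h1⟩
    exact ⟨a, ha, fun x hx => by rw [← hfg x hx, h1 x hx]⟩
  conj := by
    intro P s hP hs
    obtain ⟨hsS, hsN⟩ := mem_preimageAlong.1 hs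
    refine ⟨tf ι s, hsN, fun x hx => ?_⟩
    rw [tf_conj hsS (mem_preimageAlong.1 (hP hx)).1]
  comp := by
    rintro P Q f g hP hQ hf hg hm ⟨a, ha, h1⟩ ⟨b, hb, h2⟩
    refine ⟨b * a, mul_mem hb ha, fun x hx => ?_⟩
    show tf ι (g (f x)) = _
    rw [h2 _ (hm x hx), h1 x hx]; simp [mul_assoc]
  inv := by
    rintro P f i hP hfT hf hi h1 h2 ⟨a, ha, h3⟩
    refine ⟨a⁻¹, inv_mem ha, fun y hy => ?_⟩
    obtain ⟨x, hx, rfl⟩ := hf.mem_img.1 hy
    rw [h1 x hx, h3 x hx]; simp [mul_assoc]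

/-- the subsystem realized by `N`. -/
def inSys (F : FusionSystem S) (ι : S →* G) (N : Subgroup G) : FusionSystem (preimageAlong ι N) :=
  restrSys F (preimageAlong ι N) preimageAlong_le (inProp ι N) (inProp_prop N)

omit [Finite S] [Finite G] in
theorem mor_inSys {N : Subgroup G} {f : Ω → Ω} : Mor (inSys F ι N) P f ↔
    P ≤ preimageAlong ι N ∧ (∀ x ∈ P, f x ∈ preimageAlong ι N) ∧ Mor F P f ∧ inProp ι N P f :=
  mor_restrSys

/-- the embedding of the preimage in `N`. -/
noncomputable def inEmb (ι : S →* G) (N : Subgroup G) : preimageAlong ι N →* N :=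
  (ι.comp (Subgroup.inclusion preimageAlong_le)).codRestrict N fun x => by
    have := (mem_preimageAlong.1 x.2).2
    rwa [tf_apply ι (preimageAlong_le x.2)] at this

omit [Finite S] [Finite G] in
theorem tf_inEmb {N : Subgroup G} {x : Ω} (hx : x ∈ preimageAlong ι N) :
    ((tf (inEmb ι N) x : N) : G) = tf ι x := by
  rw [tf_apply _ hx, tf_apply _ (preimageAlong_le hx)]; rfl

omit [Finite S] [Finite G] in
theorem inSys_realized (hr : F.IsRealizedBy ι) (N : Subgroup G) :
    (inSys F ι N).IsRealizedBy (inEmb ι N) := by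
  constructor
  · intro x y hxy
    have h1 := congrArg (fun z : N => (z : G)) hxy
    have h2 : ι (Subgroup.inclusion preimageAlong_le x) = ι (Subgroup.inclusion preimageAlong_le y) := h1
    exact Subgroup.inclusion_injective _ (hr.1 h2)
  · intro P hP φ hφ
    have hPS : P ≤ S := hP.trans preimageAlong_le
    rw [← mor_toFun_iff, mor_inSys]
    constructor
    · rintro ⟨-, -, hm, g, hg, h1⟩
      refine ⟨⟨g, hg⟩, fun x => Subtype.ext ?_⟩
      have h2 := h1 x x.2
      rw [toFun_coe] at h2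
      rw [← tf_apply (inEmb ι N) (hφ x), ← tf_apply (inEmb ι N) (hP x.2)]
      push_cast
      rw [tf_inEmb (hφ x), tf_inEmb (hP x.2)]
      exact h2
    · rintro ⟨g, hg⟩
      have h1 : ∀ x ∈ P, tf ι (toFun φ x) = (g : G) * tf ι x * (g : G)⁻¹ := by
        intro x hx
        have h2 := congrArg (fun z : N => (z : G)) (hg ⟨x, hx⟩)
        rw [← tf_apply (inEmb ι N) (hφ _), ← tf_apply (inEmb ι N) (hP hx)] at h2
        push_cast at h2
        rw [tf_inEmb (hφ _), tf_inEmb (hP hx)] at h2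
        rw [toFun_apply φ hx]; exact h2
      refine ⟨hP, fun x hx => by rw [toFun_apply φ hx]; exact hφ _, ?_, g, g.2, h1⟩
      rw [mor_toFun_iff, hr.2 P hPS φ fun x => preimageAlong_le (hφ x)]
      refine ⟨g, fun x => ?_⟩
      have h2 := h1 x x.2
      rwa [toFun_coe, tf_apply ι (preimageAlong_le (hφ x)), tf_apply ι (hPS x.2)] at h2

omit [Finite S] in
theorem inSys_saturated (hr : F.IsRealizedBy ι) (hT : ∃ T : Sylow p G, (T : Subgroup G) = ι.range)
    (N : Subgroup G) [hN : N.Normal] : (inSys F ι N).IsSaturated p := by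
  refine realized_saturated (inSys_realized hr N) ?_
  obtain ⟨T, hT⟩ := hT
  have hSH : SylIn p ((T : Subgroup G) ⊓ N) N :=
    coprime_index_sylIn (sylIn_top T) le_top (by
      rw [Subgroup.normalizer_eq_top_iff.2 ‹N.Normal›])
  obtain ⟨R, hR⟩ := (sylIn_iff inf_le_right).1 hSH
  refine ⟨R, ?_⟩
  rw [hR]
  ext y
  rw [Subgroup.mem_subgroupOf]
  constructor
  · rintro ⟨hyT, hyN⟩
    rw [hT] at hyT
    obtain ⟨s, hs⟩ := hyT
    have hs' : (s : Ω) ∈ preimageAlong ι N := mem_preimageAlong.2 ⟨s.2, by rw [tf_coe, hs]; exact hyN⟩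
    refine ⟨⟨s, hs'⟩, Subtype.ext ?_⟩
    exact hs
  · rintro ⟨s, rfl⟩
    refine ⟨?_, (inEmb ι N s).2⟩
    rw [hT]
    exact ⟨Subgroup.inclusion preimageAlong_le s, rfl⟩

omit [Fact p.Prime] [Finite G] in
theorem img_eq_of_maps {D : Subgroup Ω} {g : Ω → Ω} (hg : Mor F D g) (h : ∀ x ∈ D, g x ∈ D) :
    img D g = D := by
  haveI : Finite D := finite_of_le hg.le
  exact eq_of_le_of_card (img_le_iff.2 h) (by rw [hg.card_img])

theorem inSys_normal (hr : F.IsRealizedBy ι) (hT : ∃ T : Sylow p G, (T : Subgroup G) = ι.range)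
    (hF : F.IsSaturated p) (N : Subgroup G) [hN : N.Normal] : (inSys F ι N).IsNormalIn F p := by
  have hEsat : (inSys F ι N).IsSaturated p := inSys_saturated hr hT N
  obtain ⟨T, hT⟩ := hT
  have hSH : SylIn p ((T : Subgroup G) ⊓ N) N :=
    coprime_index_sylIn (sylIn_top T) le_top (by
      rw [Subgroup.normalizer_eq_top_iff.2 ‹N.Normal›])
  set T' := (T : Subgroup G) ⊓ N with hT'
  set T₀ := preimageAlong ι N with hT₀
  have hT₀S : T₀ ≤ S := preimageAlong_le
  have humem : ∀ x ∈ S, tf ι x ∈ (T : Subgroup G) := fun x hx => by rw [hT]; exact tf_mem_range hx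
  have huT : ∀ x ∈ T₀, tf ι x ∈ T' := fun x hx =>
    ⟨humem x (hT₀S hx), (mem_preimageAlong.1 hx).2⟩
  have hTu : ∀ y ∈ T', ∃ x ∈ T₀, tf ι x = y := by
    rintro y ⟨hyT, hyN⟩
    rw [SetLike.mem_coe, hT] at hyT
    obtain ⟨s, hs⟩ := hyT
    exact ⟨s, mem_preimageAlong.2 ⟨s.2, by rw [tf_coe, hs]; exact hyN⟩, by rw [tf_coe, hs]⟩
  have hfrat : ∀ g : G, ∃ n ∈ Subgroup.normalizer (T' : Set G), ∃ h ∈ N, g = n * h := by
    intro g
    have h1 : SylIn p (cj g⁻¹ T') N := by
      have h2 := hSH.cj g⁻¹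
      have h3 : cj g⁻¹ N = N := mem_nz_iff.1 (by
        rw [show nz N = ⊤ from Subgroup.normalizer_eq_top_iff.2 hN]; trivial)
      rwa [h3] at h2
    obtain ⟨h, hh, h2⟩ := h1.exists_conj_eq hSH
    refine ⟨(h * g⁻¹)⁻¹, inv_mem ?_, h, hh, by simp⟩
    rw [cj_cj] at h2
    exact mem_nz_iff.2 h2
  have hsc : F.StronglyClosed T₀ := by
    rw [stronglyClosed_iff]
    refine ⟨hT₀S, fun R f hR hf x hx => ?_⟩
    obtain ⟨-, hfS, g, hg⟩ := (mor_realized hr).1 hf
    refine mem_preimageAlong.2 ⟨hfS x hx, ?_⟩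
    rw [hg x hx]
    exact hN.conj_mem _ (mem_preimageAlong.1 (hR hx)).2 g
  have hinv : (inSys F ι N).IsInvariantIn F := by
    rw [invariant_iff]
    refine ⟨?_, hsc, ?_, ?_⟩
    · rw [subsystem_iff]
      intro P f hf
      exact (mor_inSys.1 hf).2.2.1
    · intro P f hf α hα
      obtain ⟨hP, hfT, hfF, h, hh, hf2⟩ := mor_inSys.1 hf
      have hm := mor_autFun hT₀S hα
      have hmi := mor_autFun hT₀S ((F.autGroup T₀).inv_mem hα)
      obtain ⟨-, -, a, ha⟩ := (mor_realized hr).1 hm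
      have hle : img P (autFun α) ≤ T₀ := img_le_iff.2 fun x hx => autFun_mem α (hP hx)
      have hinvmem : ∀ y ∈ img P (autFun α), autFun α⁻¹ y ∈ P := by
        intro y hy
        obtain ⟨x, hx, rfl⟩ := (hm.mono hP).mem_img.1 hy
        rw [autFun_inv_apply _ (hP hx)]; exact hx
      refine ⟨fun y => autFun α (f (autFun α⁻¹ y)), mor_inSys.2 ⟨hle, fun y hy => ?_, ?_, ?_⟩, ?_⟩
      · exact autFun_mem α (hfT _ (hinvmem y hy))
      · have h1 := (hmi.mono hle).comp hfF hinvmem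
        exact h1.comp hm fun y hy => hfT _ (hinvmem y hy)
      · refine ⟨a * h * a⁻¹, hN.conj_mem _ hh a, fun y hy => ?_⟩
        obtain ⟨x, hx, rfl⟩ := (hm.mono hP).mem_img.1 hy
        show tf ι (autFun α (f (autFun α⁻¹ (autFun α x)))) = _
        rw [autFun_inv_apply _ (hP hx), ha _ (hfT x hx), hf2 x hx, ha x (hP hx)]
        simp [mul_assoc]
      · intro x hx
        show autFun α (f (autFun α⁻¹ (autFun α x))) = _
        rw [autFun_inv_apply _ (hP hx)]
    · intro P f hP hf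
      obtain ⟨-, hfS, g, hg⟩ := (mor_realized hr).1 hf
      have hfT : ∀ x ∈ P, f x ∈ T₀ := fun x hx => sc_apply hsc hf hx (hP hx)
      obtain ⟨n, hn, h, hh, rfl⟩ := hfrat g
      have hn1 : ∀ x ∈ T₀, n * tf ι x * n⁻¹ ∈ T' := fun x hx =>
        (Subgroup.mem_normalizer_iff.1 hn _).1 (huT x hx)
      obtain ⟨hm, hm2⟩ := mor_real_conj hr n hT₀S fun x hx => by
        rw [← hT]; exact (hn1 x hx).1
      have him : img T₀ (fun x => tfi ι (n * tf ι x * n⁻¹)) = T₀ := by
        refine img_eq_of_maps hm fun x hx => mem_preimageAlong.2 ⟨hm.mem hx, ?_⟩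
        show tf ι (tfi ι (n * tf ι x * n⁻¹)) ∈ N
        rw [hm2 x hx]; exact (hn1 x hx).2
      obtain ⟨α, hα, hαf⟩ := hm.exists_aut him
      have hh1 : ∀ x ∈ P, h * tf ι x * h⁻¹ ∈ T' := by
        intro x hx
        have h1 : n * (h * tf ι x * h⁻¹) * n⁻¹ ∈ T' := by
          have e : n * (h * tf ι x * h⁻¹) * n⁻¹ = (n * h) * tf ι x * (n * h)⁻¹ := by
            simp [mul_assoc]
          rw [e, ← hg x hx]
          exact huT _ (hfT x hx)
        exact (Subgroup.mem_normalizer_iff.1 hn _).2 h1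
      obtain ⟨hk, hk2⟩ := mor_real_conj hr h (hP.trans hT₀S) fun x hx => by
        rw [← hT]; exact (hh1 x hx).1
      have hkT : ∀ x ∈ P, tfi ι (h * tf ι x * h⁻¹) ∈ T₀ := fun x hx =>
        mem_preimageAlong.2 ⟨hk.mem hx, by rw [hk2 x hx]; exact (hh1 x hx).2⟩
      refine ⟨α, hα, fun x => tfi ι (h * tf ι x * h⁻¹),
        mor_inSys.2 ⟨hP, hkT, hk, h, hh, hk2⟩, fun x hx => ?_⟩
      apply tf_inj hr.1 (hfS x hx) (hT₀S (autFun_mem _ (hkT x hx)))
      show _ = tf ι (autFun α (tfi ι (h * tf ι x * h⁻¹)))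
      rw [hαf _ (hkT x hx)]
      show _ = tf ι (tfi ι (n * tf ι (tfi ι (h * tf ι x * h⁻¹)) * n⁻¹))
      rw [hm2 _ (hkT x hx), hk2 x hx, hg x hx]
      simp [mul_assoc]
  rw [normalIn_iff]
  refine ⟨⟨hEsat, hF, hinv⟩, fun α hα => ?_⟩
  obtain ⟨-, -, -, h, hh, hhα⟩ := mor_inSys.1 (mor_autFun (F := inSys F ι N) le_rfl hα)
  -- the automorphism `α'` of `T'`
  have hhn : h ∈ Subgroup.normalizer (T' : Set G) := by
    haveI : Finite T' := inferInstance
    refine mem_normalizer_of_finite fun y hy => ?_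
    obtain ⟨x, hx, rfl⟩ := hTu y hy
    rw [← hhα x hx]; exact huT _ (autFun_mem α hx)
  have hα' : conjAut T' h hhn ∈ (fusionSystemOfSubgroup N T' inf_le_right).autGroup T' := by
    rw [autGroup_fs le_rfl]; exact conjAut_mem hhn hh
  set D' := T' ⊔ Cfsg.FusionSystem.centralizerIn (T : Subgroup G) T' with hD'
  have hex : ∃ β' ∈ (groupFusionSystem (T : Subgroup G)).autGroup D',
      (∀ x ∈ T', autFun β' x = autFun (conjAut T' h hhn) x) ∧
      ∀ c ∈ Cfsg.FusionSystem.centralizerIn (T : Subgroup G) T', c⁻¹ * autFun β' c ∈ T' ∧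
        c⁻¹ * autFun β' c ∈ Cfsg.FusionSystem.centralizerIn (T : Subgroup G) T' :=
    (normalIn_iff.1 (S5118.result p T N)).2 _ hα'
  obtain ⟨β', hβ', hβ1, hβ2⟩ := hex
  have hD'T : D' ≤ (T : Subgroup G) := sup_le inf_le_left centralizerIn_le
  rw [autGroup_group hD'T] at hβ'
  obtain ⟨b, -, hb⟩ := mem_autInducedBy'.1 hβ'
  set D := T₀ ⊔ Cfsg.FusionSystem.centralizerIn S T₀ with hD
  have hDS : D ≤ S := sup_le hT₀S centralizerIn_le
  have hcu : ∀ x ∈ Cfsg.FusionSystem.centralizerIn S T₀,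
      tf ι x ∈ Cfsg.FusionSystem.centralizerIn (T : Subgroup G) T' := by
    intro x hx
    obtain ⟨hxS, hxc⟩ := mem_centralizerIn.1 hx
    refine mem_centralizerIn.2 ⟨humem x hxS, fun y hy => ?_⟩
    obtain ⟨t, ht, rfl⟩ := hTu y hy
    rw [← tf_mul hxS (hT₀S ht), ← tf_mul (hT₀S ht) hxS, hxc t ht]
  have huc : ∀ x ∈ S, tf ι x ∈ Subgroup.centralizer (T' : Set G) →
      x ∈ Cfsg.FusionSystem.centralizerIn S T₀ := by
    intro x hx hxc
    refine mem_centralizerIn.2 ⟨hx, fun t ht => ?_⟩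
    apply tf_inj hr.1 (mul_mem hx (hT₀S ht)) (mul_mem (hT₀S ht) hx)
    rw [tf_mul hx (hT₀S ht), tf_mul (hT₀S ht) hx]
    exact (Subgroup.mem_centralizer_iff.1 hxc _ (huT t ht)).symm
  have hDD' : ∀ x ∈ D, tf ι x ∈ D' := by
    have h1 : D ≤ preimageAlong ι D' := sup_le
      (fun x hx => mem_preimageAlong.2 ⟨hT₀S hx, Subgroup.mem_sup_left (huT x hx)⟩)
      (fun x hx => mem_preimageAlong.2 ⟨(mem_centralizerIn.1 hx).1, Subgroup.mem_sup_right (hcu x hx)⟩)
    exact fun x hx => (mem_preimageAlong.1 (h1 hx)).2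
  have hD'D : ∀ y ∈ D', ∃ x ∈ D, tf ι x = y := by
    have h1 : D' ≤ imageAlong ι D := by
      refine sup_le (fun y hy => ?_) (fun y hy => ?_)
      · obtain ⟨x, hx, rfl⟩ := hTu y hy
        exact mem_imageAlong.2 ⟨x, hT₀S hx, Subgroup.mem_sup_left hx, rfl⟩
      · have hyT : y ∈ ι.range := by rw [← hT]; exact hy.1
        obtain ⟨s, hs⟩ := hyT
        refine mem_imageAlong.2 ⟨s, s.2, Subgroup.mem_sup_right (huc s s.2 ?_), by rw [tf_coe, hs]⟩
        rw [tf_coe, hs]; exact hy.2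
    intro y hy
    obtain ⟨x, -, hx, h2⟩ := mem_imageAlong.1 (h1 hy)
    exact ⟨x, hx, h2⟩
  have hbD : ∀ x ∈ D, b * tf ι x * b⁻¹ ∈ D' := fun x hx => by
    rw [← hb _ (hDD' x hx)]; exact autFun_mem β' (hDD' x hx)
  obtain ⟨hm, hm2⟩ := mor_real_conj hr b hDS fun x hx => by
    rw [← hT]; exact hD'T (hbD x hx)
  have him : img D (fun x => tfi ι (b * tf ι x * b⁻¹)) = D := by
    refine img_eq_of_maps hm fun x hx => ?_
    obtain ⟨z, hz, hz2⟩ := hD'D _ (hbD x hx)
    show tfi ι (b * tf ι x * b⁻¹) ∈ D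
    rw [← hz2, tfi_tf hr.1 (hDS hz)]; exact hz
  obtain ⟨β, hβ, hβf⟩ := hm.exists_aut him
  have hβu : ∀ x ∈ D, tf ι (autFun β x) = autFun β' (tf ι x) := fun x hx => by
    rw [hβf x hx, hb _ (hDD' x hx)]; exact hm2 x hx
  refine ⟨β, hβ, fun x hx => ?_, fun c hc => ?_⟩
  · have hxD : x ∈ D := Subgroup.mem_sup_left hx
    apply tf_inj hr.1 (hDS (autFun_mem _ hxD)) (hT₀S (autFun_mem _ hx))
    rw [hβu x hxD, hβ1 _ (huT x hx), autFun_conjAut hhn (huT x hx), hhα x hx]
  · have hcD : c ∈ D := Subgroup.mem_sup_right hc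
    have hcS := hDS hcD
    have hbS : autFun β c ∈ S := hDS (autFun_mem _ hcD)
    have hmem : c⁻¹ * autFun β c ∈ S := mul_mem (S.inv_mem hcS) hbS
    have e : tf ι (c⁻¹ * autFun β c) = (tf ι c)⁻¹ * autFun β' (tf ι c) := by
      rw [tf_mul (S.inv_mem hcS) hbS, tf_inv hcS, hβu c hcD]
    obtain ⟨h1, h2⟩ := hβ2 _ (hcu c hc)
    rw [← e] at h1 h2
    exact ⟨mem_preimageAlong.2 ⟨hmem, h1.2⟩, huc _ hmem h2.2⟩

end Cfsg.Agent.H13

namespace Cfsg.Agent.H13

open Cfsg.Agent.H28 Cfsg.Agent.L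

universe u

theorem exists_simple_realization {Ω : Type u} [Group Ω] {S : Subgroup Ω} {F : FusionSystem S}
    {p : ℕ} [Fact p.Prime] [Finite S] (hsimple : F.IsSimple p) (n : ℕ) :
    ∀ (G : Type u) [Group G] [Finite G] (ι : S →* G), Nat.card G = n → F.IsRealizedBy ι →
      (∃ T : Sylow p G, (T : Subgroup G) = ι.range) →
      ∃ (G : Type u) (_ : Group G) (_ : Finite G) (_ : IsSimpleGroup G) (ι : ↥S →* G),
        F.IsRealizedBy ι ∧ ∃ T : Sylow p G, (T : Subgroup G) = ι.range := by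
  have hp := Fact.out (p := p.Prime)
  induction n using Nat.strong_induction_on with
  | _ n ih =>
    intro G _ _ ι hn hr hT
    by_cases hs : IsSimpleGroup G
    · exact ⟨G, inferInstance, inferInstance, hs, ι, hr, hT⟩
    have hnt : Nontrivial G := by
      by_contra h
      rw [not_nontrivial_iff_subsingleton] at h
      apply hsimple.2.1
      rw [Subgroup.eq_bot_iff_forall]
      intro x hx
      exact congrArg Subtype.val (hr.1 (Subsingleton.elim (ι ⟨x, hx⟩) (ι 1)))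
    have hex : ∃ N : Subgroup G, N.Normal ∧ N ≠ ⊥ ∧ N ≠ ⊤ := by
      by_contra h
      push Not at h
      exact hs ⟨fun N hN => by
        by_cases h1 : N = ⊥
        · exact Or.inl h1
        · exact Or.inr (h N hN h1)⟩
    obtain ⟨N, hN, hN1, hN2⟩ := hex
    have hF := realized_saturated hr hT
    rcases hsimple.2.2 _ _ (inSys_normal hr hT hF N) with h | ⟨h, h'⟩
    · -- `N` is a `p'`-group
      have hNc : (Nat.card N).Coprime p := by
        refine ((Nat.Prime.coprime_iff_not_dvd hp).2 fun hd => ?_).symm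
        obtain ⟨T, hT⟩ := hT
        obtain ⟨x, hx⟩ := exists_prime_orderOf_dvd_card' (G := N) p hd
        have hxp : IsPGroup p (Subgroup.zpowers (x : G)) :=
          isPGroup_zpowers_of_pow (n := 1) (by
            rw [pow_one]
            have := pow_orderOf_eq_one x
            rw [hx] at this
            exact congrArg Subtype.val this)
        obtain ⟨R, hR⟩ := hxp.exists_le_sylow
        obtain ⟨g, hg⟩ := MulAction.exists_smul_eq G R T
        have h3 : g * (x : G) * g⁻¹ ∈ (T : Subgroup G) := by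
          rw [← hg, Sylow.coe_subgroup_smul]
          exact Subgroup.smul_mem_pointwise_smul _ _ _ (hR (Subgroup.mem_zpowers _))
        rw [hT] at h3
        obtain ⟨s, hs'⟩ := h3
        have h4 : (s : Ω) ∈ preimageAlong ι N := mem_preimageAlong.2 ⟨s.2, by
          rw [tf_coe, hs']; exact hN.conj_mem _ x.2 g⟩
        rw [h, Subgroup.mem_bot] at h4
        have h5 : s = 1 := Subtype.ext h4
        rw [h5, map_one] at hs'
        have h6 := hs'.symm
        rw [mul_inv_eq_one] at h6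
        have h7 : (x : G) = 1 := by simpa using h6
        have h8 : x = 1 := Subtype.ext h7
        rw [h8, orderOf_one] at hx
        exact hp.one_lt.ne hx
      obtain ⟨h1, h2⟩ := realized_quotient hr hT N hNc
      refine ih (Nat.card (G ⧸ N)) ?_ (G ⧸ N) _ rfl h1 h2
      rw [← hn, Subgroup.card_eq_card_quotient_mul_card_subgroup N]
      have h3 : 1 < Nat.card N := by
        rw [Subgroup.one_lt_card_iff_ne_bot]; exact hN1
      have h4 : 0 < Nat.card (G ⧸ N) := Nat.card_pos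
      nlinarith
    · have hSN : ∀ x ∈ S, tf ι x ∈ N := fun x hx => by
        rw [← h] at hx; exact (mem_preimageAlong.1 hx).2
      have hle : S ≤ preimageAlong ι N := h.ge
      obtain ⟨T, hT⟩ := hT
      have hTN : (T : Subgroup G) ≤ N := by
        rw [hT]
        rintro _ ⟨s, rfl⟩
        have := hSN s s.2
        rwa [tf_coe] at this
      obtain ⟨hi1, hi2⟩ := inSys_realized hr N
      refine ih (Nat.card N) ?_ N ((inEmb ι N).comp (Subgroup.inclusion hle)) rfl ⟨?_, ?_⟩ ?_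
      · rw [← hn]
        have h1 := Subgroup.card_subgroup_dvd_card N
        refine lt_of_le_of_ne (Nat.le_of_dvd Nat.card_pos h1) fun h2 => ?_
        exact hN2 ((Subgroup.card_eq_iff_eq_top N).1 h2)
      · exact hi1.comp (Subgroup.inclusion_injective hle)
      · intro P hP φ hφ
        rw [← h' P]
        exact hi2 P (hP.trans hle) φ fun x => hle (hφ x)
      · refine ⟨T.subtype hTN, ?_⟩
        rw [Sylow.coe_subtype]
        ext y
        rw [Subgroup.mem_subgroupOf, hT]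
        constructor
        · rintro ⟨s, hs'⟩
          exact ⟨s, Subtype.ext hs'⟩
        · rintro ⟨s, rfl⟩
          exact ⟨s, rfl⟩

end Cfsg.Agent.H13
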