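import Mathlib
import Cfsg.Agent.H13.Rk2W
import Cfsg.Agent.H13.AbHomoc
import Cfsg.Agent.H13.EssSteps
import Cfsg.Agent.H29.MulAutGL

/-!
# Rank two: the local action
-/

set_option autoImplicit false
set_option linter.all false
open Cfsg

namespace Cfsg.Agent.H13.Rk2

variable {p : ℕ} [hp : Fact p.Prime]

theorem card_le_of_pgroup {W : Type*} [Group W] [Finite W] (hc : ∀ a b : W, a * b = b * a)
    (he : ∀ w : W, w ^ p = 1) (hcard : Nat.card W = p ^ 2) {R : Subgroup (MulAut W)} (hR : IsPGroup p R) :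
    Nat.card R ≤ p := by
  obtain ⟨e⟩ := Cfsg.Agent.H29.mulAut_GL hc he hcard
  haveI : Finite (MulAut W) := Finite.of_injective _ e.injective
  obtain ⟨k, hk⟩ := IsPGroup.iff_card.1 hR
  have h1 : Nat.card R ∣ Nat.card (MulAut W) := Subgroup.card_subgroup_dvd_card _
  have hG : Nat.card (MulAut W) = (p ^ 2 - 1) * (p * (p - 1)) := by
    rw [Nat.card_congr e.toEquiv, Matrix.card_GL_field, Fin.prod_univ_two, ZMod.card]
    have h3 : p ^ 2 - p ^ 1 = p * (p - 1) := by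
      rw [pow_one, pow_two, Nat.mul_sub, mul_one]
    show (p ^ 2 - p ^ 0) * (p ^ 2 - p ^ 1) = _
    rw [h3, pow_zero]
  rw [hG] at h1
  by_contra hcon
  push Not at hcon
  have hpp := hp.out
  have hk2 : 2 ≤ k := by
    by_contra hk2
    have : p ^ k ≤ p ^ 1 := Nat.pow_le_pow_right hpp.pos (by omega)
    rw [hk] at hcon
    rw [pow_one] at this
    omega
  have h2 : p ^ 2 ∣ (p ^ 2 - 1) * (p * (p - 1)) := by
    refine dvd_trans ?_ h1
    rw [hk]; exact pow_dvd_pow p hk2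
  have h4 : p ∣ (p ^ 2 - 1) * (p - 1) := by
    have h5 : (p ^ 2 - 1) * (p * (p - 1)) = p * ((p ^ 2 - 1) * (p - 1)) := by ring
    rw [h5] at h2
    have h6 : p * p ∣ p * ((p ^ 2 - 1) * (p - 1)) := by
      rw [← pow_two]; exact h2
    exact Nat.dvd_of_mul_dvd_mul_left hpp.pos h6
  have h1p := hpp.one_lt
  rcases hpp.dvd_mul.1 h4 with h5 | h5
  · have h6 : p ∣ p ^ 2 := dvd_pow_self p two_ne_zero
    have h7 := (Nat.dvd_sub h6 h5)
    have h8 : p ^ 2 - (p ^ 2 - 1) = 1 := by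
      have : 1 ≤ p ^ 2 := Nat.one_le_pow _ _ hpp.pos
      omega
    rw [h8] at h7
    exact hpp.one_lt.ne' (Nat.dvd_one.1 h7)
  · exact absurd (Nat.le_of_dvd (by omega) h5) (by omega)

/-- lifting an involution and the square root trick -/
theorem sqrt_trick {L : Type*} [Group L] {t t' : L} (ht : t * t = 1) (ht' : t' * t' = 1) {n : ℕ}
    (hn : (t * t') ^ (2 * n + 1) = 1) : ∃ f ∈ Subgroup.zpowers (t * t'), f * t' * f⁻¹ = t := by
  set e := t * t' with he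
  have h1 : t * e * t = e⁻¹ := by
    rw [he, mul_inv_rev, inv_eq_of_mul_eq_one_left ht', inv_eq_of_mul_eq_one_left ht]
    calc t * (t * t') * t = (t * t) * t' * t := by group
      _ = t' * t := by rw [ht, one_mul]
  have hti : t⁻¹ = t := inv_eq_of_mul_eq_one_left ht
  have h2 : ∀ k : ℕ, t * e ^ k * t = (e ^ k)⁻¹ := by
    intro k
    have h3 : (t * e * t⁻¹) ^ k = t * e ^ k * t⁻¹ := conj_pow
    rw [hti, h1, inv_pow] at h3
    exact h3.symm
  have hf2 : e ^ (n + 1) * e ^ (n + 1) = e := by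
    rw [← pow_add, show n + 1 + (n + 1) = (2 * n + 1) + 1 by ring, pow_succ, hn, one_mul]
  refine ⟨e ^ (n + 1), Subgroup.pow_mem _ (Subgroup.mem_zpowers _) _, ?_⟩
  have ht'e : t' = t * e := by rw [he, ← mul_assoc, ht, one_mul]
  calc e ^ (n + 1) * t' * (e ^ (n + 1))⁻¹ = e ^ (n + 1) * (t * e) * (e ^ (n + 1))⁻¹ := by rw [← ht'e]
    _ = e ^ (n + 1) * (t * (e ^ (n + 1) * e ^ (n + 1))) * (e ^ (n + 1))⁻¹ := by rw [hf2]
    _ = e ^ (n + 1) * (t * e ^ (n + 1) * t) * t := by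
        calc _ = e ^ (n + 1) * t * e ^ (n + 1) := by group
          _ = e ^ (n + 1) * t * e ^ (n + 1) * (t * t) := by rw [ht, mul_one]
          _ = _ := by group
    _ = t := by rw [h2, mul_inv_cancel, one_mul]

open Cfsg.Agent.H28

section
variable {L : Type*} [Group L] [Finite L]

theorem central_of_card {V : Subgroup L} (hV : V.Normal) (hc : Nat.card V = p) {R : Subgroup L}
    (hR : IsPGroup p R) {g : L} (hg : g ∈ R) {v : L} (hv : v ∈ V) : g * v = v * g := by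
  obtain ⟨m, hm⟩ := hR ⟨g, hg⟩
  exact comm_of_card_p hV hc (congrArg Subtype.val hm) hv

theorem pow_odd_of_sq {G : Type*} [Monoid G] {t : G} (ht : t * t = 1) {n : ℕ} (hn : Odd n) : t ^ n = t := by
  obtain ⟨m, rfl⟩ := hn
  rw [pow_succ, pow_mul, pow_two, ht, one_pow, one_mul]

set_option maxHeartbeats 1000000 in
theorem lemmaB (hp2 : p ≠ 2) (P : Sylow p L) (hPE : (P : Subgroup L) ≠ pCore p L) {Z D : Subgroup L}
    (hZ : Z.Normal) (hD : D.Normal) (hZD : Z ≤ D) (hcard : Nat.card D = p ^ 2 * Nat.card Z)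
    (hab : ∀ a ∈ D, ∀ b ∈ D, a * b * a⁻¹ * b⁻¹ ∈ Z) (hexp : ∀ a ∈ D, a ^ p ∈ Z)
    (hker : ∀ g : L, (∀ a ∈ D, g * a * g⁻¹ * a⁻¹ ∈ Z) → g ∈ pCore p L) :
    (∀ g ∈ pCore p L, ∀ a ∈ D, g * a * g⁻¹ * a⁻¹ ∈ Z) ∧
    Nat.card P = p * Nat.card (pCore p L) ∧
    ∃ b₁ ∈ D, ∃ b₂ ∈ D, ∃ x ∈ (P : Subgroup L), ∃ t h : L,
      b₁ ∉ Z ∧ x ∉ pCore p L ∧
      (∀ d ∈ D, ∃ i j : ℕ, d * (b₁ ^ i * b₂ ^ j)⁻¹ ∈ Z) ∧
      (∀ y ∈ (P : Subgroup L), y * b₁ * y⁻¹ * b₁⁻¹ ∈ Z) ∧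
      (∀ d ∈ D, t * d * t⁻¹ * d ∈ Z) ∧ t * t = 1 ∧ x * t = t * x ∧ h * t = t * h ∧
      (∀ V : Subgroup L, V.Normal → Nat.card V = p → ∀ v ∈ V, t * v = v * t ∧ h * v = v * h) ∧
      (h * b₁ * h⁻¹ * (b₁ ^ 2)⁻¹ ∈ Z) ∧
      (∀ d ∈ D, ∃ i : ℕ, (h * d * h⁻¹) ^ 2 * (b₁ ^ i * d)⁻¹ ∈ Z) ∧
      (∀ y ∈ (P : Subgroup L), h * y * h⁻¹ * (y ^ 4)⁻¹ ∈ pCore p L) := by
  classical
  have hpp := hp.out
  haveI := hZ
  set E := pCore p L with hEdef
  have hEn : E.Normal := normal_pCore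
  have hEp : IsPGroup p E := isPGroup_pCore
  have hEP : E ≤ P := pCore_le_sylow P
  let π : L →* L ⧸ Z := QuotientGroup.mk' Z
  have hπ : ∀ a b : L, π a = π b ↔ a * b⁻¹ ∈ Z := by
    intro a b
    conv_rhs => rw [← QuotientGroup.ker_mk' Z, MonoidHom.mem_ker, map_mul, map_inv, mul_inv_eq_one]
  let Db : Subgroup (L ⧸ Z) := D.map π
  haveI hDbn : Db.Normal := hD.map π (QuotientGroup.mk'_surjective Z)
  let ρ : L →* MulAut Db := (MulAut.conjNormal (H := Db)).comp π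
  let w : ∀ d ∈ D, Db := fun d hd => ⟨π d, d, hd, rfl⟩
  have hw : ∀ (d d' : L) (hd : d ∈ D) (hd' : d' ∈ D), w d hd = w d' hd' ↔ d * d'⁻¹ ∈ Z := by
    intro d d' hd hd'
    rw [← hπ]
    exact Subtype.ext_iff
  have hws : ∀ v : Db, ∃ (d : L) (hd : d ∈ D), v = w d hd := by
    rintro ⟨_, d, hd, rfl⟩
    exact ⟨d, hd, rfl⟩
  have hcj : ∀ (g d : L), d ∈ D → g * d * g⁻¹ ∈ D := fun g d hd => hD.conj_mem d hd g
  have hρ : ∀ (g d : L) (hd : d ∈ D), ρ g (w d hd) = w (g * d * g⁻¹) (hcj g d hd) := by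
    intro g d hd
    apply Subtype.ext
    show ((MulAut.conjNormal (π g)) (w d hd) : L ⧸ Z) = π (g * d * g⁻¹)
    rw [MulAut.conjNormal_apply, map_mul, map_mul, map_inv]
  have hc : ∀ a b : Db, a * b = b * a := by
    rintro ⟨_, a, ha, rfl⟩ ⟨_, b, hb, rfl⟩
    apply Subtype.ext
    show π a * π b = π b * π a
    rw [← map_mul, ← map_mul, hπ]
    have := hab a ha b hb
    rw [mul_inv_rev, ← mul_assoc]
    exact this
  have he : ∀ a : Db, a ^ p = 1 := by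
    rintro ⟨_, a, ha, rfl⟩
    apply Subtype.ext
    show (π a) ^ p = 1
    rw [← map_pow, ← map_one π, hπ, inv_one, mul_one]
    exact hexp a ha
  have hWc : Nat.card Db = p ^ 2 := by
    have h1 := AbH.card_map_mul π D
    have h2 : D ⊓ π.ker = Z := by
      show D ⊓ (QuotientGroup.mk' Z).ker = Z
      rw [QuotientGroup.ker_mk']; exact inf_eq_right.2 hZD
    rw [h2, hcard] at h1
    exact Nat.eq_of_mul_eq_mul_right Nat.card_pos h1
  have hρ1 : ∀ g, ρ g = 1 ↔ ∀ a ∈ D, g * a * g⁻¹ * a⁻¹ ∈ Z := by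
    intro g
    constructor
    · intro h a ha
      refine (hw _ _ (hcj g a ha) ha).1 ((hρ g a ha).symm.trans ?_)
      rw [h]; rfl
    · intro h
      apply MulEquiv.ext
      intro v
      obtain ⟨d, hd, rfl⟩ := hws v
      exact (hρ g d hd).trans ((hw _ _ (hcj g d hd) hd).2 (h d hd))
  have hkerE : ρ.ker ≤ E := fun g hg => hker g ((hρ1 g).1 (MonoidHom.mem_ker.1 hg))
  set R : Subgroup (MulAut Db) := (P : Subgroup L).map ρ with hRdef
  have hRp : IsPGroup p R := P.2.map ρ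
  have hRc : Nat.card R ≤ p := card_le_of_pgroup hc he hWc hRp
  have hPc := AbH.card_map_mul ρ (P : Subgroup L)
  have hPk : (P : Subgroup L) ⊓ ρ.ker = ρ.ker := inf_eq_right.2 (hkerE.trans hEP)
  rw [hPk] at hPc
  have hlt : E < P := lt_of_le_of_ne hEP (Ne.symm hPE)
  have hlt2 := Cfsg.Agent.H23.mul_card_le_of_lt P.2 hlt
  have hkE : ρ.ker = E := by
    apply Subgroup.eq_of_le_of_card_ge hkerE
    have h1 : p * Nat.card E ≤ p * Nat.card ρ.ker :=
      calc p * Nat.card E ≤ Nat.card P := hlt2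
        _ = Nat.card R * Nat.card ρ.ker := hPc.symm
        _ ≤ p * Nat.card ρ.ker := by gcongr
    exact Nat.le_of_mul_le_mul_left h1 hpp.pos
  have hRcard : Nat.card R = p := by
    apply le_antisymm hRc
    have h1 : p * Nat.card E ≤ Nat.card R * Nat.card E :=
      calc p * Nat.card E ≤ Nat.card P := hlt2
        _ = Nat.card R * Nat.card ρ.ker := hPc.symm
        _ = _ := by rw [hkE]
    exact Nat.le_of_mul_le_mul_right h1 Nat.card_pos
  have hPcard : Nat.card P = p * Nat.card E := by rw [← hPc, hRcard, hkE]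
  have hρE : ∀ g, ρ g = 1 ↔ g ∈ E := by
    intro g; rw [← hkE, MonoidHom.mem_ker]
  have hρeq : ∀ g g', ρ g = ρ g' ↔ g * g'⁻¹ ∈ E := by
    intro g g'
    rw [← hρE, map_mul, map_inv, mul_inv_eq_one]
  obtain ⟨x₀, hx₀P, hx₀E⟩ := Set.exists_of_ssubset hlt
  have hx₀1 : ρ x₀ ≠ 1 := fun h => hx₀E ((hρE x₀).1 h)
  have hRpow : ∀ r ∈ R, r ^ p = 1 := by
    intro r hr
    have h1 : (⟨r, hr⟩ : R) ^ Nat.card R = 1 := pow_card_eq_one'
    rw [hRcard] at h1
    exact congrArg Subtype.val h1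
  have hx₀R : ρ x₀ ∈ R := ⟨x₀, hx₀P, rfl⟩
  have hx₀p : (ρ x₀) ^ p = 1 := hRpow _ hx₀R
  have hzR : Subgroup.zpowers (ρ x₀) = R := by
    apply Subgroup.eq_of_le_of_card_ge (by rw [Subgroup.zpowers_le]; exact hx₀R)
    rw [hRcard, Nat.card_zpowers, orderOf_eq_prime hx₀p hx₀1]
  have hu : ∃ u : L, ρ (u * x₀ * u⁻¹) ∉ Subgroup.zpowers (ρ x₀) := by
    by_contra hcon
    push Not at hcon
    apply hPE
    apply le_antisymm _ hEP
    refine le_pCore ⟨fun g hg u => ?_⟩ P.2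
    have h1 : ρ g ∈ Subgroup.zpowers (ρ x₀) := by rw [hzR]; exact ⟨g, hg, rfl⟩
    obtain ⟨k, hk⟩ := Subgroup.mem_zpowers_iff.1 h1
    have h2 : ρ (u * g * u⁻¹) = (ρ (u * x₀ * u⁻¹)) ^ k := by
      rw [map_mul, map_mul, map_inv, ← hk, map_mul, map_mul, map_inv, conj_zpow]
    have h3 : ρ (u * g * u⁻¹) ∈ R := by
      rw [h2, ← hzR]; exact Subgroup.zpow_mem _ (hcon u) k
    obtain ⟨y, hy, hyr⟩ := h3
    have h4 := hEP ((hρeq _ _).1 hyr.symm)
    have h5 := mul_mem h4 hy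
    rwa [inv_mul_cancel_right] at h5
  obtain ⟨u, hu⟩ := hu
  set x₁ := u * x₀ * u⁻¹ with hx₁
  have hx₁p : (ρ x₁) ^ p = 1 := by
    rw [hx₁, map_mul, map_mul, map_inv, conj_pow, hx₀p, mul_one, mul_inv_cancel]
  have hx₁1 : ρ x₁ ≠ 1 := by
    intro h
    rw [hx₁, map_mul, map_mul, map_inv, conj_eq_one_iff] at h
    exact hx₀1 h
  obtain ⟨w1, w2, hw11, hxw1, hxw2, hspan, tb, htb, htinv, hb, hhb, hhw1, hhw2⟩ :=
    exists_torus hc he hWc hp2 hx₀p hx₀1 hx₁p hx₁1 hu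
  obtain ⟨b₁, hb₁, rfl⟩ := hws w1
  obtain ⟨b₂, hb₂, rfl⟩ := hws w2
  -- the subgroup K
  have hKρ : (Subgroup.closure {x₀, x₁}).map ρ = Subgroup.closure {ρ x₀, ρ x₁} := by
    rw [MonoidHom.map_closure, Set.image_pair]
  have hKV : ∀ V : Subgroup L, V.Normal → Nat.card V = p → ∀ k ∈ Subgroup.closure {x₀, x₁}, ∀ v ∈ V, k * v = v * k := by
    intro V hVn hVc k hk v hv
    have hle : Subgroup.closure {x₀, x₁} ≤ Subgroup.centralizer (V : Set L) := by
      rw [Subgroup.closure_le]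
      have hx : ∀ v ∈ V, x₀ * v = v * x₀ := fun v hv => central_of_card hVn hVc P.2 hx₀P hv
      rintro y (rfl | hy)
      · exact Subgroup.mem_centralizer_iff.2 fun v hv => (hx v hv).symm
      · rw [Set.mem_singleton_iff] at hy
        subst hy
        refine Subgroup.mem_centralizer_iff.2 fun v hv => ?_
        have h1 := hx (u⁻¹ * v * u) (by
          have := hVn.conj_mem v hv u⁻¹
          rwa [inv_inv] at this)
        rw [hx₁]
        calc v * (u * x₀ * u⁻¹) = u * ((u⁻¹ * v * u) * x₀) * u⁻¹ := by group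
          _ = u * (x₀ * (u⁻¹ * v * u)) * u⁻¹ := by rw [h1]
          _ = _ := by group
    exact (Subgroup.mem_centralizer_iff.1 (hle hk) v hv).symm
  rw [← hKρ] at htb hhb
  obtain ⟨t₀, ht₀K, ht₀⟩ := htb
  obtain ⟨h₀, hh₀K, hh₀⟩ := hhb
  have htb2 : tb * tb = 1 := by
    apply MulEquiv.ext
    intro v
    rw [MulAut.mul_apply, htinv, htinv, inv_inv, MulAut.one_apply]
  have ht₀E : t₀ * t₀ ∈ E := by rw [← hρE, map_mul, ht₀, htb2]
  obtain ⟨k, hk⟩ := hEp ⟨t₀ * t₀, ht₀E⟩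
  have hk' : (t₀ * t₀) ^ p ^ k = 1 := congrArg Subtype.val hk
  have hodd : Odd p := hpp.eq_two_or_odd'.resolve_left hp2
  set t := t₀ ^ p ^ k with htdef
  have htt : t * t = 1 := by
    rw [htdef, ← (Commute.refl t₀).mul_pow]; exact hk'
  have hti : t⁻¹ = t := inv_eq_of_mul_eq_one_left htt
  have hρt : ρ t = tb := by
    rw [htdef, map_pow, ht₀]
    exact pow_odd_of_sq htb2 hodd.pow
  have htK : t ∈ Subgroup.closure {x₀, x₁} := Subgroup.pow_mem _ ht₀K _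
  have htc : ∀ φ : MulAut Db, tb * φ = φ * tb := by
    intro φ
    apply MulEquiv.ext
    intro v
    rw [MulAut.mul_apply, MulAut.mul_apply, htinv, htinv, map_inv]
  have hsq : ∀ g : L, ∃ f ∈ E, (f * g) * t = t * (f * g) := by
    intro g
    have ht' : (g * t * g⁻¹) * (g * t * g⁻¹) = 1 := by
      calc _ = g * (t * t) * g⁻¹ := by group
        _ = 1 := by rw [htt, mul_one, mul_inv_cancel]
    have heE : t * (g * t * g⁻¹) ∈ E := by
      rw [← hρE, map_mul, map_mul, map_mul, map_inv, hρt, ← htc (ρ g), mul_inv_cancel_right, htb2]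
    obtain ⟨m, hm⟩ := hEp ⟨_, heE⟩
    have hm' : (t * (g * t * g⁻¹)) ^ p ^ m = 1 := congrArg Subtype.val hm
    obtain ⟨n, hn⟩ : Odd (p ^ m) := hodd.pow
    rw [hn] at hm'
    obtain ⟨f, hf, hft⟩ := sqrt_trick htt ht' hm'
    have hfE : f ∈ E := (Subgroup.zpowers_le.2 heE) hf
    refine ⟨f, hfE, ?_⟩
    calc f * g * t = (f * (g * t * g⁻¹) * f⁻¹) * (f * g) := by group
      _ = t * (f * g) := by rw [hft]
  obtain ⟨f₁, hf₁, hf₁t⟩ := hsq x₀
  obtain ⟨f₂, hf₂, hf₂t⟩ := hsq h₀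
  have hρx : ρ (f₁ * x₀) = ρ x₀ := by rw [map_mul, (hρE f₁).2 hf₁, one_mul]
  have hρh : ρ (f₂ * h₀) = hb := by rw [map_mul, (hρE f₂).2 hf₂, one_mul, hh₀]
  have hfixP : ∀ y ∈ (P : Subgroup L), ρ y (w b₁ hb₁) = w b₁ hb₁ := by
    intro y hy
    have h1 : ρ y ∈ Subgroup.zpowers (ρ x₀) := by rw [hzR]; exact ⟨y, hy, rfl⟩
    have h2 : Subgroup.zpowers (ρ x₀) ≤ MulAction.stabilizer (MulAut Db) (w b₁ hb₁) := by
      rw [Subgroup.zpowers_le]; exact hxw1
    exact h2 h1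
  have hwp : ∀ (d : L) (hd : d ∈ D) (n : ℕ), (w d hd) ^ n = w (d ^ n) (D.pow_mem hd n) := by
    intro d hd n
    apply Subtype.ext
    show (π d) ^ n = π (d ^ n)
    rw [map_pow]
  have hwm : ∀ (d d' : L) (hd : d ∈ D) (hd' : d' ∈ D), w d hd * w d' hd' = w (d * d') (mul_mem hd hd') := by
    intro d d' hd hd'
    apply Subtype.ext
    show π d * π d' = π (d * d')
    rw [map_mul]
  refine ⟨fun g hg => (hρ1 g).1 ((hρE g).2 hg), hPcard, b₁, hb₁, b₂, hb₂, f₁ * x₀, mul_mem (hEP hf₁) hx₀P,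
    t, f₂ * h₀, ?_, ?_, ?_, ?_, ?_, htt, hf₁t, hf₂t, ?_, ?_, ?_, ?_⟩
  · intro h
    apply hw11
    have h1 : w b₁ hb₁ = w 1 D.one_mem := (hw _ _ hb₁ D.one_mem).2 (by rw [inv_one, mul_one]; exact h)
    rw [h1]
    apply Subtype.ext
    exact map_one π
  · intro h
    apply hx₀E
    have := mul_mem (inv_mem hf₁) h
    rwa [inv_mul_cancel_left] at this
  · intro d hd
    obtain ⟨i, j, hij⟩ := hspan (w d hd)
    refine ⟨i.val, j.val, ?_⟩
    rw [hwp b₁ hb₁, hwp b₂ hb₂, hwm _ _ (D.pow_mem hb₁ _) (D.pow_mem hb₂ _)] at hij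
    exact (hw _ _ hd (mul_mem (D.pow_mem hb₁ _) (D.pow_mem hb₂ _))).1 hij
  · intro y hy
    exact (hw _ _ (hcj y b₁ hb₁) hb₁).1 ((hρ y b₁ hb₁).symm.trans (hfixP y hy))
  · intro d hd
    have h1 : ρ t (w d hd) * w d hd = 1 := by rw [hρt, htinv, inv_mul_cancel]
    rw [hρ t d hd, hwm _ _ (hcj t d hd) hd] at h1
    have h2 : w (t * d * t⁻¹ * d) (mul_mem (hcj t d hd) hd) = w 1 D.one_mem := by
      rw [h1]; apply Subtype.ext; exact (map_one π).symm
    have h3 := (hw _ _ (mul_mem (hcj t d hd) hd) D.one_mem).1 h2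
    rwa [inv_one, mul_one] at h3
  · intro V hVn hVc v hv
    refine ⟨hKV V hVn hVc t htK v hv, ?_⟩
    rw [mul_assoc, hKV V hVn hVc h₀ hh₀K v hv, ← mul_assoc, central_of_card hVn hVc hEp hf₂ hv, mul_assoc]
  · have h1 := hhw1
    rw [← hρh, hρ _ b₁ hb₁, hwp b₁ hb₁] at h1
    exact (hw _ _ (hcj _ b₁ hb₁) (D.pow_mem hb₁ 2)).1 h1
  · intro d hd
    obtain ⟨i, j, hij⟩ := hspan (w d hd)
    refine ⟨3 * i.val, ?_⟩
    have h1 : (ρ (f₂ * h₀) (w d hd)) ^ 2 = (w b₁ hb₁) ^ (3 * i.val) * w d hd := by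
      rw [hρh, hij, map_mul, map_pow, map_pow, hhw1, hhw2]
      have e1 : (((w b₂ hb₂) ^ ((2 : ZMod p)⁻¹).val) ^ j.val) ^ 2 = (w b₂ hb₂) ^ j.val := by
        have e2 : ((w b₂ hb₂) ^ ((2 : ZMod p)⁻¹).val) ^ 2 = w b₂ hb₂ := by
          rw [pow_two, ← pw_add (he _)]
          have h2 : (2 : ZMod p)⁻¹ + (2 : ZMod p)⁻¹ = 1 := by
            have h20 : (2 : ZMod p) ≠ 0 := by
              intro h0
              have : ((2 : ℕ) : ZMod p) = 0 := by exact_mod_cast h0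
              rw [ZMod.natCast_eq_zero_iff] at this
              exact hp2 ((Nat.prime_dvd_prime_iff_eq hpp Nat.prime_two).1 this)
            rw [← two_mul, mul_inv_cancel₀ h20]
          rw [h2, ZMod.val_one, pow_one]
        rw [← pow_mul, mul_comm j.val 2, pow_mul, e2]
      rw [(show Commute (((w b₁ hb₁) ^ 2) ^ i.val) (((w b₂ hb₂) ^ ((2 : ZMod p)⁻¹).val) ^ j.val) from hc _ _).mul_pow,
        e1, ← mul_assoc, ← pow_add]
      congr 1
      rw [← pow_mul, ← pow_mul]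
      congr 1
      ring
    rw [hρ _ d hd, hwp _ (hcj _ d hd), hwp b₁ hb₁, hwm _ _ (D.pow_mem hb₁ _) hd] at h1
    exact (hw _ _ (D.pow_mem (hcj _ d hd) 2) (mul_mem (D.pow_mem hb₁ _) hd)).1 h1
  · intro y hy
    rw [← hρE, map_mul, map_inv, mul_inv_eq_one, map_pow, map_mul, map_mul, map_inv, hρh, mul_inv_eq_iff_eq_mul]
    have h1 : ρ y ∈ Subgroup.zpowers (ρ x₀) := by rw [hzR]; exact ⟨y, hy, rfl⟩
    obtain ⟨k, hk⟩ := Subgroup.mem_zpowers_iff.1 h1
    -- enough for x₀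
    have hx4 : hb * ρ x₀ * hb⁻¹ = (ρ x₀) ^ 4 := by
      rw [mul_inv_eq_iff_eq_mul]
      apply MulEquiv.ext
      intro v
      obtain ⟨i, j, hij⟩ := hspan v
      have hxn : ∀ n : ℕ, ((ρ x₀) ^ n) (w b₂ hb₂) = w b₂ hb₂ * (w b₁ hb₁) ^ n := by
        intro n
        induction n with
        | zero => simp
        | succ n ih =>
          rw [pow_succ', MulAut.mul_apply, ih, map_mul, map_pow, hxw1, hxw2, mul_assoc, ← pow_succ']
      have hxn1 : ∀ n : ℕ, ((ρ x₀) ^ n) (w b₁ hb₁) = w b₁ hb₁ := by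
        intro n
        induction n with
        | zero => simp
        | succ n ih => rw [pow_succ', MulAut.mul_apply, ih, hxw1]
      have g1 : (hb * ρ x₀) (w b₁ hb₁) = ((ρ x₀) ^ 4 * hb) (w b₁ hb₁) := by
        rw [MulAut.mul_apply, MulAut.mul_apply, hxw1, hhw1, map_pow, hxn1]
      have g2 : (hb * ρ x₀) (w b₂ hb₂) = ((ρ x₀) ^ 4 * hb) (w b₂ hb₂) := by
        rw [MulAut.mul_apply, MulAut.mul_apply, hxw2, map_mul, hhw1, hhw2, map_pow, hxn,
          (show Commute (w b₂ hb₂) ((w b₁ hb₁) ^ 4) from hc _ _).mul_pow]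
        congr 1
        have h2 : (4 : ZMod p) * (2 : ZMod p)⁻¹ = 2 := by
          have h20 : (2 : ZMod p) ≠ 0 := by
            intro h0
            have : ((2 : ℕ) : ZMod p) = 0 := by exact_mod_cast h0
            rw [ZMod.natCast_eq_zero_iff] at this
            exact hp2 ((Nat.prime_dvd_prime_iff_eq hpp Nat.prime_two).1 this)
          have : (4 : ZMod p) = 2 * 2 := by norm_num
          rw [this, mul_assoc, mul_inv_cancel₀ h20, mul_one]
        have h3 : ∀ (v : Db) (n m : ℕ), ((n : ZMod p) = (m : ZMod p)) → v ^ n = v ^ m := by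
          intro v n m hnm
          rw [ZMod.natCast_eq_natCast_iff] at hnm
          exact pow_eq_pow_iff_modEq.2 (hnm.of_dvd (orderOf_dvd_of_pow_eq_one (he v)))
        rw [← pow_mul]
        apply h3
        push_cast
        rw [ZMod.natCast_zmod_val, h2]
      rw [hij, map_mul, map_mul, map_pow, map_pow, map_pow, map_pow, g1, g2]
    rw [← mul_inv_eq_iff_eq_mul, ← hk, ← conj_zpow, hx4, ← zpow_natCast, ← zpow_mul, ← zpow_natCast, ← zpow_mul]
    congr 1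
    ring

end

end Cfsg.Agent.H13.Rk2
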