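import Mathlib
import Cfsg.Agent.H13.Rk2B
import Cfsg.Agent.H13.AbHomoc2
import Cfsg.Agent.H24.PBasic
import Cfsg.Agent.H19.Cube
import Cfsg.Agent.S0841

/-!
# Rank two: the abelian case
-/

set_option autoImplicit false
set_option linter.all false
open Cfsg

namespace Cfsg.Agent.H13.Rk2

open Cfsg.Agent.H28

variable {p : ℕ} [hp : Fact p.Prime]

theorem card_le_cube {D : Type*} [Group D] [Finite D] (hD : IsPGroup p D) (he : ∀ x : D, x ^ p = 1)
    (hrk : ∀ V : Subgroup D, (∀ a ∈ V, ∀ b ∈ V, a * b = b * a) → Nat.card V ≤ p ^ 2) :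
    Nat.card D ≤ p ^ 3 := by
  obtain ⟨A, hAn, hAc, hA⟩ := Cfsg.Agent.H24.exists_abelian_normal_self_centralizing hD
  have hc : ∀ a ∈ A, ∀ b ∈ A, a * b = b * a := fun a ha b hb =>
    congrArg Subtype.val (hAc.is_comm.comm ⟨a, ha⟩ ⟨b, hb⟩)
  have h1 := hrk A hc
  have hp1 := hp.out.one_lt
  by_cases h2 : Nat.card A ≤ p
  · haveI := hAn
    have h3 := Cfsg.Agent.H23.le_center_of_card_le hD (Z := A) h2
    have h4 : A = ⊤ := by
      rw [eq_top_iff, ← hA]
      intro x _
      rw [Subgroup.mem_centralizer_iff]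
      intro a ha
      exact (Subgroup.mem_center_iff.1 (h3 ha) x).symm
    have h5 : Nat.card D ≤ p := by rw [← Subgroup.card_top (G := D), ← h4]; exact h2
    exact h5.trans (by nlinarith [Nat.pow_le_pow_right hp.out.pos (show 1 ≤ 3 by norm_num)])
  · push Not at h2
    obtain ⟨k, hk⟩ := IsPGroup.iff_card.1 (hD.to_subgroup A)
    have hk2 : Nat.card A = p ^ 2 := by
      apply le_antisymm h1
      rw [hk] at h2 ⊢
      apply Nat.pow_le_pow_right hp.out.pos
      by_contra hlt
      have : p ^ k ≤ p ^ 1 := Nat.pow_le_pow_right hp.out.pos (by omega)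
      rw [pow_one] at this
      omega
    haveI := hAn
    let f : D →* MulAut A := MulAut.conjNormal (H := A)
    have hker : f.ker ≤ A := by
      intro x hx
      rw [← hA, Subgroup.mem_centralizer_iff]
      intro a ha
      have h3 : f x ⟨a, ha⟩ = ⟨a, ha⟩ := by rw [MonoidHom.mem_ker.1 hx]; rfl
      have h4 := congrArg Subtype.val h3
      rw [MulAut.conjNormal_apply] at h4
      exact (mul_inv_eq_iff_eq_mul.1 h4).symm
    have h3 := AbH.card_map_mul f ⊤
    rw [Subgroup.card_top, top_inf_eq] at h3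
    have h4 : Nat.card ((⊤ : Subgroup D).map f) ≤ p :=
      card_le_of_pgroup (fun a b => Subtype.ext (hc a a.2 b b.2)) (fun w => Subtype.ext (he w)) hk2
        ((hD.to_subgroup ⊤).map f)
    have h5 := Subgroup.card_le_of_le hker
    rw [← h3]
    calc _ ≤ p * Nat.card f.ker := by gcongr
      _ ≤ p * p ^ 2 := by gcongr; rw [← hk2]; exact h5
      _ = p ^ 3 := by ring

section
variable {L : Type*} [Group L] [Finite L]

/-- the exponent-p characteristic subgroup -/
theorem exists_D (hp2 : p ≠ 2) (hcent : Subgroup.centralizer ((pCore p L : Subgroup L) : Set L) ≤ pCore p L) :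
    ∃ D : Subgroup L, D.Normal ∧ D ≤ pCore p L ∧ (∀ x ∈ D, x ^ p = 1) ∧
      (∀ g : L, (orderOf g).Coprime p → (∀ x ∈ D, g * x = x * g) → g = 1) ∧
      (∀ φ : MulAut (pCore p L), ∀ x : pCore p L, (x : L) ∈ D → ((φ x : pCore p L) : L) ∈ D) := by
  have hEn : (pCore p L).Normal := normal_pCore
  have hEp : IsPGroup p (pCore p L) := isPGroup_pCore
  obtain ⟨D₀, hchar, hexp, hdet⟩ := exists_crit_omega hEp
  have hsm : smallExp p = p := by
    rw [smallExp]
    first
    | exact if_neg hp2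
    | simp [hp2]
  have hφ : ∀ φ : MulAut (pCore p L), ∀ x ∈ D₀, φ x ∈ D₀ := by
    intro φ x hx
    have h1 := hchar.fixed φ
    rw [← h1] at hx
    exact hx
  have hmem : ∀ x : pCore p L, (x : L) ∈ D₀.map (pCore p L).subtype ↔ x ∈ D₀ := by
    intro x
    constructor
    · rintro ⟨y, hy, hyx⟩
      have : y = x := Subtype.ext hyx
      rwa [← this]
    · intro hx; exact ⟨x, hx, rfl⟩
  refine ⟨D₀.map (pCore p L).subtype, ⟨?_⟩, Subgroup.map_subtype_le _, ?_, ?_, ?_⟩
  · rintro _ ⟨x, hx, rfl⟩ g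
    refine ⟨MulAut.conjNormal g x, hφ _ x hx, ?_⟩
    show ((MulAut.conjNormal g x : pCore p L) : L) = g * x * g⁻¹
    rw [MulAut.conjNormal_apply]
  · rintro _ ⟨x, hx, rfl⟩
    have := hexp x hx
    rw [hsm] at this
    exact congrArg Subtype.val this
  · intro g hg hx
    have h1 : (MulAut.conjNormal g : MulAut (pCore p L)) = 1 := by
      apply hdet
      · have h2 : orderOf (MulAut.conjNormal g : MulAut (pCore p L)) ∣ orderOf g := orderOf_map_dvd _ g
        exact Nat.Coprime.coprime_dvd_left h2 hg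
      · intro x hxD
        apply Subtype.ext
        rw [MulAut.conjNormal_apply, hx x ⟨x, hxD, rfl⟩, mul_inv_cancel_right]
    have h2 : g ∈ pCore p L := by
      apply hcent
      rw [Subgroup.mem_centralizer_iff]
      intro e he
      have h3 : (MulAut.conjNormal g : MulAut (pCore p L)) ⟨e, he⟩ = ⟨e, he⟩ := by rw [h1]; rfl
      have h4 := congrArg Subtype.val h3
      rw [MulAut.conjNormal_apply] at h4
      exact (mul_inv_eq_iff_eq_mul.1 h4).symm
    obtain ⟨k, hk⟩ := hEp ⟨g, h2⟩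
    have hk' : g ^ p ^ k = 1 := congrArg Subtype.val hk
    exact orderOf_eq_one_iff.1 (Nat.Coprime.eq_one_of_dvd (hg.pow_right k) (orderOf_dvd_of_pow_eq_one hk'))
  · intro φ x hx
    rw [hmem] at hx ⊢
    exact hφ φ x hx

theorem cent_le_pCore {D : Subgroup L} (hDn : D.Normal)
    (hdet : ∀ g : L, (orderOf g).Coprime p → (∀ x ∈ D, g * x = x * g) → g = 1) {g : L}
    (hg : ∀ x ∈ D, g * x = x * g) : g ∈ pCore p L := by
  have hn : (Subgroup.centralizer (D : Set L)).Normal := Subgroup.normal_centralizer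
  refine le_pCore hn (isPGroup_of_coprime_trivial fun a ha => ?_) (Subgroup.mem_centralizer_iff.2 fun x hx => (hg x hx).symm)
  apply Subtype.ext
  apply hdet
  · rw [Subgroup.orderOf_coe]; exact ha
  · intro x hx
    exact (Subgroup.mem_centralizer_iff.1 a.2 x hx).symm

theorem sup_zpowers_elab {D : Subgroup L} (hDc : ∀ a ∈ D, ∀ b ∈ D, a * b = b * a) (hDe : ∀ a ∈ D, a ^ p = 1)
    {y : L} (hy : ∀ a ∈ D, y * a = a * y) (hyp : y ^ p = 1) :
    (∀ a ∈ D ⊔ Subgroup.zpowers y, ∀ b ∈ D ⊔ Subgroup.zpowers y, a * b = b * a) ∧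
    (∀ a ∈ D ⊔ Subgroup.zpowers y, a ^ p = 1) := by
  have hc : ∀ a ∈ D ⊔ Subgroup.zpowers y, ∀ b ∈ D ⊔ Subgroup.zpowers y, a * b = b * a := by
    have h1 : D ⊔ Subgroup.zpowers y ≤ Subgroup.centralizer (D ⊔ Subgroup.zpowers y : Subgroup L) := by
      have hD : D ≤ Subgroup.centralizer (D ⊔ Subgroup.zpowers y : Subgroup L) := by
        rw [Subgroup.le_centralizer_iff]
        refine sup_le ?_ ?_
        · intro a ha
          exact Subgroup.mem_centralizer_iff.2 fun b hb => hDc b hb a ha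
        · rw [Subgroup.zpowers_le]
          exact Subgroup.mem_centralizer_iff.2 fun b hb => (hy b hb).symm
      refine sup_le hD ?_
      rw [Subgroup.le_centralizer_iff]
      refine sup_le ?_ ?_
      · intro a ha
        refine Subgroup.mem_centralizer_iff.2 ?_
        rintro _ ⟨k, rfl⟩
        exact ((show Commute y a from hy a ha).zpow_left k).eq
      · rw [Subgroup.zpowers_le]
        refine Subgroup.mem_centralizer_iff.2 ?_
        rintro _ ⟨k, rfl⟩
        exact ((Commute.refl y).zpow_left k).eq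
    intro a ha b hb
    exact (Subgroup.mem_centralizer_iff.1 (h1 ha) b hb).symm
  refine ⟨hc, ?_⟩
  have hle : D ⊔ Subgroup.zpowers y ≤ D ⊔ Subgroup.zpowers y := le_rfl
  intro a ha
  rw [Subgroup.sup_eq_closure] at ha
  have key : a ∈ D ⊔ Subgroup.zpowers y ∧ a ^ p = 1 := by
    induction ha using Subgroup.closure_induction with
    | mem x hx =>
      rcases hx with hx | hx
      · exact ⟨(le_sup_left : D ≤ _) hx, hDe x hx⟩
      · refine ⟨(le_sup_right : Subgroup.zpowers y ≤ _) hx, ?_⟩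
        obtain ⟨k, rfl⟩ := hx
        show (y ^ k) ^ p = 1
        rw [← zpow_natCast, ← zpow_mul, mul_comm, zpow_mul, zpow_natCast, hyp, one_zpow]
    | one => exact ⟨one_mem _, one_pow _⟩
    | mul x z _ _ hx hz =>
      refine ⟨mul_mem hx.1 hz.1, ?_⟩
      rw [(show Commute x z from hc x hx.1 z hz.1).mul_pow, hx.2, hz.2, one_mul]
    | inv x _ hx => exact ⟨inv_mem hx.1, by rw [inv_pow, hx.2, inv_one]⟩
  exact key.2

set_option maxHeartbeats 1000000 in
theorem caseI (hp5 : 5 ≤ p) (P : Sylow p L) (hPE : (P : Subgroup L) ≠ pCore p L)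
    (hrk : ∀ V : Subgroup L, V ≤ P → (∀ a ∈ V, ∀ b ∈ V, a * b = b * a) → (∀ a ∈ V, a ^ p = 1) →
      Nat.card V ≤ p ^ 2)
    {D : Subgroup L} (hDn : D.Normal) (hDE : D ≤ pCore p L) (hDe : ∀ x ∈ D, x ^ p = 1)
    (hdet : ∀ g : L, (orderOf g).Coprime p → (∀ x ∈ D, g * x = x * g) → g = 1)
    (hDc : ∀ a ∈ D, ∀ b ∈ D, a * b = b * a) :
    Nat.card (pCore p L) = p ^ 2 ∧ Nat.card P = p ^ 3 ∧ (∀ e ∈ pCore p L, e ^ p = 1) ∧
    (∀ a ∈ pCore p L, ∀ b ∈ pCore p L, a * b = b * a) ∧
    ∃ b₁ ∈ pCore p L, ∃ x ∈ (P : Subgroup L), ∃ h : L, b₁ ≠ 1 ∧ x ∉ pCore p L ∧ x ^ p = 1 ∧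
      (∃ e ∈ pCore p L, x * e ≠ e * x) ∧
      (∀ y ∈ (P : Subgroup L), y * b₁ = b₁ * y) ∧ h * b₁ * h⁻¹ = b₁ ^ 2 ∧
      (∀ d ∈ pCore p L, ∃ i : ℕ, (h * d * h⁻¹) ^ 2 = b₁ ^ i * d) ∧
      (∀ y ∈ (P : Subgroup L), h * y * h⁻¹ * (y ^ 4)⁻¹ ∈ pCore p L) := by
  classical
  have hpp := hp.out
  have hp2 : p ≠ 2 := by omega
  have hodd : Odd p := hpp.eq_two_or_odd'.resolve_left hp2
  set E := pCore p L with hEdef
  haveI hEn : E.Normal := normal_pCore
  have hEp : IsPGroup p E := isPGroup_pCore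
  have hEP : E ≤ P := pCore_le_sylow P
  have hDP : D ≤ P := hDE.trans hEP
  have hcD : ∀ {g : L}, (∀ x ∈ D, g * x = x * g) → g ∈ E := fun hg => cent_le_pCore hDn hdet hg
  -- card D
  have hDp : IsPGroup p D := hEp.to_le hDE
  have hcardD : Nat.card D = p ^ 2 := by
    obtain ⟨k, hk⟩ := IsPGroup.iff_card.1 hDp
    have h1 := hrk D hDP hDc hDe
    have h2 : k ≤ 2 := by
      rw [hk] at h1
      exact (Nat.pow_le_pow_iff_right hpp.one_lt).1 h1
    have h3 : ∀ (_ : ∀ g ∈ (P : Subgroup L), ∀ x ∈ D, g * x = x * g), False := by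
      intro h
      exact hPE (le_antisymm (fun g hg => hcD (h g hg)) hEP)
    interval_cases k
    · exfalso
      rw [pow_zero] at hk
      rw [Subgroup.card_eq_one] at hk
      apply h3
      intro g _ x hx
      rw [hk, Subgroup.mem_bot] at hx
      rw [hx, mul_one, one_mul]
    · exfalso
      rw [pow_one] at hk
      exact h3 fun g hg x hx => central_of_card hDn hk P.2 hg hx
    · exact hk
  obtain ⟨hED, hPcard, b₁, hb₁, b₂, hb₂, x, hxP, t, h, hb₁Z, hxE, hspan, hfix, htinv, htt, hxt, hht, hV, hhb, hhd, hhy⟩ :=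
    lemmaB hp2 P hPE (Z := ⊥) (D := D) inferInstance hDn bot_le (by rw [Subgroup.card_bot, mul_one]; exact hcardD)
      (fun a ha b hb => by
        rw [Subgroup.mem_bot, mul_assoc, ← mul_inv_rev, mul_inv_eq_one, hDc a ha b hb])
      (fun a ha => by rw [Subgroup.mem_bot]; exact hDe a ha)
      (fun g hg => hcD fun x hx => by
        have := hg x hx
        rw [Subgroup.mem_bot, mul_inv_eq_one, mul_inv_eq_iff_eq_mul] at this
        exact this)
  have hΩ : ∀ y ∈ E, y ^ p = 1 → y ∈ D := by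
    intro y hy hyp
    have h1 : ∀ a ∈ D, y * a = a * y := by
      intro a ha
      have h2 := hED y hy a ha
      rw [Subgroup.mem_bot, mul_inv_eq_one, mul_inv_eq_iff_eq_mul] at h2
      exact h2
    obtain ⟨h3, h4⟩ := sup_zpowers_elab hDc hDe h1 hyp
    have h5 := hrk _ (sup_le hDP (by rw [Subgroup.zpowers_le]; exact hEP hy)) h3 h4
    have h6 : D = D ⊔ Subgroup.zpowers y :=
      Subgroup.eq_of_le_of_card_ge le_sup_left (by rw [hcardD]; exact h5)
    rw [h6]
    exact (le_sup_right : Subgroup.zpowers y ≤ _) (Subgroup.mem_zpowers y)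
  have hDt : ∀ v ∈ D, t * v = v * t → v = 1 := by
    intro v hv hvt
    have h1 := htinv v hv
    rw [Subgroup.mem_bot, hvt, mul_inv_cancel_right] at h1
    have h2 := pow_odd_of_sq h1 hodd
    rw [hDe v hv] at h2
    exact h2.symm
  have hCt : ∀ y ∈ E, t * y = y * t → y = 1 := by
    intro y hy hyt
    by_contra hy1
    obtain ⟨m, hm⟩ := hEp ⟨y, hy⟩
    have hm' : y ^ p ^ m = 1 := congrArg Subtype.val hm
    have hex : ∃ m, y ^ p ^ m = 1 := ⟨m, hm'⟩
    have hspec := Nat.find_spec hex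
    have hne : Nat.find hex ≠ 0 := by
      intro h0
      rw [h0, pow_zero, pow_one] at hspec
      exact hy1 hspec
    obtain ⟨n, hn⟩ := Nat.exists_eq_succ_of_ne_zero hne
    have hmin := Nat.find_min hex (m := n) (by omega)
    have h1 : (y ^ p ^ n) ^ p = 1 := by
      rw [← pow_mul, ← pow_succ]
      rw [hn] at hspec
      exact hspec
    apply hmin
    exact hDt _ (hΩ _ (E.pow_mem hy _) h1) ((show Commute t y from hyt).pow_right _).eq
  -- E is commutative
  let φ : E →* E := (MulAut.conjNormal t : MulAut E).toMonoidHom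
  have hφ : ∀ e : E, ((φ e : E) : L) = t * e * t⁻¹ := fun e => MulAut.conjNormal_apply t e
  have hφf : MonoidHom.FixedPointFree φ := by
    intro e he
    have h1 := congrArg Subtype.val he
    rw [hφ] at h1
    exact Subtype.ext (hCt e e.2 (mul_inv_eq_iff_eq_mul.1 h1))
  have hφi : Function.Involutive φ := by
    intro e
    apply Subtype.ext
    rw [hφ, hφ]
    have hti : t⁻¹ = t := inv_eq_of_mul_eq_one_left htt
    rw [hti]
    calc t * (t * e * t) * t = (t * t) * e * (t * t) := by group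
      _ = e := by rw [htt, one_mul, mul_one]
  have hEc : ∀ a b : E, a * b = b * a := fun a b => hφf.commute_all_of_involutive hφi a b
  letI : CommGroup E := { (inferInstance : Group E) with mul_comm := hEc }
  have hxpE : x ^ p ∈ E := by
    have h1 : (E.subgroupOf P).index = p := by
      have h2 := Subgroup.card_mul_index (E.subgroupOf (P : Subgroup L))
      rw [Nat.card_congr (Subgroup.subgroupOfEquivOfLe hEP).toEquiv] at h2
      have h3 : Nat.card E * (E.subgroupOf P).index = Nat.card E * p := by rw [h2, mul_comm]; exact hPcard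
      exact Nat.eq_of_mul_eq_mul_left Nat.card_pos h3
    have h4 := Subgroup.pow_index_mem (E.subgroupOf (P : Subgroup L)) ⟨x, hxP⟩
    rw [h1] at h4
    exact h4
  have hxp : x ^ p = 1 := hCt _ hxpE ((show Commute t x from hxt.symm).pow_right p).eq
  let α : MulAut E := MulAut.conjNormal x
  have hα : α ^ p = 1 := by
    show (MulAut.conjNormal x) ^ p = 1
    rw [← map_pow, hxp, map_one]
  have hαx : ∀ e : E, ((α e : E) : L) = x * e * x⁻¹ := fun e => MulAut.conjNormal_apply x e
  have hkerc : Nat.card (powMonoidHom p : E →* E).ker = p ^ 2 := by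
    have h1 : (powMonoidHom p : E →* E).ker = D.subgroupOf E := by
      ext e
      rw [MonoidHom.mem_ker, powMonoidHom_apply, Subgroup.mem_subgroupOf]
      constructor
      · intro h; exact hΩ e e.2 (congrArg Subtype.val h)
      · intro h; exact Subtype.ext (hDe e h)
    rw [h1, Nat.card_congr (Subgroup.subgroupOfEquivOfLe hDE).toEquiv, hcardD]
  have hcdE := Subgroup.card_mul_index (powMonoidHom p : E →* E).ker
  rw [Subgroup.index_ker, hkerc] at hcdE
  have hidx : ((powMonoidHom p : E →* E).range).index = p ^ 2 := by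
    have h1 := Subgroup.card_mul_index (powMonoidHom p : E →* E).range
    rw [← hcdE, mul_comm (p ^ 2)] at h1
    exact Nat.eq_of_mul_eq_mul_left Nat.card_pos h1
  have hexA : ∃ a, ∀ e : E, e ^ p ^ a = 1 := by
    obtain ⟨n, hn⟩ := IsPGroup.iff_card.1 hEp
    exact ⟨n, fun z => by rw [← hn]; exact pow_card_eq_one'⟩
  obtain ⟨a, ha, hmin⟩ : ∃ a, (∀ e : E, e ^ p ^ a = 1) ∧ ∀ b < a, ¬ ∀ e : E, e ^ p ^ b = 1 :=
    ⟨Nat.find hexA, Nat.find_spec hexA, fun b hb => Nat.find_min hexA hb⟩
  have hb₁1 : b₁ ≠ 1 := fun h0 => hb₁Z (by rw [h0]; exact one_mem _)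
  have ha1 : 1 ≤ a := by
    by_contra h0
    have h1 : a = 0 := by omega
    have h2 := ha ⟨b₁, hDE hb₁⟩
    rw [h1, pow_zero, pow_one] at h2
    exact hb₁1 (congrArg Subtype.val h2)
  have hED' : E = D := by
    have ha' : a = 1 := by
      by_contra hane
      have ha2 : 2 ≤ a := by omega
      set A := (powMonoidHom (p ^ (a - 1)) : E →* E).range with hA
      have hVn : (A.map E.subtype).Normal := by
        refine ⟨?_⟩
        rintro _ ⟨_, ⟨e, rfl⟩, rfl⟩ g
        refine ⟨_, ⟨(MulAut.conjNormal g : MulAut E) e, rfl⟩, ?_⟩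
        show ((((MulAut.conjNormal g : MulAut E) e) ^ p ^ (a - 1) : E) : L) = g * ((e ^ p ^ (a - 1) : E) : L) * g⁻¹
        rw [← map_pow, MulAut.conjNormal_apply]
      have hVD : A.map E.subtype ≤ D := by
        rintro _ ⟨_, ⟨e, rfl⟩, rfl⟩
        refine hΩ _ (Subtype.mem _) ?_
        have h1 : (e ^ p ^ (a - 1)) ^ p = 1 := by
          rw [← pow_mul, ← pow_succ, Nat.sub_add_cancel ha1]; exact ha e
        exact congrArg Subtype.val h1
      have hVcard : Nat.card (A.map E.subtype) = p ^ 2 := by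
        have h1 : Nat.card (A.map E.subtype) ∣ p ^ 2 := by rw [← hcardD]; exact Subgroup.card_dvd_of_le hVD
        obtain ⟨k, hk, hk'⟩ := (Nat.dvd_prime_pow hpp).1 h1
        interval_cases k
        · exfalso
          rw [pow_zero, Subgroup.card_eq_one] at hk'
          refine hmin (a - 1) (by omega) fun e => ?_
          have h2 : ((e ^ p ^ (a - 1) : E) : L) ∈ A.map E.subtype := ⟨_, ⟨e, rfl⟩, rfl⟩
          rw [hk', Subgroup.mem_bot] at h2
          exact Subtype.ext h2
        · exfalso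
          rw [pow_one] at hk'
          have h2 : ∀ v ∈ A.map E.subtype, v = 1 := fun v hv => hDt v (hVD hv) ((hV _ hVn hk' v hv).1)
          have h3 : A.map E.subtype = ⊥ := by rw [eq_bot_iff]; exact fun v hv => Subgroup.mem_bot.2 (h2 v hv)
          rw [h3, Subgroup.card_bot] at hk'
          exact hpp.one_lt.ne hk'
        · exact hk'
      have hVeq : A.map E.subtype = D := Subgroup.eq_of_le_of_card_ge hVD (by rw [hVcard, hcardD])
      have hAcard : Nat.card A = p ^ 2 := by
        rw [← hVcard, Subgroup.card_map_of_injective E.subtype_injective]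
      have hRB : (powMonoidHom p : E →* E).range = (powMonoidHom (p ^ (a - 1)) : E →* E).ker := by
        apply Subgroup.eq_of_le_of_card_ge
        · rintro _ ⟨e, rfl⟩
          rw [MonoidHom.mem_ker, powMonoidHom_apply, powMonoidHom_apply, ← pow_mul, ← pow_succ',
            Nat.sub_add_cancel ha1]
          exact ha e
        · have h1 := Subgroup.card_mul_index (powMonoidHom (p ^ (a - 1)) : E →* E).ker
          rw [Subgroup.index_ker, ← hA, hAcard, ← hcdE, mul_comm (p ^ 2)] at h1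
          exact (Nat.eq_of_mul_eq_mul_right (by positivity) h1).le
      have hB : ∀ z : E, z ^ p ^ (a - 1) = 1 → z ∈ (powMonoidHom p : E →* E).range := by
        intro z hz
        rw [hRB]; exact hz
      have hdt := fun e => delta_trivial hp5 ha2 ha hidx hB hα e
      apply hxE
      apply hcD
      intro d hd
      rw [← hVeq] at hd
      obtain ⟨_, ⟨e, rfl⟩, rfl⟩ := hd
      obtain ⟨u, hu⟩ := hdt e
      have h1 : (e⁻¹ * α e) ^ p ^ (a - 1) = 1 := by
        rw [← hu, powMonoidHom_apply, ← pow_mul, ← pow_succ', Nat.sub_add_cancel ha1]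
        exact ha u
      rw [mul_pow, inv_pow, ← map_pow, inv_mul_eq_one] at h1
      have h2 := congrArg Subtype.val h1
      rw [hαx] at h2
      show x * ((e ^ p ^ (a - 1) : E) : L) = ((e ^ p ^ (a - 1) : E) : L) * x
      exact (mul_inv_eq_iff_eq_mul.1 h2.symm)
    apply le_antisymm _ hDE
    intro e he
    apply hΩ e he
    have h1 := ha ⟨e, he⟩
    rw [ha', pow_one] at h1
    exact congrArg Subtype.val h1
  have hcE : Nat.card E = p ^ 2 := by rw [hED']; exact hcardD
  refine ⟨hcE, by rw [hPcard, hcE]; ring, fun e he => hDe e (by rw [← hED']; exact he),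
    fun a ha b hb => congrArg Subtype.val (hEc ⟨a, ha⟩ ⟨b, hb⟩), b₁, hDE hb₁, x, hxP, h, hb₁1, hxE, hxp, ?_, ?_, ?_, ?_, hhy⟩
  · by_contra hcon
    push Not at hcon
    exact hxE (hcD fun d hd => hcon d (hDE hd))
  · intro y hy
    have h1 := hfix y hy
    rw [Subgroup.mem_bot, mul_inv_eq_one, mul_inv_eq_iff_eq_mul] at h1
    exact h1
  · rw [Subgroup.mem_bot, mul_inv_eq_one] at hhb
    exact hhb
  · intro d hd
    obtain ⟨i, hi⟩ := hhd d (by rw [← hED']; exact hd)
    rw [Subgroup.mem_bot, mul_inv_eq_one] at hi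
    exact ⟨i, hi⟩

end

end Cfsg.Agent.H13.Rk2
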