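import Mathlib
import Cfsg.Agent.H13.Rk2C
import Cfsg.Agent.H23.RankOne

/-!
# Rank two: the nonabelian case
-/

set_option autoImplicit false
set_option linter.all false
open Cfsg

namespace Cfsg.Agent.H13.Rk2

open Cfsg.Agent.H28

variable {p : ℕ} [hp : Fact p.Prime]

section
variable {L : Type*} [Group L] [Finite L]

set_option maxHeartbeats 1000000 in
theorem caseII (hp5 : 5 ≤ p) (P : Sylow p L) (hPE : (P : Subgroup L) ≠ pCore p L)
    (hrk : ∀ V : Subgroup L, V ≤ P → (∀ a ∈ V, ∀ b ∈ V, a * b = b * a) → (∀ a ∈ V, a ^ p = 1) →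
      Nat.card V ≤ p ^ 2)
    {D : Subgroup L} (hDn : D.Normal) (hDE : D ≤ pCore p L) (hDe : ∀ x ∈ D, x ^ p = 1)
    (hdet : ∀ g : L, (orderOf g).Coprime p → (∀ x ∈ D, g * x = x * g) → g = 1)
    (hDc : ¬ ∀ a ∈ D, ∀ b ∈ D, a * b = b * a) : False := by
  classical
  have hpp := hp.out
  have hp2 : p ≠ 2 := by omega
  have hodd : Odd p := hpp.eq_two_or_odd'.resolve_left hp2
  set E := pCore p L with hEdef
  haveI hEn : E.Normal := normal_pCore
  have hEp : IsPGroup p E := isPGroup_pCore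
  have hEP : E ≤ P := pCore_le_sylow P
  have hDP : D ≤ P := hDE.trans hEP
  have hDp : IsPGroup p D := hEp.to_le hDE
  -- D has order p^3
  have hnc : ¬ IsMulCommutative D := fun h => hDc fun a ha b hb =>
    congrArg Subtype.val (h.is_comm.comm ⟨a, ha⟩ ⟨b, hb⟩)
  have hD3 : Nat.card D = p ^ 3 := by
    have h1 : Nat.card D ≤ p ^ 3 := by
      refine card_le_cube hDp (fun x => Subtype.ext (hDe x x.2)) fun V hV => ?_
      have h2 := hrk (V.map D.subtype) ((Subgroup.map_subtype_le _).trans hDP) ?_ ?_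
      · rwa [Subgroup.card_map_of_injective D.subtype_injective] at h2
      · rintro _ ⟨a, ha, rfl⟩ _ ⟨b, hb, rfl⟩
        exact congrArg Subtype.val (hV a ha b hb)
      · rintro _ ⟨a, ha, rfl⟩
        exact hDe _ a.2
    obtain ⟨k, hk⟩ := IsPGroup.iff_card.1 hDp
    rw [hk] at h1
    have hk3 := (Nat.pow_le_pow_iff_right hpp.one_lt).1 h1
    interval_cases k
    · exfalso
      rw [pow_zero, Subgroup.card_eq_one] at hk
      apply hDc
      intro a ha b hb
      rw [hk, Subgroup.mem_bot] at ha hb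
      rw [ha, hb]
    · exfalso
      rw [pow_one] at hk
      haveI := isCyclic_of_prime_card hk
      exact hnc IsCyclic.isMulCommutative
    · exact absurd (IsPGroup.isMulCommutative_of_card_eq_prime_sq hk) hnc
    · exact hk
  have hex := Cfsg.Agent.H19.extraspecial_of_card_cube hD3 hnc
  set Z : Subgroup L := (Subgroup.center D).map D.subtype with hZdef
  have hZc : Nat.card Z = p := by
    rw [hZdef, Subgroup.card_map_of_injective D.subtype_injective]; exact hex.2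
  have hZD : Z ≤ D := Subgroup.map_subtype_le _
  have hZcen : ∀ z ∈ Z, ∀ d ∈ D, z * d = d * z := by
    rintro _ ⟨z, hz, rfl⟩ d hd
    exact (congrArg Subtype.val (Subgroup.mem_center_iff.1 hz ⟨d, hd⟩)).symm
  have hZmem : ∀ z ∈ D, (∀ d ∈ D, z * d = d * z) → z ∈ Z := fun z hz h =>
    ⟨⟨z, hz⟩, Subgroup.mem_center_iff.2 fun d => Subtype.ext (h d d.2).symm, rfl⟩
  have hZn : Z.Normal := by
    refine ⟨fun z hz g => hZmem _ (hDn.conj_mem z (hZD hz) g) fun d hd => ?_⟩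
    have h1 := hZcen z hz (g⁻¹ * d * g) (by have := hDn.conj_mem d hd g⁻¹; rwa [inv_inv] at this)
    calc g * z * g⁻¹ * d = g * (z * (g⁻¹ * d * g)) * g⁻¹ := by group
      _ = g * ((g⁻¹ * d * g) * z) * g⁻¹ := by rw [h1]
      _ = _ := by group
  have hab : ∀ a ∈ D, ∀ b ∈ D, a * b * a⁻¹ * b⁻¹ ∈ Z := by
    intro a ha b hb
    have h1 : commutator D = Subgroup.center D := hex.1.2.2
    refine ⟨⟨a, ha⟩ * ⟨b, hb⟩ * ⟨a, ha⟩⁻¹ * ⟨b, hb⟩⁻¹, ?_, rfl⟩
    rw [← h1]
    exact Subgroup.commutator_mem_commutator (Subgroup.mem_top _) (Subgroup.mem_top _)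
  have hZp : ∀ z ∈ Z, z ^ p = 1 := fun z hz => hDe z (hZD hz)
  -- the kernel
  have hker : ∀ g : L, (∀ a ∈ D, g * a * g⁻¹ * a⁻¹ ∈ Z) → g ∈ E := by
    let N : Subgroup L :=
      { carrier := {g | ∀ a ∈ D, g * a * g⁻¹ * a⁻¹ ∈ Z}
        one_mem' := fun a _ => by simp [Z.one_mem]
        mul_mem' := by
          intro g h hg hh a ha
          have h1 := hg (h * a * h⁻¹) (hDn.conj_mem a ha h)
          have h2 := mul_mem h1 (hh a ha)
          have h3 : g * (h * a * h⁻¹) * g⁻¹ * (h * a * h⁻¹)⁻¹ * (h * a * h⁻¹ * a⁻¹) = g * h * a * (g * h)⁻¹ * a⁻¹ := by group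
          rw [h3] at h2; exact h2
        inv_mem' := by
          intro g hg a ha
          have h1 := hg (g⁻¹ * a * g) (by have := hDn.conj_mem a ha g⁻¹; rwa [inv_inv] at this)
          have h2 := Z.inv_mem h1
          have h3 : (g * (g⁻¹ * a * g) * g⁻¹ * (g⁻¹ * a * g)⁻¹)⁻¹ = g⁻¹ * a * g⁻¹⁻¹ * a⁻¹ := by group
          rw [h3] at h2; exact h2 }
    have hNn : N.Normal := by
      refine ⟨fun n hn g a ha => ?_⟩
      have h1 := hn (g⁻¹ * a * g) (by have := hDn.conj_mem a ha g⁻¹; rwa [inv_inv] at this)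
      have h2 := hZn.conj_mem _ h1 g
      have h3 : g * (n * (g⁻¹ * a * g) * n⁻¹ * (g⁻¹ * a * g)⁻¹) * g⁻¹ = g * n * g⁻¹ * a * (g * n * g⁻¹)⁻¹ * a⁻¹ := by group
      rw [h3] at h2; exact h2
    intro g hg
    refine le_pCore hNn (isPGroup_of_coprime_trivial fun n hn => ?_) (show g ∈ N from hg)
    apply Subtype.ext
    have hn' : (orderOf (n : L)).Coprime p := by rw [Subgroup.orderOf_coe]; exact hn
    refine hdet n hn' ?_
    -- n centralizes Z
    obtain ⟨a, ha, b, hb, hne⟩ : ∃ a ∈ D, ∃ b ∈ D, a * b ≠ b * a := by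
      push Not at hDc; exact hDc
    have hcab : a * b * a⁻¹ * b⁻¹ ≠ 1 := by
      intro h
      rw [mul_inv_eq_one, mul_inv_eq_iff_eq_mul] at h
      exact hne h
    have hZgen : Subgroup.zpowers (a * b * a⁻¹ * b⁻¹) = Z := by
      apply Subgroup.eq_of_le_of_card_ge (by rw [Subgroup.zpowers_le]; exact hab a ha b hb)
      rw [hZc, Nat.card_zpowers, orderOf_eq_prime (hZp _ (hab a ha b hb)) hcab]
    have hnc : ((n : L) * (a * b * a⁻¹ * b⁻¹) * (n : L)⁻¹) = a * b * a⁻¹ * b⁻¹ := by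
      obtain ⟨z1, hz1, e1⟩ : ∃ z ∈ Z, (n : L) * a * (n : L)⁻¹ = z * a := ⟨_, n.2 a ha, by group⟩
      obtain ⟨z2, hz2, e2⟩ : ∃ z ∈ Z, (n : L) * b * (n : L)⁻¹ = z * b := ⟨_, n.2 b hb, by group⟩
      have c1 : z1 * a = a * z1 := hZcen z1 hz1 a ha
      have c2 : z1 * b = b * z1 := hZcen z1 hz1 b hb
      have c3 : z2 * a = a * z2 := hZcen z2 hz2 a ha
      have c4 : z2 * b = b * z2 := hZcen z2 hz2 b hb
      have c5 : z1 * z2 = z2 * z1 := hZcen z1 hz1 z2 (hZD hz2)
      calc (n : L) * (a * b * a⁻¹ * b⁻¹) * (n : L)⁻¹ = ((n : L) * a * (n : L)⁻¹) * ((n : L) * b * (n : L)⁻¹) *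
            ((n : L) * a * (n : L)⁻¹)⁻¹ * ((n : L) * b * (n : L)⁻¹)⁻¹ := by group
        _ = (z1 * a) * (z2 * b) * (z1 * a)⁻¹ * (z2 * b)⁻¹ := by rw [e1, e2]
        _ = a * b * a⁻¹ * b⁻¹ := by
          have k1 : (z1 * a) * (z2 * b) = (z1 * z2) * (a * b) := by
            calc (z1 * a) * (z2 * b) = z1 * (a * z2) * b := by group
              _ = z1 * (z2 * a) * b := by rw [← c3]
              _ = _ := by group
          have k2 : (z2 * b) * (z1 * a) = (z1 * z2) * (b * a) := by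
            calc (z2 * b) * (z1 * a) = z2 * (b * z1) * a := by group
              _ = z2 * (z1 * b) * a := by rw [← c2]
              _ = (z2 * z1) * (b * a) := by group
              _ = _ := by rw [← c5]
          have k3 : (z1 * a) * (z2 * b) * (z1 * a)⁻¹ * (z2 * b)⁻¹ = ((z1 * a) * (z2 * b)) * ((z2 * b) * (z1 * a))⁻¹ := by group
          have hz12 : z1 * z2 ∈ Z := mul_mem hz1 hz2
          have hm : (a * b) * (b * a)⁻¹ ∈ D := mul_mem (mul_mem ha hb) (inv_mem (mul_mem hb ha))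
          have c6 := hZcen _ hz12 _ hm
          rw [k3, k1, k2, mul_inv_rev]
          calc z1 * z2 * (a * b) * ((b * a)⁻¹ * (z1 * z2)⁻¹) = (z1 * z2 * ((a * b) * (b * a)⁻¹)) * (z1 * z2)⁻¹ := by group
            _ = (((a * b) * (b * a)⁻¹) * (z1 * z2)) * (z1 * z2)⁻¹ := by rw [c6]
            _ = _ := by group
    have hnZ : ∀ z ∈ Z, (n : L) * z = z * (n : L) := by
      intro z hz
      rw [← hZgen] at hz
      obtain ⟨k, rfl⟩ := hz
      exact ((show Commute (n : L) (a * b * a⁻¹ * b⁻¹) from mul_inv_eq_iff_eq_mul.1 hnc).zpow_right k).eq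
    intro d hd
    obtain ⟨z, hz, ez⟩ : ∃ z ∈ Z, (n : L) * d * (n : L)⁻¹ = z * d := ⟨_, n.2 d hd, by group⟩
    have key : ∀ k : ℕ, (n : L) ^ k * d * ((n : L) ^ k)⁻¹ = z ^ k * d := by
      intro k
      induction k with
      | zero => simp
      | succ k ih =>
        calc (n : L) ^ (k + 1) * d * ((n : L) ^ (k + 1))⁻¹ = (n : L) * ((n : L) ^ k * d * ((n : L) ^ k)⁻¹) * (n : L)⁻¹ := by
              rw [pow_succ']; group
          _ = (n : L) * (z ^ k * d) * (n : L)⁻¹ := by rw [ih]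
          _ = ((n : L) * z ^ k * (n : L)⁻¹) * ((n : L) * d * (n : L)⁻¹) := by group
          _ = z ^ k * (z * d) := by
            rw [ez, hnZ _ (pow_mem hz k), mul_inv_cancel_right]
          _ = z ^ (k + 1) * d := by rw [pow_succ]; group
    have h1 := key (orderOf (n : L))
    rw [pow_orderOf_eq_one, one_mul, inv_one, mul_one] at h1
    have h2 : z ^ orderOf (n : L) = 1 := (mul_eq_right.1 h1.symm)
    have h3 : orderOf z ∣ orderOf (n : L) := orderOf_dvd_of_pow_eq_one h2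
    have h4 : orderOf z ∣ p := orderOf_dvd_of_pow_eq_one (hZp z hz)
    have h5 : orderOf z ∣ 1 := by rw [← hn']; exact Nat.dvd_gcd h3 h4
    have h6 : z = 1 := orderOf_eq_one_iff.1 (Nat.dvd_one.1 h5)
    rw [h6, one_mul] at ez
    exact mul_inv_eq_iff_eq_mul.1 ez
  obtain ⟨hED, hPcard, b₁, hb₁, b₂, hb₂, x, hxP, t, h, hb₁Z, hxE, hspan, hfix, htinv, htt, hxt, hht, hV, hhb, hhd, hhy⟩ :=
    lemmaB hp2 P hPE (Z := Z) (D := D) hZn hDn hZD (by rw [hD3, hZc]; ring) hab
      (fun a ha => by rw [hDe a ha]; exact one_mem _) hker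
  have hZP : Z ≤ P := hZD.trans hDP
  have htZ : ∀ z ∈ Z, t * z = z * t := fun z hz => (hV Z hZn hZc z hz).1
  have hhZ : ∀ z ∈ Z, h * z = z * h := fun z hz => (hV Z hZn hZc z hz).2
  have hPZ : ∀ y ∈ (P : Subgroup L), ∀ z ∈ Z, y * z = z * y := fun y hy z hz => central_of_card hZn hZc P.2 hy hz
  have hsq1 : ∀ z ∈ Z, z * z = 1 → z = 1 := by
    intro z hz hzz
    have h2 := pow_odd_of_sq hzz hodd
    rw [hZp z hz] at h2
    exact h2.symm
  -- the inverted lift
  obtain ⟨m, hm⟩ := hodd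
  set b := b₁ * (t * b₁ * t⁻¹ * b₁) ^ m with hbdef
  have hz0 := htinv b₁ hb₁
  set z0 := t * b₁ * t⁻¹ * b₁ with hz0def
  have hz0m : z0 ^ m ∈ Z := pow_mem hz0 m
  have hbD : b ∈ D := mul_mem hb₁ (hZD hz0m)
  have hbZ : b ∉ Z := fun hb => hb₁Z (by
    have := mul_mem hb (inv_mem hz0m)
    rwa [hbdef, mul_inv_cancel_right] at this)
  have htb : t * b * t⁻¹ = b⁻¹ := by
    rw [eq_inv_iff_mul_eq_one]
    calc t * b * t⁻¹ * b = t * b₁ * t⁻¹ * (t * z0 ^ m * t⁻¹) * (b₁ * z0 ^ m) := by rw [hbdef]; group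
      _ = t * b₁ * t⁻¹ * z0 ^ m * (b₁ * z0 ^ m) := by rw [htZ _ hz0m, mul_inv_cancel_right]
      _ = t * b₁ * t⁻¹ * (z0 ^ m * b₁) * z0 ^ m := by group
      _ = t * b₁ * t⁻¹ * (b₁ * z0 ^ m) * z0 ^ m := by rw [hZcen _ hz0m _ hb₁]
      _ = z0 * (z0 ^ m * z0 ^ m) := by rw [hz0def]; group
      _ = z0 ^ p := by rw [← pow_add, ← pow_succ', hm]; congr 1; ring
      _ = 1 := hZp _ hz0
  -- elements of P commuting with t commute with b
  have hcomb : ∀ y ∈ (P : Subgroup L), y * t = t * y → y * b = b * y := by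
    intro y hy hyt
    have h1 : y * b * y⁻¹ * b⁻¹ ∈ Z := by
      have h2 := hfix y hy
      have h3 : y * b * y⁻¹ * b⁻¹ = y * b₁ * y⁻¹ * b₁⁻¹ := by
        calc y * b * y⁻¹ * b⁻¹ = y * b₁ * (z0 ^ m * y⁻¹ * (z0 ^ m)⁻¹) * b₁⁻¹ := by rw [hbdef]; group
          _ = _ := by rw [← hPZ y⁻¹ (inv_mem hy) _ hz0m]; group
      rw [h3]; exact h2
    set z := y * b * y⁻¹ * b⁻¹ with hz
    have h2 : y * b * y⁻¹ = z * b := by rw [hz]; group
    have h3 : t * z * t⁻¹ = z := by rw [htZ z h1, mul_inv_cancel_right]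
    have hti : t⁻¹ = t := inv_eq_of_mul_eq_one_left htt
    have h4 : t * (y * b * y⁻¹) * t⁻¹ = y * b⁻¹ * y⁻¹ := by
      rw [← htb]
      calc t * (y * b * y⁻¹) * t⁻¹ = (t * y) * b * (y⁻¹ * t⁻¹) := by group
        _ = (y * t) * b * (y⁻¹ * t⁻¹) := by rw [hyt]
        _ = y * t * b * (t * y)⁻¹ := by group
        _ = y * t * b * (y * t)⁻¹ := by rw [hyt]
        _ = _ := by group
    have h5 : t * (z * b) * t⁻¹ = z * b⁻¹ := by
      calc t * (z * b) * t⁻¹ = (t * z * t⁻¹) * (t * b * t⁻¹) := by group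
        _ = _ := by rw [h3, htb]
    have h6 : y * b⁻¹ * y⁻¹ = b⁻¹ * z⁻¹ := by
      calc y * b⁻¹ * y⁻¹ = (y * b * y⁻¹)⁻¹ := by group
        _ = _ := by rw [h2, mul_inv_rev]
    have h7 : z * b⁻¹ = z⁻¹ * b⁻¹ := by
      rw [← h5, ← h2, h4, h6, hZcen _ (inv_mem h1) _ (inv_mem hbD)]
    have h8 : z = z⁻¹ := mul_right_cancel h7
    have h9 : z * z = 1 := by
      nth_rewrite 2 [h8]; exact mul_inv_cancel z
    have h10 := hsq1 z h1 h9
    rw [h10, one_mul] at h2
    exact mul_inv_eq_iff_eq_mul.1 h2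
  -- elements of order p in C_P(t) lie in Z
  have hQp : ∀ y ∈ (P : Subgroup L), y * t = t * y → y ^ p = 1 → y ∈ Z := by
    intro y hy hyt hyp
    have hZe := hZp
    have hZc' : ∀ a ∈ Z, ∀ b ∈ Z, a * b = b * a := fun a ha b hb => hZcen a ha b (hZD hb)
    obtain ⟨k1, k2⟩ := sup_zpowers_elab hZc' hZe (y := b) (fun a ha => (hZcen a ha b hbD).symm) (hDe b hbD)
    have hyB : ∀ a ∈ Z ⊔ Subgroup.zpowers b, y * a = a * y := by
      have hle : Z ⊔ Subgroup.zpowers b ≤ Subgroup.centralizer {y} := by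
        refine sup_le ?_ ?_
        · intro a ha
          exact Subgroup.mem_centralizer_singleton_iff.2 (hPZ y hy a ha).symm
        · rw [Subgroup.zpowers_le]
          exact Subgroup.mem_centralizer_singleton_iff.2 (hcomb y hy hyt).symm
      intro a ha
      exact (Subgroup.mem_centralizer_singleton_iff.1 (hle ha)).symm
    obtain ⟨k3, k4⟩ := sup_zpowers_elab k1 k2 hyB hyp
    have hBP : Z ⊔ Subgroup.zpowers b ≤ P := sup_le hZP (by rw [Subgroup.zpowers_le]; exact hDP hbD)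
    have h1 := hrk _ (sup_le hBP (by rw [Subgroup.zpowers_le]; exact hy)) k3 k4
    have h2 : p * Nat.card Z ≤ Nat.card (Z ⊔ Subgroup.zpowers b : Subgroup L) := by
      apply Cfsg.Agent.H23.mul_card_le_of_lt (P.2.to_le hBP)
      refine lt_of_le_of_ne le_sup_left fun he => hbZ ?_
      rw [he]; exact (le_sup_right : Subgroup.zpowers b ≤ _) (Subgroup.mem_zpowers b)
    have h3 : Z ⊔ Subgroup.zpowers b = (Z ⊔ Subgroup.zpowers b) ⊔ Subgroup.zpowers y := by
      apply Subgroup.eq_of_le_of_card_ge le_sup_left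
      refine h1.trans ?_
      rw [hZc, ← pow_two] at h2
      exact h2
    have h4 : y ∈ Z ⊔ Subgroup.zpowers b := by
      rw [h3]; exact (le_sup_right : Subgroup.zpowers y ≤ _) (Subgroup.mem_zpowers y)
    haveI := hZn
    obtain ⟨z, hz, c, ⟨k, hk⟩, hzc⟩ := Subgroup.mem_sup_of_normal_left.1 h4
    have hk' : b ^ k = c := hk
    have h5 : t * y * t⁻¹ = y := by rw [← hyt, mul_inv_cancel_right]
    have h6 : t * y * t⁻¹ = z * c⁻¹ := by
      calc t * y * t⁻¹ = (t * z * t⁻¹) * (t * b * t⁻¹) ^ k := by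
            rw [conj_zpow, hk', ← hzc]; group
        _ = z * c⁻¹ := by rw [htZ z hz, mul_inv_cancel_right, htb, inv_zpow, hk']
    rw [h5, ← hzc] at h6
    have h7 : c = c⁻¹ := mul_left_cancel h6
    have h8 : c * c = 1 := by nth_rewrite 2 [h7]; exact mul_inv_cancel c
    have hcD : c ∈ D := by rw [← hk']; exact D.zpow_mem hbD k
    have h9 := pow_odd_of_sq h8 (show Odd p from ⟨m, hm⟩)
    rw [hDe c hcD] at h9
    rw [← hzc, ← h9, mul_one]; exact hz
  -- C_P(t) is cyclic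
  let Q : Subgroup L := (P : Subgroup L) ⊓ Subgroup.centralizer {t}
  have hQmem : ∀ y : L, y ∈ Q ↔ y ∈ (P : Subgroup L) ∧ y * t = t * y := by
    intro y
    rw [Subgroup.mem_inf, Subgroup.mem_centralizer_singleton_iff]
  have hQpg : IsPGroup p Q := P.2.to_le inf_le_left
  have hQcyc : IsCyclic Q := by
    have huniq : ∀ x' y' : Q, orderOf x' = p → orderOf y' = p → y' ∈ Subgroup.zpowers x' := by
      intro x' y' hx' hy'
      have hx1 := (hQmem x').1 x'.2
      have hy1 := (hQmem y').1 y'.2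
      have hxo : orderOf (x' : L) = p := by rw [Subgroup.orderOf_coe]; exact hx'
      have hyo : orderOf (y' : L) = p := by rw [Subgroup.orderOf_coe]; exact hy'
      have hxZ : (x' : L) ∈ Z := hQp _ hx1.1 hx1.2 (by rw [← hxo]; exact pow_orderOf_eq_one _)
      have hyZ : (y' : L) ∈ Z := hQp _ hy1.1 hy1.2 (by rw [← hyo]; exact pow_orderOf_eq_one _)
      have hgen : Subgroup.zpowers (x' : L) = Z := by
        apply Subgroup.eq_of_le_of_card_ge (by rw [Subgroup.zpowers_le]; exact hxZ)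
        rw [hZc, Nat.card_zpowers, hxo]
      rw [← hgen] at hyZ
      obtain ⟨k, hk⟩ := hyZ
      exact ⟨k, Subtype.ext (by simpa using hk)⟩
    rcases Cfsg.Agent.H23.cyclic_or_quaternion hQpg huniq with hc | ⟨h2, -⟩
    · exact hc
    · exact absurd h2 hp2
  obtain ⟨q, hq⟩ := hQcyc.exists_generator
  have hq' : ∀ y ∈ Q, ∃ k : ℤ, (q : L) ^ k = y := by
    intro y hy
    obtain ⟨k, hk⟩ := hq ⟨y, hy⟩
    exact ⟨k, by have := congrArg Subtype.val hk; simpa using this⟩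
  have hqP := ((hQmem q).1 q.2).1
  have hqt := ((hQmem q).1 q.2).2
  have hqE : (q : L) ∉ E := by
    intro hqE
    obtain ⟨k, hk⟩ := hq' x ((hQmem x).2 ⟨hxP, hxt⟩)
    exact hxE (by rw [← hk]; exact E.zpow_mem hqE k)
  -- h acts on Q
  have hhq1 : h * q * h⁻¹ ∈ Q := by
    rw [hQmem]
    constructor
    · have h1 := hEP (hhy q hqP)
      have h2 := mul_mem h1 (pow_mem hqP 4)
      rwa [inv_mul_cancel_right] at h2
    · exact ((show Commute h t from hht).mul_left (show Commute (q : L) t from hqt)).mul_left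
        ((show Commute h t from hht).inv_left)
  obtain ⟨r, hr⟩ := hq' _ hhq1
  have hr4 : (p : ℤ) ∣ r - 4 := by
    by_contra hnd
    have h1 : (q : L) ^ (r - 4) ∈ E := by
      have h2 := hhy q hqP
      rw [← hr] at h2
      have : (q : L) ^ (r - 4) = (q : L) ^ r * ((q : L) ^ 4)⁻¹ := by
        rw [zpow_sub]; norm_cast
      rw [this]; exact h2
    have h2 : (q : L) ^ (p : ℤ) ∈ E := by
      have h3 : (E.subgroupOf (P : Subgroup L)).index = p := by
        have h4 := Subgroup.card_mul_index (E.subgroupOf (P : Subgroup L))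
        rw [Nat.card_congr (Subgroup.subgroupOfEquivOfLe hEP).toEquiv] at h4
        have h5 : Nat.card E * (E.subgroupOf (P : Subgroup L)).index = Nat.card E * p := by rw [h4, mul_comm]; exact hPcard
        exact Nat.eq_of_mul_eq_mul_left Nat.card_pos h5
      have h4 := Subgroup.pow_index_mem (E.subgroupOf (P : Subgroup L)) ⟨q, hqP⟩
      rw [h3] at h4
      rw [zpow_natCast]
      exact h4
    have hcop : IsCoprime (r - 4) (p : ℤ) := by
      rw [Int.isCoprime_iff_gcd_eq_one, Int.gcd_comm]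
      exact (Nat.coprime_iff_gcd_eq_one.1 ((hpp.coprime_iff_not_dvd).2 fun hd => hnd (Int.natCast_dvd.2 hd)))
    obtain ⟨u, v, huv⟩ := hcop
    apply hqE
    have h5 : (q : L) = ((q : L) ^ (r - 4)) ^ u * ((q : L) ^ (p : ℤ)) ^ v := by
      rw [← zpow_mul, ← zpow_mul, ← zpow_add, mul_comm (r - 4) u, mul_comm (p : ℤ) v, huv, zpow_one]
    rw [h5]
    exact mul_mem (E.zpow_mem h1 u) (E.zpow_mem h2 v)
  have hr1 : (p : ℤ) ∣ r - 1 := by
    obtain ⟨z, hz, hz1⟩ : ∃ z ∈ Z, z ≠ 1 := by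
      by_contra hcon
      push Not at hcon
      have : Z = ⊥ := by rw [eq_bot_iff]; exact fun z hz => Subgroup.mem_bot.2 (hcon z hz)
      rw [this, Subgroup.card_bot] at hZc
      exact hpp.one_lt.ne hZc
    obtain ⟨k, hk⟩ := hq' z ((hQmem z).2 ⟨hZP hz, (htZ z hz).symm⟩)
    have h1 : h * z * h⁻¹ = z := by rw [hhZ z hz, mul_inv_cancel_right]
    rw [← hk, ← conj_zpow, ← hr, ← zpow_mul, mul_comm, zpow_mul, hk] at h1
    have h2 : z ^ (r - 1) = 1 := by rw [zpow_sub, h1, zpow_one, mul_inv_cancel]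
    have h3 : orderOf z = p := orderOf_eq_prime (hZp z hz) hz1
    rw [← h3]
    exact orderOf_dvd_iff_zpow_eq_one.2 h2
  have h3 : (p : ℤ) ∣ 3 := by
    have := dvd_sub hr1 hr4
    have e : r - 1 - (r - 4) = 3 := by ring
    rwa [e] at this
  have h4 := Int.le_of_dvd (by norm_num) h3
  omega

end

end Cfsg.Agent.H13.Rk2
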