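import Mathlib
import Cfsg.Agent.H13.Rk2C

/-!
# Rank two: the group of order p^4
-/

set_option autoImplicit false
set_option linter.all false
open Cfsg

namespace Cfsg.Agent.H13.Rk2

open Cfsg.Agent.H28

universe u

variable {p : ℕ} [hp : Fact p.Prime]

section
variable {L : Type u} [Group L] [Finite L]

theorem exists_action {Z D : Subgroup L} (hZ : Z.Normal) (hD : D.Normal) (hZD : Z ≤ D)
    (hab : ∀ a ∈ D, ∀ b ∈ D, a * b * a⁻¹ * b⁻¹ ∈ Z) (hexp : ∀ a ∈ D, a ^ p ∈ Z) :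
    ∃ (W : Type u) (_ : Group W) (_ : Finite W) (ρ : L →* MulAut W) (w : D →* W),
      Function.Surjective w ∧ (∀ d, w d = 1 ↔ (d : L) ∈ Z) ∧
      (∀ (g : L) (d : D), ρ g (w d) = w ⟨g * d * g⁻¹, hD.conj_mem d d.2 g⟩) ∧
      (∀ a b : W, a * b = b * a) ∧ (∀ a : W, a ^ p = 1) ∧ Nat.card W * Nat.card Z = Nat.card D := by
  haveI := hZ
  haveI : (D.map (QuotientGroup.mk' Z)).Normal := hD.map _ (QuotientGroup.mk'_surjective Z)
  refine ⟨D.map (QuotientGroup.mk' Z), inferInstance, inferInstance,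
    (MulAut.conjNormal (H := D.map (QuotientGroup.mk' Z))).comp (QuotientGroup.mk' Z),
    (QuotientGroup.mk' Z).subgroupMap D, MonoidHom.subgroupMap_surjective _ _, ?_, ?_, ?_, ?_, ?_⟩
  · intro d
    rw [Subtype.ext_iff]
    show QuotientGroup.mk' Z (d : L) = 1 ↔ _
    rw [← MonoidHom.mem_ker, QuotientGroup.ker_mk']
  · intro g d
    apply Subtype.ext
    show ((MulAut.conjNormal (QuotientGroup.mk' Z g)) ((QuotientGroup.mk' Z).subgroupMap D d) : L ⧸ Z) = QuotientGroup.mk' Z (g * d * g⁻¹)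
    rw [MulAut.conjNormal_apply, map_mul, map_mul, map_inv]
    rfl
  · rintro ⟨_, a, ha, rfl⟩ ⟨_, b, hb, rfl⟩
    apply Subtype.ext
    show QuotientGroup.mk' Z a * QuotientGroup.mk' Z b = QuotientGroup.mk' Z b * QuotientGroup.mk' Z a
    have h1 := hab a ha b hb
    rw [← QuotientGroup.ker_mk' Z, MonoidHom.mem_ker, map_mul, map_mul, map_mul, map_inv, map_inv, mul_inv_eq_one,
      mul_inv_eq_iff_eq_mul] at h1
    exact h1
  · rintro ⟨_, a, ha, rfl⟩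
    apply Subtype.ext
    show (QuotientGroup.mk' Z a) ^ p = 1
    rw [← map_pow, ← MonoidHom.mem_ker, QuotientGroup.ker_mk']
    exact hexp a ha
  · have h1 := AbH.card_map_mul (QuotientGroup.mk' Z) D
    rwa [QuotientGroup.ker_mk', inf_eq_right.2 hZD] at h1

theorem conj_zpow_central {G : Type*} [Group G] {x y z : G} (h1 : x * y * x⁻¹ = z * y) (hz : x * z = z * x) (i : ℤ) :
    x ^ i * y * (x ^ i)⁻¹ = z ^ i * y := by
  induction i using Int.induction_on with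
  | zero => simp
  | succ k ih =>
    have e1 : x ^ ((k : ℤ) + 1) = x * x ^ (k : ℤ) := by rw [add_comm, zpow_one_add]
    calc x ^ ((k : ℤ) + 1) * y * (x ^ ((k : ℤ) + 1))⁻¹ = x * (x ^ (k : ℤ) * y * (x ^ (k : ℤ))⁻¹) * x⁻¹ := by
          rw [e1]; group
      _ = (x * z ^ (k : ℤ) * x⁻¹) * (x * y * x⁻¹) := by rw [ih]; group
      _ = z ^ (k : ℤ) * (z * y) := by
        rw [h1, ((show Commute x z from hz).zpow_right (k : ℤ)).eq, mul_inv_cancel_right]
      _ = z ^ ((k : ℤ) + 1) * y := by rw [zpow_add_one]; group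
  | pred k ih =>
    have h2 : x⁻¹ * y * x = z⁻¹ * y := by
      have h3 : x⁻¹ * z⁻¹ = z⁻¹ * x⁻¹ := ((show Commute x z from hz).inv_inv).eq
      calc x⁻¹ * y * x = x⁻¹ * (z⁻¹ * (z * y)) * x := by group
        _ = x⁻¹ * z⁻¹ * (x * y * x⁻¹) * x := by rw [← h1]; group
        _ = z⁻¹ * x⁻¹ * (x * y * x⁻¹) * x := by rw [h3]
        _ = _ := by group
    have e1 : x ^ (-(k : ℤ) - 1) = x⁻¹ * x ^ (-(k : ℤ)) := by
      rw [zpow_sub_one]; exact ((Commute.refl x).zpow_left _).inv_right.eq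
    calc x ^ (-(k : ℤ) - 1) * y * (x ^ (-(k : ℤ) - 1))⁻¹ = x⁻¹ * (x ^ (-(k : ℤ)) * y * (x ^ (-(k : ℤ)))⁻¹) * x := by
          rw [e1]; group
      _ = (x⁻¹ * z ^ (-(k : ℤ)) * x) * (x⁻¹ * y * x) := by rw [ih]; group
      _ = z ^ (-(k : ℤ)) * (z⁻¹ * y) := by
        rw [h2, (((show Commute x z from hz).inv_left).zpow_right (-(k : ℤ))).eq, inv_mul_cancel_right]
      _ = z ^ (-(k : ℤ) - 1) * y := by rw [zpow_sub_one]; group

set_option maxHeartbeats 1000000 in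
theorem lemmaF (hp5 : 5 ≤ p) {M P E : Subgroup L} (hM : M.Normal) (hMp : IsPGroup p M) (hP : P.Normal)
    (hPM : P ≤ M) (hP3 : Nat.card P = p ^ 3) (hPe : ∀ y ∈ P, y ^ p = 1)
    (hcP : ∀ m ∈ M, (∀ y ∈ P, m * y = y * m) → m ∈ P) (hEP : E ≤ P) (hE2 : Nat.card E = p ^ 2)
    (hnc : ∃ a ∈ P, ∃ b ∈ P, a * b ≠ b * a) {m : L} (hmM : m ∈ M) {e : L} (heE : e ∈ E)
    (hme : m * e * m⁻¹ ∉ E) {h : L} (hhE : ∀ e ∈ E, h * e * h⁻¹ ∈ E)
    (hZE : ∀ z ∈ P, (∀ y ∈ P, z * y = y * z) → z ∈ E)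
    (hhZ : ∀ z ∈ P, (∀ y ∈ P, z * y = y * z) → h * z * h⁻¹ = z ^ 2)
    (hhE2 : ∀ e ∈ E, ∃ z ∈ P, (∀ y ∈ P, z * y = y * z) ∧ (h * e * h⁻¹) ^ 2 = z * e)
    (hh4 : ∀ y ∈ P, h * y * h⁻¹ * (y ^ 4)⁻¹ ∈ E)
    (hrk : ∀ V : Subgroup L, V ≤ M → (∀ a ∈ V, ∀ b ∈ V, a * b = b * a) → (∀ a ∈ V, a ^ p = 1) →
      Nat.card V ≤ p ^ 2) : False := by
  classical
  have hpp := hp.out
  have hp2 : p ≠ 2 := by omega
  have hodd : Odd p := hpp.eq_two_or_odd'.resolve_left hp2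
  have hPp : IsPGroup p P := hMp.to_le hPM
  have hnc' : ¬ IsMulCommutative P := fun h => by
    obtain ⟨a, ha, b, hb, hne⟩ := hnc
    exact hne (congrArg Subtype.val (h.is_comm.comm ⟨a, ha⟩ ⟨b, hb⟩))
  have hex := Cfsg.Agent.H19.extraspecial_of_card_cube hP3 hnc'
  set Z : Subgroup L := (Subgroup.center P).map P.subtype with hZdef
  have hZc : Nat.card Z = p := by
    rw [hZdef, Subgroup.card_map_of_injective P.subtype_injective]; exact hex.2
  have hZP : Z ≤ P := Subgroup.map_subtype_le _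
  have hZcen : ∀ z ∈ Z, ∀ d ∈ P, z * d = d * z := by
    rintro _ ⟨z, hz, rfl⟩ d hd
    exact (congrArg Subtype.val (Subgroup.mem_center_iff.1 hz ⟨d, hd⟩)).symm
  have hZmem : ∀ z ∈ P, (∀ d ∈ P, z * d = d * z) → z ∈ Z := fun z hz h =>
    ⟨⟨z, hz⟩, Subgroup.mem_center_iff.2 fun d => Subtype.ext (h d d.2).symm, rfl⟩
  have hZn : Z.Normal := by
    refine ⟨fun z hz g => hZmem _ (hP.conj_mem z (hZP hz) g) fun d hd => ?_⟩
    have h1 := hZcen z hz (g⁻¹ * d * g) (by have := hP.conj_mem d hd g⁻¹; rwa [inv_inv] at this)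
    calc g * z * g⁻¹ * d = g * (z * (g⁻¹ * d * g)) * g⁻¹ := by group
      _ = g * ((g⁻¹ * d * g) * z) * g⁻¹ := by rw [h1]
      _ = _ := by group
  have hab : ∀ a ∈ P, ∀ b ∈ P, a * b * a⁻¹ * b⁻¹ ∈ Z := by
    intro a ha b hb
    have h1 : commutator P = Subgroup.center P := hex.1.2.2
    refine ⟨⟨a, ha⟩ * ⟨b, hb⟩ * ⟨a, ha⟩⁻¹ * ⟨b, hb⟩⁻¹, ?_, rfl⟩
    rw [← h1]
    exact Subgroup.commutator_mem_commutator (Subgroup.mem_top _) (Subgroup.mem_top _)
  have hZE' : Z ≤ E := fun z hz => hZE z (hZP hz) (hZcen z hz)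
  have hMZ : ∀ y ∈ M, ∀ z ∈ Z, y * z = z * y := fun y hy z hz => central_of_card hZn hZc hMp hy hz
  obtain ⟨W, _, _, ρ, w, hws, hw1, hρw, hWc, hWe, hWcard⟩ :=
    exists_action (p := p) hZn hP hZP hab (fun a ha => by rw [hPe a ha]; exact one_mem _)
  have hW2 : Nat.card W = p ^ 2 := by
    rw [hP3, hZc] at hWcard
    have : p ^ 3 = p ^ 2 * p := by ring
    rw [this] at hWcard
    exact Nat.eq_of_mul_eq_mul_right hpp.pos hWcard
  have hweq : ∀ a b : P, w a = w b ↔ (a : L) * (b : L)⁻¹ ∈ Z := by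
    intro a b
    rw [← mul_inv_eq_one, ← map_inv, ← map_mul, hw1]; rfl
  -- the element m
  have heP := hEP heE
  have hRc := card_le_of_pgroup hWc hWe hW2 (R := M.map ρ) (hMp.map ρ)
  have hmρ1 : ρ m ≠ 1 := by
    intro h0
    have h1 := hρw m ⟨e, heP⟩
    rw [h0, MulAut.one_apply, eq_comm, hweq] at h1
    apply hme
    have h2 := mul_mem (hZE' h1) heE
    rwa [inv_mul_cancel_right] at h2
  have hRpow : ∀ r ∈ M.map ρ, r ^ p = 1 := by
    intro r hr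
    obtain ⟨k, hk⟩ := IsPGroup.iff_card.1 (hMp.map ρ)
    have hk1 : k ≤ 1 := by
      rw [hk] at hRc
      have : p ^ k ≤ p ^ 1 := by rw [pow_one]; exact hRc
      exact (Nat.pow_le_pow_iff_right hpp.one_lt).1 this
    have h1 : (⟨r, hr⟩ : M.map ρ) ^ Nat.card (M.map ρ) = 1 := pow_card_eq_one'
    have h2 : r ^ p ^ k = 1 := by rw [← hk]; exact congrArg Subtype.val h1
    interval_cases k
    · rw [pow_zero, pow_one] at h2; rw [h2, one_pow]
    · rwa [pow_one] at h2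
  have hmp : (ρ m) ^ p = 1 := hRpow _ ⟨m, hmM, rfl⟩
  have hmem_conj : ∀ (g : L) {y : L}, y ∈ P → g * y * g⁻¹ ∈ P := fun g y hy => hP.conj_mem y hy g
  set c := e⁻¹ * (m * e * m⁻¹) with hcdef
  have hcPm : c ∈ P := mul_mem (inv_mem heP) (hmem_conj m heP)
  have hcE : c ∉ E := fun hc => hme (by
    have := mul_mem heE hc
    rwa [hcdef, mul_inv_cancel_left] at this)
  have hmfix : m * c * m⁻¹ * c⁻¹ ∈ Z := by
    have h1 := delta_fix hWc hW2 hmp hmρ1 (w ⟨e, heP⟩)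
    rw [hρw, ← map_inv, ← map_mul] at h1
    have h2 : ρ m (w ⟨c, hcPm⟩) = w ⟨c, hcPm⟩ := h1
    rw [hρw, hweq] at h2
    exact h2
  -- the commutator [e, c]
  have hgenP : ∀ g : L, (∀ z ∈ Z, g * z = z * g) → g * e = e * g → g * c = c * g → ∀ y ∈ P, g * y = y * g := by
    intro g hgZ hge hgc
    have heZ : e ∉ Z := by
      intro heZ
      apply hme
      rw [hMZ m hmM e heZ, mul_inv_cancel_right]; exact heE
    let K : Subgroup L := P ⊓ Subgroup.centralizer {g}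
    have hK : ∀ y, y ∈ K ↔ y ∈ P ∧ y * g = g * y := fun y => by
      rw [Subgroup.mem_inf, Subgroup.mem_centralizer_singleton_iff]
    have hZK : Z ≤ E ⊓ K := fun z hz => ⟨hZE' hz, (hK z).2 ⟨hZP hz, (hgZ z hz).symm⟩⟩
    have h1 : p * Nat.card Z ≤ Nat.card (E ⊓ K : Subgroup L) := by
      apply Cfsg.Agent.H23.mul_card_le_of_lt (hPp.to_le (inf_le_left.trans hEP))
      refine lt_of_le_of_ne hZK fun he => heZ ?_
      rw [he]; exact ⟨heE, (hK e).2 ⟨heP, hge.symm⟩⟩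
    have h2 : E ⊓ K < K := by
      refine lt_of_le_of_ne inf_le_right fun he => hcE ?_
      have : c ∈ E ⊓ K := by rw [he]; exact (hK c).2 ⟨hcPm, hgc.symm⟩
      exact this.1
    have h3 := Cfsg.Agent.H23.mul_card_le_of_lt (hPp.to_le (inf_le_left : K ≤ P)) h2
    have h4 : K = P := by
      apply Subgroup.eq_of_le_of_card_ge inf_le_left
      rw [hP3]
      rw [hZc] at h1
      calc p ^ 3 = p * (p * p) := by ring
        _ ≤ p * Nat.card (E ⊓ K : Subgroup L) := by gcongr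
        _ ≤ _ := h3
    intro y hy
    rw [← h4] at hy
    exact ((hK y).1 hy).2.symm
  have hec : e * c * e⁻¹ * c⁻¹ ≠ 1 := by
    intro h0
    rw [mul_inv_eq_one, mul_inv_eq_iff_eq_mul] at h0
    have h1 := hgenP e (fun z hz => (hZcen z hz e heP).symm) rfl h0
    apply hme
    rw [hMZ m hmM e (hZmem e heP h1), mul_inv_cancel_right]; exact heE
  have hecZ := hab e heP c hcPm
  have hZgen : Subgroup.zpowers (e * c * e⁻¹ * c⁻¹) = Z := by
    apply Subgroup.eq_of_le_of_card_ge (by rw [Subgroup.zpowers_le]; exact hecZ)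
    rw [hZc, Nat.card_zpowers, orderOf_eq_prime (hPe _ (hZP hecZ)) hec]
  -- the element b
  obtain ⟨i, hi⟩ : ∃ i : ℤ, (e * c * e⁻¹ * c⁻¹) ^ i = (m * c * m⁻¹ * c⁻¹)⁻¹ := by
    have h1 := Z.inv_mem hmfix
    rw [← hZgen] at h1
    exact h1
  have hei : ∀ i : ℤ, e ^ i * c * (e ^ i)⁻¹ = (e * c * e⁻¹ * c⁻¹) ^ i * c := by
    exact fun i => conj_zpow_central (by group) (hZcen _ hecZ e heP).symm i
  set b := m * e ^ i with hbdef
  have hbM : b ∈ M := mul_mem hmM (M.zpow_mem (hPM heP) i)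
  have hbc : b * c = c * b := by
    apply mul_inv_eq_iff_eq_mul.1
    calc b * c * b⁻¹ = m * (e ^ i * c * (e ^ i)⁻¹) * m⁻¹ := by rw [hbdef]; group
      _ = m * ((m * c * m⁻¹ * c⁻¹)⁻¹ * c) * m⁻¹ := by rw [hei, hi]
      _ = (m * (m * c * m⁻¹ * c⁻¹)⁻¹ * m⁻¹) * (m * c * m⁻¹) := by group
      _ = (m * c * m⁻¹ * c⁻¹)⁻¹ * (m * c * m⁻¹) := by
        rw [hMZ m hmM _ (Z.inv_mem hmfix), mul_inv_cancel_right]
      _ = c := by group
  have hbe : b * e * b⁻¹ = e * c := by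
    rw [hbdef, hcdef]; 
    have : e ^ i * e * (e ^ i)⁻¹ = e := by
      rw [((Commute.refl e).zpow_left i).eq, mul_inv_cancel_right]
    calc m * e ^ i * e * (m * e ^ i)⁻¹ = m * (e ^ i * e * (e ^ i)⁻¹) * m⁻¹ := by group
      _ = _ := by rw [this]; group
  have hbn : ∀ n : ℕ, b ^ n * e * (b ^ n)⁻¹ = e * c ^ n := by
    intro n
    induction n with
    | zero => simp
    | succ n ih =>
      calc b ^ (n + 1) * e * (b ^ (n + 1))⁻¹ = b * (b ^ n * e * (b ^ n)⁻¹) * b⁻¹ := by rw [pow_succ']; group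
        _ = (b * e * b⁻¹) * (b * c ^ n * b⁻¹) := by rw [ih]; group
        _ = e * c * c ^ n := by rw [hbe, ((show Commute b c from hbc).pow_right n).eq, mul_inv_cancel_right]
        _ = _ := by rw [pow_succ']; group
  have hcZ : c ∉ Z := fun hc => hcE (hZE' hc)
  have hbP : b ∉ P := by
    intro hb
    have h1 := hab b hb e heP
    rw [hbe] at h1
    have h2 := hZn.conj_mem _ h1 e⁻¹
    have h3 : e⁻¹ * (e * c * e⁻¹) * e⁻¹⁻¹ = c := by group
    rw [h3] at h2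
    exact hcZ h2
  have hbpZ : b ^ p ∈ Z := by
    have h1 : ∀ y ∈ P, b ^ p * y = y * b ^ p := by
      apply hgenP
      · exact fun z hz => hMZ _ (pow_mem hbM p) z hz
      · have := hbn p
        rw [hPe c hcPm, mul_one] at this
        exact mul_inv_eq_iff_eq_mul.1 this
      · exact ((show Commute b c from hbc).pow_left p).eq
    exact hZmem _ (hcP _ (pow_mem hbM p) h1) h1
  -- C_P(c) = ⟨c⟩ Z
  have hZc' : ∀ a ∈ Z, ∀ b ∈ Z, a * b = b * a := fun a ha b hb => hZcen a ha b (hZP hb)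
  obtain ⟨k1, k2⟩ := sup_zpowers_elab hZc' (fun z hz => hPe z (hZP hz)) (y := c)
    (fun a ha => (hZcen a ha c hcPm).symm) (hPe c hcPm)
  have hCP : Z ⊔ Subgroup.zpowers c ≤ P := sup_le hZP (by rw [Subgroup.zpowers_le]; exact hcPm)
  have hCcard : p * Nat.card Z ≤ Nat.card (Z ⊔ Subgroup.zpowers c : Subgroup L) := by
    apply Cfsg.Agent.H23.mul_card_le_of_lt (hPp.to_le hCP)
    refine lt_of_le_of_ne le_sup_left fun he => hcZ ?_
    rw [he]; exact (le_sup_right : Subgroup.zpowers c ≤ _) (Subgroup.mem_zpowers c)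
  have hCPc : ∀ g ∈ P, g * c = c * g → g ∈ Z ⊔ Subgroup.zpowers c := by
    intro g hg hgc
    let K : Subgroup L := P ⊓ Subgroup.centralizer {c}
    have hK : ∀ y, y ∈ K ↔ y ∈ P ∧ y * c = c * y := fun y => by
      rw [Subgroup.mem_inf, Subgroup.mem_centralizer_singleton_iff]
    have h1 : Z ⊔ Subgroup.zpowers c ≤ K := by
      refine sup_le (fun z hz => (hK z).2 ⟨hZP hz, hZcen z hz c hcPm⟩) ?_
      rw [Subgroup.zpowers_le]; exact (hK c).2 ⟨hcPm, rfl⟩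
    have h2 : K < P := by
      refine lt_of_le_of_ne inf_le_left fun he => hec ?_
      have h3 : e ∈ K := by rw [he]; exact heP
      rw [((hK e).1 h3).2]; group
    have h3 := Cfsg.Agent.H23.mul_card_le_of_lt hPp h2
    have h4 : Z ⊔ Subgroup.zpowers c = K := by
      apply Subgroup.eq_of_le_of_card_ge h1
      rw [hP3] at h3
      have h5 : Nat.card K ≤ p ^ 2 := by
        apply Nat.le_of_mul_le_mul_left _ hpp.pos
        refine h3.trans (le_of_eq (by ring))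
      refine h5.trans ?_
      rw [hZc, ← pow_two] at hCcard
      exact hCcard
    rw [h4]; exact (hK g).2 ⟨hg, hgc⟩
  have hbC : ∀ a ∈ Z ⊔ Subgroup.zpowers c, b * a = a * b := by
    have hle : Z ⊔ Subgroup.zpowers c ≤ Subgroup.centralizer {b} := by
      refine sup_le ?_ ?_
      · intro a ha
        exact Subgroup.mem_centralizer_singleton_iff.2 (hMZ b hbM a ha).symm
      · rw [Subgroup.zpowers_le]
        exact Subgroup.mem_centralizer_singleton_iff.2 hbc.symm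
    intro a ha
    exact (Subgroup.mem_centralizer_singleton_iff.1 (hle ha)).symm
  have hbp1 : b ^ p ≠ 1 := by
    intro hbp
    obtain ⟨k3, k4⟩ := sup_zpowers_elab k1 k2 hbC hbp
    have h1 := hrk _ (sup_le (hCP.trans hPM) (by rw [Subgroup.zpowers_le]; exact hbM)) k3 k4
    have h3 : Z ⊔ Subgroup.zpowers c = (Z ⊔ Subgroup.zpowers c) ⊔ Subgroup.zpowers b := by
      apply Subgroup.eq_of_le_of_card_ge le_sup_left
      refine h1.trans ?_
      rw [hZc, ← pow_two] at hCcard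
      exact hCcard
    apply hbP
    apply hCP
    rw [h3]; exact (le_sup_right : Subgroup.zpowers b ≤ _) (Subgroup.mem_zpowers b)
  -- the action of b on W
  have hρb1 : ρ b ≠ 1 := by
    intro h0
    have h1 := hρw b ⟨e, heP⟩
    rw [h0, MulAut.one_apply, eq_comm, hweq] at h1
    have h1' : b * e * b⁻¹ * e⁻¹ ∈ Z := h1
    rw [hbe] at h1'
    have h2 := hZn.conj_mem _ h1' e⁻¹
    have h3 : e⁻¹ * (e * c * e⁻¹) * e⁻¹⁻¹ = c := by group
    rw [h3] at h2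
    exact hcZ h2
  have hρbp : (ρ b) ^ p = 1 := hRpow _ ⟨b, hbM, rfl⟩
  have hRz : Subgroup.zpowers (ρ b) = M.map ρ := by
    apply Subgroup.eq_of_le_of_card_ge (by rw [Subgroup.zpowers_le]; exact ⟨b, hbM, rfl⟩)
    rw [Nat.card_zpowers, orderOf_eq_prime hρbp hρb1]; exact hRc
  set v := w ⟨c, hcPm⟩ with hvdef
  set x := w ⟨e, heP⟩ with hxdef
  have hbv : ρ b v = v := by
    rw [hvdef, hρw, hweq]
    show b * c * b⁻¹ * c⁻¹ ∈ Z
    rw [hbc, mul_inv_cancel_right, mul_inv_cancel]; exact one_mem _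
  have hbx : ρ b x = x * v := by
    rw [hxdef, hρw, hvdef, ← map_mul, hweq]
    show b * e * b⁻¹ * (e * c)⁻¹ ∈ Z
    rw [hbe, mul_inv_cancel]; exact one_mem _
  have hv1 : v ≠ 1 := fun h0 => hcZ ((hw1 _).1 h0)
  have hFc := card_fix hW2 hρbp hρb1
  have hFz : Subgroup.zpowers v = fixW (ρ b) := by
    apply Subgroup.eq_of_le_of_card_ge (by rw [Subgroup.zpowers_le]; exact hbv)
    rw [hFc, Nat.card_zpowers, orderOf_eq_prime (hWe v) hv1]
  have hFix : ∀ y ∈ P, b * y * b⁻¹ * y⁻¹ ∈ Z → y ∈ Z ⊔ Subgroup.zpowers c := by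
    intro y hy hyz
    have h1 : w ⟨y, hy⟩ ∈ fixW (ρ b) := by
      show ρ b (w ⟨y, hy⟩) = w ⟨y, hy⟩
      rw [hρw, hweq]; exact hyz
    rw [← hFz] at h1
    obtain ⟨k, hk⟩ := h1
    have h2 : w ⟨y, hy⟩ = w (⟨c, hcPm⟩ ^ k) := by rw [map_zpow]; exact hk.symm
    rw [hweq] at h2
    have h3 : y * ((c ^ k : L))⁻¹ ∈ Z := by simpa using h2
    have h4 : y = (y * (c ^ k)⁻¹) * c ^ k := by group
    rw [h4]
    exact mul_mem ((le_sup_left : Z ≤ _) h3) ((le_sup_right : Subgroup.zpowers c ≤ _) ⟨k, rfl⟩)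
  have hFixc : ∀ n ∈ M, n * c * n⁻¹ * c⁻¹ ∈ Z := by
    intro n hn
    have h1 : ρ n ∈ Subgroup.zpowers (ρ b) := by rw [hRz]; exact ⟨n, hn, rfl⟩
    have h2 : Subgroup.zpowers (ρ b) ≤ MulAction.stabilizer (MulAut W) v := by
      rw [Subgroup.zpowers_le]; exact hbv
    have h3 : ρ n v = v := h2 h1
    rw [hvdef, hρw, hweq] at h3
    exact h3
  have hcomm1 : b * (h⁻¹ * c * h) = (h⁻¹ * c * h) * b := by
    apply hbC
    apply hFix
    · have := hmem_conj h⁻¹ hcPm; rwa [inv_inv] at this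
    · have h1 := hFixc (h * b * h⁻¹) (hM.conj_mem b hbM h)
      have h2 := hZn.conj_mem _ h1 h⁻¹
      have h3 : h⁻¹ * (h * b * h⁻¹ * c * (h * b * h⁻¹)⁻¹ * c⁻¹) * h⁻¹⁻¹ = b * (h⁻¹ * c * h) * b⁻¹ * (h⁻¹ * c * h)⁻¹ := by group
      rw [h3] at h2; exact h2
  have hy2 : h * c * h⁻¹ ∈ Z ⊔ Subgroup.zpowers c := by
    apply hFix _ (hmem_conj h hcPm)
    have h1 := hFixc (h⁻¹ * b * h) (by have := hM.conj_mem b hbM h⁻¹; rwa [inv_inv] at this)
    have h2 := hZn.conj_mem _ h1 h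
    have h3 : h * (h⁻¹ * b * h * c * (h⁻¹ * b * h)⁻¹ * c⁻¹) * h⁻¹ = b * (h * c * h⁻¹) * b⁻¹ * (h * c * h⁻¹)⁻¹ := by group
    rw [h3] at h2; exact h2
  have hcC : c ∈ Z ⊔ Subgroup.zpowers c := (le_sup_right : Subgroup.zpowers c ≤ _) (Subgroup.mem_zpowers c)
  have hCcard2 : Nat.card (Z ⊔ Subgroup.zpowers c : Subgroup L) ≤ p ^ 2 :=
    hrk _ (hCP.trans hPM) k1 k2
  have hEC : ∀ y ∈ E, y ∈ Z ⊔ Subgroup.zpowers c → y ∈ Z := by
    intro y hyE hyC
    have h1 : Z ≤ E ⊓ (Z ⊔ Subgroup.zpowers c) := le_inf hZE' le_sup_left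
    have h2 : E ⊓ (Z ⊔ Subgroup.zpowers c) < Z ⊔ Subgroup.zpowers c := by
      refine lt_of_le_of_ne inf_le_right fun he => hcE ?_
      have : c ∈ E ⊓ (Z ⊔ Subgroup.zpowers c) := by rw [he]; exact hcC
      exact this.1
    have h3 := Cfsg.Agent.H23.mul_card_le_of_lt (hPp.to_le hCP) h2
    have h4 : Z = E ⊓ (Z ⊔ Subgroup.zpowers c) := by
      apply Subgroup.eq_of_le_of_card_ge h1
      rw [hZc]
      apply Nat.le_of_mul_le_mul_left _ hpp.pos
      rw [← pow_two]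
      exact h3.trans hCcard2
    rw [h4]; exact ⟨hyE, hyC⟩
  have hhv : ρ h v = v ^ 4 := by
    rw [hvdef, hρw, ← map_pow, hweq]
    show h * c * h⁻¹ * (c ^ 4)⁻¹ ∈ Z
    exact hEC _ (hh4 c hcPm) (mul_mem hy2 (inv_mem (pow_mem hcC 4)))
  have hhx : (ρ h x) ^ 2 = x := by
    rw [hxdef, hρw, ← map_pow, hweq]
    obtain ⟨z, hzP, hzc, hze⟩ := hhE2 e heE
    show (h * e * h⁻¹) ^ 2 * e⁻¹ ∈ Z
    rw [hze, mul_inv_cancel_right]
    exact hZmem z hzP hzc
  have hbxn : ∀ n : ℕ, ((ρ b) ^ n) x = x * v ^ n := by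
    intro n
    induction n with
    | zero => simp
    | succ n ih => rw [pow_succ', MulAut.mul_apply, ih, map_mul, map_pow, hbv, hbx, mul_assoc, ← pow_succ']
  have hbvn : ∀ n : ℕ, ((ρ b) ^ n) v = v := by
    intro n
    induction n with
    | zero => simp
    | succ n ih => rw [pow_succ', MulAut.mul_apply, ih, hbv]
  have hsqW : ∀ s : W, s * s = 1 → s = 1 := by
    intro s hs
    have h1 := pow_odd_of_sq hs hodd
    rw [hWe] at h1; exact h1.symm
  have hEqv : (ρ h * ρ b) v = ((ρ b) ^ 8 * ρ h) v := by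
    rw [MulAut.mul_apply, MulAut.mul_apply, hbv, hhv, map_pow, hbvn]
  have hEqx : (ρ h * ρ b) x = ((ρ b) ^ 8 * ρ h) x := by
    rw [MulAut.mul_apply, MulAut.mul_apply, hbx, map_mul, hhv]
    have h1 : ((ρ b) ^ 8) (ρ h x) * (ρ h x * v ^ 4)⁻¹ = 1 := by
      apply hsqW
      have h2 : (((ρ b) ^ 8) (ρ h x) * (ρ h x * v ^ 4)⁻¹) * (((ρ b) ^ 8) (ρ h x) * (ρ h x * v ^ 4)⁻¹) =
          ((ρ b) ^ 8) ((ρ h x) ^ 2) * ((ρ h x) ^ 2 * v ^ 8)⁻¹ := by
        rw [← pow_two, (show Commute (((ρ b) ^ 8) (ρ h x)) ((ρ h x * v ^ 4)⁻¹) from hWc _ _).mul_pow,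
          ← map_pow, inv_pow, (show Commute (ρ h x) (v ^ 4) from hWc _ _).mul_pow, ← pow_mul]
      rw [h2, hhx, hbxn, mul_inv_cancel]
    exact (mul_inv_eq_one.1 h1).symm
  have hEqW : ρ h * ρ b = (ρ b) ^ 8 * ρ h := by
    let K : Subgroup W := (ρ h * ρ b).toMonoidHom.eqLocus ((ρ b) ^ 8 * ρ h).toMonoidHom
    have hvK : v ∈ K := hEqv
    have hxK : x ∈ K := hEqx
    have h1 : Subgroup.zpowers v < K := by
      refine lt_of_le_of_ne (by rw [Subgroup.zpowers_le]; exact hvK) fun he => ?_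
      have h2 : x ∈ fixW (ρ b) := by rw [← hFz, he]; exact hxK
      have h3 : ρ b x = x := h2
      rw [hbx] at h3
      exact hv1 (mul_eq_left.1 h3)
    have hWp : IsPGroup p W := IsPGroup.of_card hW2
    have h2 := Cfsg.Agent.H23.mul_card_le_of_lt (hWp.to_subgroup K) h1
    rw [Nat.card_zpowers, orderOf_eq_prime (hWe v) hv1, ← pow_two] at h2
    have h3 : K = ⊤ := by
      apply Subgroup.eq_of_le_of_card_ge le_top
      rw [Subgroup.card_top, hW2]; exact h2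
    apply MulEquiv.ext
    intro a
    have : a ∈ K := by rw [h3]; exact Subgroup.mem_top _
    exact this
  -- the element g
  set b' := h * b * h⁻¹ with hb'def
  have hb'M : b' ∈ M := hM.conj_mem b hbM h
  have hb'c : b' * c = c * b' := by
    calc b' * c = h * (b * (h⁻¹ * c * h)) * h⁻¹ := by rw [hb'def]; group
      _ = h * ((h⁻¹ * c * h) * b) * h⁻¹ := by rw [hcomm1]
      _ = _ := by rw [hb'def]; group
  set g := b' * (b ^ 8)⁻¹ with hgdef
  have hgM : g ∈ M := mul_mem hb'M (inv_mem (pow_mem hbM 8))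
  have hgc : g * c = c * g := ((show Commute b' c from hb'c).mul_left
    (((show Commute b c from hbc).pow_left 8).inv_left)).eq
  have hρg : ρ g = 1 := by
    rw [hgdef, hb'def, map_mul, map_mul, map_mul, map_inv, map_inv, map_pow, hEqW, mul_inv_cancel_right, mul_inv_cancel]
  have hge : g * e * g⁻¹ * e⁻¹ ∈ Z := by
    have h1 := hρw g ⟨e, heP⟩
    rw [hρg, MulAut.one_apply, eq_comm, hweq] at h1
    exact h1
  have hce : c * e * c⁻¹ = (e * c * e⁻¹ * c⁻¹)⁻¹ * e := by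
    have h1 : (e * c * e⁻¹ * c⁻¹)⁻¹ = c * e * c⁻¹ * e⁻¹ := by group
    rw [h1, inv_mul_cancel_right]
  obtain ⟨j, hj⟩ : ∃ j : ℤ, (e * c * e⁻¹ * c⁻¹) ^ j = g * e * g⁻¹ * e⁻¹ := by
    have h1 := hge
    rw [← hZgen] at h1
    exact h1
  have hcj : c ^ j * e * (c ^ j)⁻¹ = (g * e * g⁻¹ * e⁻¹)⁻¹ * e := by
    rw [conj_zpow_central hce (hZcen _ (Z.inv_mem hecZ) c hcPm).symm j, inv_zpow, hj]
  have hgP : g ∈ P := by
    have h1 : g * c ^ j ∈ P := by
      apply hcP _ (mul_mem hgM (M.zpow_mem (hPM hcPm) j))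
      apply hgenP
      · exact fun z hz => hMZ _ (mul_mem hgM (M.zpow_mem (hPM hcPm) j)) z hz
      · apply mul_inv_eq_iff_eq_mul.1
        calc g * c ^ j * e * (g * c ^ j)⁻¹ = g * (c ^ j * e * (c ^ j)⁻¹) * g⁻¹ := by group
          _ = (g * (g * e * g⁻¹ * e⁻¹)⁻¹ * g⁻¹) * (g * e * g⁻¹) := by rw [hcj]; group
          _ = (g * e * g⁻¹ * e⁻¹)⁻¹ * (g * e * g⁻¹) := by
            rw [hMZ g hgM _ (Z.inv_mem hge), mul_inv_cancel_right]
          _ = e := by group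
      · exact ((show Commute g c from hgc).mul_left ((Commute.refl c).zpow_left j)).eq
    have h2 := mul_mem h1 (inv_mem (P.zpow_mem hcPm j))
    rwa [mul_inv_cancel_right] at h2
  have hgC := hCPc g hgP hgc
  have hbg := hbC g hgC
  have hb'p : b' ^ p = (b ^ p) ^ 8 := by
    have h1 : b' = g * b ^ 8 := by rw [hgdef]; group
    rw [h1, ((show Commute b g from hbg).symm.pow_right 8).mul_pow, hPe g hgP, one_mul, ← pow_mul, ← pow_mul, mul_comm]
  have hb'p2 : b' ^ p = (b ^ p) ^ 2 := by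
    rw [hb'def, conj_pow]
    exact hhZ _ (hZP hbpZ) (hZcen _ hbpZ)
  have h6 : (b ^ p) ^ 6 = 1 := by
    rw [hb'p2] at hb'p
    have h7 : (b ^ p) ^ 8 = (b ^ p) ^ 2 * (b ^ p) ^ 6 := by rw [← pow_add]
    rw [h7] at hb'p
    exact (mul_eq_left.1 hb'p.symm)
  have h7 : orderOf (b ^ p) = p := orderOf_eq_prime (hPe _ (hZP hbpZ)) hbp1
  have h8 : p ∣ 6 := by rw [← h7]; exact orderOf_dvd_of_pow_eq_one h6
  have h9 := Nat.le_of_dvd (by norm_num) h8
  interval_cases p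
  · omega
  · exact absurd hpp (by norm_num)

end

end Cfsg.Agent.H13.Rk2
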