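import Mathlib
import Cfsg.Agent.H13.Rk2F
import Cfsg.Agent.H13.Rk2D

/-!
# Rank two: pearls
-/

set_option autoImplicit false
set_option linter.all false
open Cfsg

namespace Cfsg.Agent.H13.Rk2

open Cfsg.Agent.H28

universe u

variable {p : ℕ} [hp : Fact p.Prime]

structure Pearl (p : ℕ) (X : Type*) [Group X] (E : Subgroup X) (η : MulAut X) : Prop where
  card : Nat.card X = p ^ 3
  exp : ∀ y : X, y ^ p = 1
  cardE : Nat.card E = p ^ 2
  nc : ∃ a b : X, a * b ≠ b * a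
  comm : ∀ a ∈ E, ∀ b ∈ E, a * b = b * a
  inv : ∀ e ∈ E, η e ∈ E
  zE : ∀ z : X, (∀ y, z * y = y * z) → z ∈ E
  zz : ∀ z : X, (∀ y, z * y = y * z) → η z = z ^ 2
  ee : ∀ e ∈ E, ∃ z : X, (∀ y, z * y = y * z) ∧ (η e) ^ 2 = z * e
  four : ∀ y : X, η y * (y ^ 4)⁻¹ ∈ E

theorem Pearl.map {X Y : Type*} [Group X] [Group Y] {E : Subgroup X} {η : MulAut X} (h : Pearl p X E η)
    (e : X ≃* Y) {η' : MulAut Y} (hη : ∀ x, η' (e x) = e (η x)) : Pearl p Y (E.map e.toMonoidHom) η' where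
  card := by rw [← Nat.card_congr e.toEquiv]; exact h.card
  exp := fun y => by
    obtain ⟨x, rfl⟩ := e.surjective y
    rw [← map_pow, h.exp, map_one]
  cardE := by rw [Subgroup.card_map_of_injective e.injective]; exact h.cardE
  nc := by
    obtain ⟨a, b, hab⟩ := h.nc
    refine ⟨e a, e b, fun h1 => hab (e.injective ?_)⟩
    rw [map_mul, map_mul]; exact h1
  comm := by
    rintro _ ⟨a, ha, rfl⟩ _ ⟨b, hb, rfl⟩
    show e a * e b = e b * e a
    rw [← map_mul, ← map_mul, h.comm a ha b hb]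
  inv := by
    rintro _ ⟨a, ha, rfl⟩
    exact ⟨η a, h.inv a ha, (hη a).symm⟩
  zE := fun z hz => by
    obtain ⟨x, rfl⟩ := e.surjective z
    exact ⟨x, h.zE x fun y => e.injective (by rw [map_mul, map_mul]; exact hz (e y)), rfl⟩
  zz := fun z hz => by
    obtain ⟨x, rfl⟩ := e.surjective z
    rw [hη, h.zz x fun y => e.injective (by rw [map_mul, map_mul]; exact hz (e y)), map_pow]
  ee := by
    rintro _ ⟨a, ha, rfl⟩
    obtain ⟨z, hz, h1⟩ := h.ee a ha
    refine ⟨e z, fun y => ?_, ?_⟩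
    · obtain ⟨x, rfl⟩ := e.surjective y
      rw [← map_mul, ← map_mul, hz]
    · show (η' (e a)) ^ 2 = e z * e a
      rw [hη, ← map_pow, h1, map_mul]
  four := fun y => by
    obtain ⟨x, rfl⟩ := e.surjective y
    refine ⟨_, h.four x, ?_⟩
    show e (η x * (x ^ 4)⁻¹) = _
    rw [map_mul, map_inv, map_pow, hη]

section
variable {L : Type u} [Group L] [Finite L]

theorem thmA (hp5 : 5 ≤ p) (P : Sylow p L) (hPE : (P : Subgroup L) ≠ pCore p L)
    (hcent : Subgroup.centralizer ((pCore p L : Subgroup L) : Set L) ≤ pCore p L)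
    (hrk : ∀ V : Subgroup L, V ≤ P → (∀ a ∈ V, ∀ b ∈ V, a * b = b * a) → (∀ a ∈ V, a ^ p = 1) →
      Nat.card V ≤ p ^ 2) :
    ∃ (η : MulAut (P : Subgroup L)) (h : L), (∀ y : (P : Subgroup L), ((η y : (P : Subgroup L)) : L) = h * y * h⁻¹) ∧
      Pearl p (P : Subgroup L) ((pCore p L).subgroupOf P) η := by
  have hpp := hp.out
  have hp2 : p ≠ 2 := by omega
  have hodd : Odd p := hpp.eq_two_or_odd'.resolve_left hp2
  obtain ⟨D, hDn, hDE, hDe, hdet, -⟩ := exists_D (p := p) (L := L) hp2 hcent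
  by_cases hDc : ∀ a ∈ D, ∀ b ∈ D, a * b = b * a
  · obtain ⟨hE2, hP3, hEe, hEc, b₁, hb₁, x, hxP, h, hb1, hxE, hxp, ⟨e₀, he₀, hxe₀⟩, hfix, hhb, hhd, hhy⟩ :=
      caseI hp5 P hPE hrk hDn hDE hDe hdet hDc
    have hEP : pCore p L ≤ (P : Subgroup L) := pCore_le_sylow P
    have hEn : (pCore p L).Normal := normal_pCore
    have hPp : IsPGroup p (P : Subgroup L) := P.2
    have hhP : ∀ y ∈ (P : Subgroup L), h * y * h⁻¹ ∈ (P : Subgroup L) := by
      intro y hy
      have h1 := mul_mem (hEP (hhy y hy)) (pow_mem hy 4)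
      rwa [inv_mul_cancel_right] at h1
    have hnorm : (P : Subgroup L).map (MulAut.conj h).toMonoidHom = P := by
      apply Subgroup.eq_of_le_of_card_ge
      · rintro _ ⟨y, hy, rfl⟩
        exact hhP y hy
      · rw [Subgroup.card_map_of_injective (MulAut.conj h).injective]
    have hbij : ∀ y ∈ (P : Subgroup L), ∃ z ∈ (P : Subgroup L), h * z * h⁻¹ = y := by
      intro y hy
      rw [← hnorm] at hy
      obtain ⟨z, hz, hzy⟩ := hy
      exact ⟨z, hz, hzy⟩
    let η0 : (P : Subgroup L) →* (P : Subgroup L) :=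
      { toFun := fun y => ⟨h * y * h⁻¹, hhP y y.2⟩
        map_one' := Subtype.ext (by simp)
        map_mul' := fun a b => Subtype.ext (by simp [mul_assoc]) }
    have hη0 : Function.Bijective η0 := by
      constructor
      · intro a b hab
        have h1 : h * (a : L) * h⁻¹ = h * b * h⁻¹ := congrArg Subtype.val hab
        exact Subtype.ext (mul_left_cancel (mul_right_cancel h1))
      · intro y
        obtain ⟨z, hz, hzy⟩ := hbij y y.2
        exact ⟨⟨z, hz⟩, Subtype.ext hzy⟩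
    let η : MulAut (P : Subgroup L) := MulEquiv.ofBijective η0 hη0
    have hη : ∀ y : (P : Subgroup L), ((η y : (P : Subgroup L)) : L) = h * y * h⁻¹ := fun y => rfl
    have hnc : ¬ IsMulCommutative (P : Subgroup L) := fun hc =>
      hxe₀ (congrArg Subtype.val (hc.is_comm.comm ⟨x, hxP⟩ ⟨e₀, hEP he₀⟩))
    have hex := Cfsg.Agent.H19.extraspecial_of_card_cube hP3 hnc
    -- exponent p
    have hcc : commutator (P : Subgroup L) = Subgroup.center (P : Subgroup L) := hex.1.2.2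
    have hpow : ∀ a b : (P : Subgroup L), (a * b) ^ p = a ^ p * b ^ p := by
      intro a b
      rw [Cfsg.Agent.S0841.result hcc.le a b p]
      have hc : (b⁻¹ * a⁻¹ * b * a) ∈ Subgroup.center (P : Subgroup L) := by
        rw [← hcc]
        have h3 := Subgroup.commutator_mem_commutator (Subgroup.mem_top b⁻¹) (Subgroup.mem_top a⁻¹)
        rw [commutatorElement_def, inv_inv, inv_inv] at h3
        exact h3
      have h4 : (b⁻¹ * a⁻¹ * b * a) ^ p = 1 := by
        have h5 : (⟨_, hc⟩ : Subgroup.center (P : Subgroup L)) ^ Nat.card (Subgroup.center (P : Subgroup L)) = 1 := pow_card_eq_one'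
        rw [hex.2] at h5
        exact congrArg Subtype.val h5
      obtain ⟨m, hm⟩ := hodd
      have h6 : p * (p - 1) / 2 = p * m := by
        have : p - 1 = 2 * m := by omega
        rw [this]
        have : p * (2 * m) = (p * m) * 2 := by ring
        rw [this]
        exact Nat.mul_div_cancel _ (by norm_num)
      rw [h6, pow_mul, h4, one_pow, mul_one]
    let f : (P : Subgroup L) →* (P : Subgroup L) := { toFun := fun y => y ^ p, map_one' := one_pow _, map_mul' := hpow }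
    have hfk : f.ker = ⊤ := by
      have h1 : (pCore p L).subgroupOf P < f.ker := by
        refine lt_of_le_of_ne (fun y hy => ?_) fun he => hxE ?_
        · exact MonoidHom.mem_ker.2 (Subtype.ext (hEe y hy))
        · have h2 : (⟨x, hxP⟩ : (P : Subgroup L)) ∈ f.ker := MonoidHom.mem_ker.2 (Subtype.ext hxp)
          rw [← he] at h2; exact h2
      have h2 := Cfsg.Agent.H23.mul_card_le_of_lt (hPp.to_subgroup f.ker) h1
      rw [Nat.card_congr (Subgroup.subgroupOfEquivOfLe hEP).toEquiv, hE2] at h2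
      apply Subgroup.eq_of_le_of_card_ge le_top
      rw [Subgroup.card_top, hP3]
      calc p ^ 3 = p * p ^ 2 := by ring
        _ ≤ _ := h2
    have hcen : ∀ z : (P : Subgroup L), (∀ y, z * y = y * z) → (z : L) ∈ Subgroup.zpowers b₁ := by
      intro z hz
      have h1 : Subgroup.zpowers (⟨b₁, hEP hb₁⟩ : (P : Subgroup L)) = Subgroup.center (P : Subgroup L) := by
        apply Subgroup.eq_of_le_of_card_ge
        · rw [Subgroup.zpowers_le, Subgroup.mem_center_iff]
          exact fun y => Subtype.ext (hfix y y.2)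
        · rw [hex.2, Nat.card_zpowers, Subgroup.orderOf_mk, orderOf_eq_prime (hEe b₁ hb₁) hb1]
      have h2 : z ∈ Subgroup.zpowers (⟨b₁, hEP hb₁⟩ : (P : Subgroup L)) := by
        rw [h1, Subgroup.mem_center_iff]; exact fun y => (hz y).symm
      obtain ⟨k, hk⟩ := h2
      exact ⟨k, by have := congrArg Subtype.val hk; simpa using this⟩
    refine ⟨η, h, hη, ⟨hP3, ?_, ?_, ⟨⟨x, hxP⟩, ⟨e₀, hEP he₀⟩, fun h1 => hxe₀ (congrArg Subtype.val h1)⟩, ?_, ?_, ?_, ?_, ?_, ?_⟩⟩
    · intro y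
      have : y ∈ f.ker := by rw [hfk]; exact Subgroup.mem_top _
      exact this
    · rw [Nat.card_congr (Subgroup.subgroupOfEquivOfLe hEP).toEquiv]; exact hE2
    · intro a ha b hb
      exact Subtype.ext (hEc a ha b hb)
    · intro e he
      show ((η e : (P : Subgroup L)) : L) ∈ pCore p L
      rw [hη]; exact hEn.conj_mem _ he h
    · intro z hz
      exact (Subgroup.zpowers_le.2 hb₁) (hcen z hz)
    · intro z hz
      apply Subtype.ext
      rw [hη]
      obtain ⟨k, hk⟩ := hcen z hz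
      have hk' : b₁ ^ k = z := hk
      show h * (z : L) * h⁻¹ = (z : L) ^ 2
      rw [← hk', ← conj_zpow, hhb, ← zpow_natCast, ← zpow_natCast, ← zpow_mul, ← zpow_mul, mul_comm]
    · intro e he
      obtain ⟨i, hi⟩ := hhd e he
      refine ⟨⟨b₁ ^ i, pow_mem (hEP hb₁) i⟩, fun y => Subtype.ext ?_, Subtype.ext ?_⟩
      · exact ((show Commute (y : L) b₁ from hfix y y.2).pow_right i).eq.symm
      · show ((η e : (P : Subgroup L)) : L) ^ 2 = b₁ ^ i * e
        rw [hη]; exact hi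
    · intro y
      exact hhy y y.2
  · exact (caseII hp5 P hPE hrk hDn hDE hDe hdet hDc).elim

theorem lemmaF' (hp5 : 5 ≤ p) {X : Type*} [Group X] {E : Subgroup X} {η : MulAut X} (hpe : Pearl p X E η)
    {M : Subgroup L} (hM : M.Normal) (hMp : IsPGroup p M) {θ : X →* L} (hθ : Function.Injective θ)
    (hP : θ.range.Normal) (hPM : θ.range ≤ M)
    (hcP : ∀ m ∈ M, (∀ y : X, m * θ y = θ y * m) → m ∈ θ.range)
    {m : L} (hmM : m ∈ M) {e : X} (heE : e ∈ E) (hme : ∀ e' ∈ E, m * θ e * m⁻¹ ≠ θ e') {h : L}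
    (hh : ∀ y : X, h * θ y * h⁻¹ = θ (η y))
    (hrk : ∀ V : Subgroup L, V ≤ M → (∀ a ∈ V, ∀ b ∈ V, a * b = b * a) → (∀ a ∈ V, a ^ p = 1) →
      Nat.card V ≤ p ^ 2) : False := by
  have hcen : ∀ {z : X}, (∀ y ∈ θ.range, θ z * y = y * θ z) → ∀ y, z * y = y * z := by
    intro z hz y
    apply hθ
    rw [map_mul, map_mul]
    exact hz _ ⟨y, rfl⟩
  refine lemmaF hp5 (E := E.map θ) hM hMp hP hPM ?_ ?_ ?_ ?_ ?_ ?_ hmM (e := θ e) ⟨e, heE, rfl⟩ ?_ (h := h) ?_ ?_ ?_ ?_ ?_ hrk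
  · rw [← hpe.card]; exact (Nat.card_congr (MonoidHom.ofInjective hθ).toEquiv).symm
  · rintro _ ⟨y, rfl⟩
    rw [← map_pow, hpe.exp, map_one]
  · intro m hm h1
    exact hcP m hm fun y => h1 _ ⟨y, rfl⟩
  · rintro _ ⟨y, -, rfl⟩
    exact ⟨y, rfl⟩
  · rw [Subgroup.card_map_of_injective hθ]; exact hpe.cardE
  · obtain ⟨a, b, hab⟩ := hpe.nc
    refine ⟨θ a, ⟨a, rfl⟩, θ b, ⟨b, rfl⟩, fun h1 => hab (hθ ?_)⟩
    rw [map_mul, map_mul]; exact h1
  · rintro ⟨e', he', h1⟩
    exact hme e' he' h1.symm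
  · rintro _ ⟨y, hy, rfl⟩
    rw [hh]; exact ⟨η y, hpe.inv y hy, rfl⟩
  · rintro _ ⟨z, rfl⟩ hz
    exact ⟨z, hpe.zE z (hcen hz), rfl⟩
  · rintro _ ⟨z, rfl⟩ hz
    rw [hh, hpe.zz z (hcen hz), map_pow]
  · rintro _ ⟨y, hy, rfl⟩
    obtain ⟨z, hz, h1⟩ := hpe.ee y hy
    refine ⟨θ z, ⟨z, rfl⟩, ?_, ?_⟩
    · rintro _ ⟨y', rfl⟩
      rw [← map_mul, ← map_mul, hz]
    · rw [hh, ← map_pow, h1, map_mul]
  · rintro _ ⟨y, rfl⟩
    refine ⟨_, hpe.four y, ?_⟩
    rw [hh, map_mul, map_inv, map_pow]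

end

end Cfsg.Agent.H13.Rk2
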