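import Mathlib
import Cfsg.Agent.H13.Rk2G
import Cfsg.Agent.H13.FusCtl2
import Cfsg.Agent.H28.Model6

/-!
# Rank two: no essential subgroups
-/

set_option autoImplicit false
set_option linter.all false
open Cfsg Cfsg.FusionSystem

namespace Cfsg.Agent.H13.Rk2

open Cfsg.Agent.H28

universe u

variable {p : ℕ} [hp : Fact p.Prime] {Ω : Type u} [Group Ω] {S : Subgroup Ω} [Finite S] {F : FusionSystem S}

theorem rank_model {L : Type u} [Group L] {K : Subgroup Ω} (hKS : K ≤ S) {ι : K →* L}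
    (hι : Function.Injective ι)
    (hrank3 : ∀ E : Subgroup Ω, E ≤ S → IsElementaryAbelian p E → Nat.card E ≤ p ^ 2) {V : Subgroup L}
    (hV : V ≤ ι.range) (hc : ∀ a ∈ V, ∀ b ∈ V, a * b = b * a) (he : ∀ a ∈ V, a ^ p = 1) :
    Nat.card V ≤ p ^ 2 := by
  have h1 : (V.comap ι).map ι = V := Subgroup.map_comap_eq_self hV
  have h2 : Nat.card (V.comap ι) = Nat.card V := by
    conv_rhs => rw [← h1]
    exact (Subgroup.card_map_of_injective hι).symm
  have h3 := hrank3 ((V.comap ι).map K.subtype) ((Subgroup.map_subtype_le _).trans hKS) ?_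
  · rwa [Subgroup.card_map_of_injective K.subtype_injective, h2] at h3
  · refine ⟨⟨⟨?_⟩⟩, ?_⟩
    · rintro ⟨_, a, ha, rfl⟩ ⟨_, b, hb, rfl⟩
      apply Subtype.ext
      have h4 : a * b = b * a := hι (by rw [map_mul, map_mul]; exact hc _ ha _ hb)
      have h5 : ((a * b : K) : Ω) = ((b * a : K) : Ω) := by rw [h4]
      exact h5
    · rintro _ ⟨a, ha, rfl⟩
      have h4 : a ^ p = 1 := hι (by rw [map_pow, map_one]; exact he _ ha)
      have h5 : ((a ^ p : K) : Ω) = ((1 : K) : Ω) := by rw [h4]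
      exact h5

theorem model_ne (hS : IsPGroup p S) (hF : F.IsSaturated p) {E : Subgroup Ω} (hE : F.IsEssential p E)
    {L : Type u} [Group L] {ι : normalizerIn S E →* L} (hr : (normSys F E hE.1.1).IsRealizedBy ι)
    (hn : (ι.range : Subgroup L).Normal) : False := by
  have hES := hE.1.1
  haveI : Finite E := finite_of_le hES
  haveI := finite_mulAut (P := E)
  have hEK : E ≤ normalizerIn S E := le_normalizerIn hES
  have hKS : normalizerIn S E ≤ S := normalizerIn_le
  refine essential_no_normal hS hF hE ((autInducedBy S E).subgroupOf (F.autGroup E)) ?_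
    ((isPGroup_autInducedBy hS).comap_of_injective (F.autGroup E).subtype (Subgroup.subtype_injective _)) le_rfl
  refine ⟨fun β hβ α => ?_⟩
  rw [Subgroup.mem_subgroupOf] at hβ ⊢
  obtain ⟨s, hs, hβs⟩ := mem_autInducedBy'.1 hβ
  have hsN := normalizer_of_autFun hβs
  have hsK : s ∈ normalizerIn S E := ⟨hs, hsN⟩
  have hαM : Mor (normSys F E hES) E (autFun (α : MulAut E)) :=
    mor_normSys.2 ⟨hEK, fun x hx => hEK (autFun_mem _ hx), autFun (α : MulAut E),
      (mor_autFun hES α.2).mono (sup_le le_rfl le_rfl), fun _ _ => rfl, img_autFun _⟩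
  obtain ⟨-, -, g, hg⟩ := (mor_realized hr).1 hαM
  have h1 : g * tf ι s * g⁻¹ ∈ ι.range := hn.conj_mem _ (tf_mem_range hsK) g
  obtain ⟨hs'K, hs'⟩ := tfi_spec h1
  set s' := tfi ι (g * tf ι s * g⁻¹) with hs'def
  refine mem_autInducedBy'.2 ⟨s', hKS hs'K, fun x hx => ?_⟩
  have hy : autFun (α : MulAut E)⁻¹ x ∈ E := autFun_mem _ hx
  have hxy : autFun (α : MulAut E) (autFun (α : MulAut E)⁻¹ x) = x := autFun_apply_inv _ hx
  set y := autFun (α : MulAut E)⁻¹ x with hydef
  have hsy : s * y * s⁻¹ ∈ E := by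
    have := (Subgroup.mem_normalizer_iff.1 hsN y).1 hy
    exact this
  have e1 : autFun ((α * β * α⁻¹ : F.autGroup E) : MulAut E) x = autFun (α : MulAut E) (s * y * s⁻¹) := by
    show autFun ((α : MulAut E) * (β : MulAut E) * (α : MulAut E)⁻¹) x = _
    rw [autFun_mul _ _ hx, autFun_mul _ _ hy, hβs y hy]
  rw [e1]
  apply tf_inj hr.1 (hEK (autFun_mem _ hsy)) (mul_mem (mul_mem hs'K (hEK hx)) (inv_mem hs'K))
  rw [hg _ hsy, tf_conj hsK (hEK hy), tf_conj hs'K (hEK hx), hs']
  have e2 : tf ι x = g * tf ι y * g⁻¹ := by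
    rw [← hg y hy, hxy]
  rw [e2]
  group

theorem exists_pearl (hS : IsPGroup p S) (hF : F.IsSaturated p) (hp5 : 5 ≤ p)
    (hrank3 : ∀ E : Subgroup Ω, E ≤ S → IsElementaryAbelian p E → Nat.card E ≤ p ^ 2)
    {E : Subgroup Ω} (hE : F.IsEssential p E) :
    ∃ η : MulAut (normalizerIn S E), η ∈ F.autGroup (normalizerIn S E) ∧
      Pearl p (normalizerIn S E) (E.subgroupOf (normalizerIn S E)) η := by
  have hES := hE.1.1
  have hEK : E ≤ normalizerIn S E := le_normalizerIn hES
  have hKS : normalizerIn S E ≤ S := normalizerIn_le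
  obtain ⟨L, _, ι, hM⟩ := norm_model_exists hS hF hE.2.1 hE.1
  have hM' := hM
  obtain ⟨hfin, hr, ⟨T, hT⟩, hC⟩ := hM
  haveI := hfin
  have hNn : (normSys F E hES).IsNormal E := norm_normal hES
  have hTne : (T : Subgroup L) ≠ pCore p L := by
    intro h
    refine model_ne hS hF hE hr ?_
    rw [← hT, h]; exact normal_pCore
  obtain ⟨ηT, h, hηT, hpe⟩ := thmA hp5 T hTne hC (fun V hV hc he => rank_model hKS hr.1 hrank3 (hV.trans hT.le) hc he)
  let e : normalizerIn S E ≃* (T : Subgroup L) := (MonoidHom.ofInjective hr.1).trans (MulEquiv.subgroupCongr hT.symm)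
  have he : ∀ k, ((e k : (T : Subgroup L)) : L) = ι k := fun k => rfl
  let η : MulAut (normalizerIn S E) := e.trans (ηT.trans e.symm)
  have hη : ∀ x : (T : Subgroup L), η (e.symm x) = e.symm (ηT x) := by
    intro x
    show e.symm (ηT (e (e.symm x))) = _
    rw [e.apply_symm_apply]
  have hηι : ∀ k, ι (η k) = h * ι k * h⁻¹ := by
    intro k
    rw [← he, ← he, ← hηT]
    show ((e (e.symm (ηT (e k))) : (T : Subgroup L)) : L) = _
    rw [e.apply_symm_apply]
  have hpe' := hpe.map e.symm hη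
  have hE0 : ((pCore p L).subgroupOf (T : Subgroup L)).map e.symm.toMonoidHom = E.subgroupOf (normalizerIn S E) := by
    have hEp : IsPGroup p E := isPGroup_of_le hS hES
    have h1 : E.subgroupOf (normalizerIn S E) ≤ ((pCore p L).subgroupOf (T : Subgroup L)).map e.symm.toMonoidHom := by
      intro x hx
      have h2 : tf ι (x : Ω) ∈ pCore p L := (mem_preimageAlong.1 (le_preimage_pCore hM' hEp hNn hx)).2
      rw [tf_coe] at h2
      refine ⟨e x, ?_, e.symm_apply_apply x⟩
      show ((e x : (T : Subgroup L)) : L) ∈ pCore p L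
      rw [he]; exact h2
    apply le_antisymm _ h1
    intro y hy
    have h3 : (y : Ω) ∈ centralizerIn S E := by
      rw [mem_centralizerIn]
      refine ⟨hKS y.2, fun x hx => ?_⟩
      exact congrArg Subtype.val (hpe'.comm y hy ⟨x, hEK hx⟩ (h1 hx))
    exact centric_centralizer hE.1 h3
  rw [hE0] at hpe'
  refine ⟨η, ?_, hpe'⟩
  have hmor : Mor (normSys F E hES) (normalizerIn S E) (autFun η) := by
    rw [mor_realized hr]
    refine ⟨le_rfl, fun x hx => autFun_mem _ hx, h, fun x hx => ?_⟩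
    rw [tf_apply ι hx, autFun_apply _ hx, tf_coe, hηι]
  exact (mor_autFun_iff hKS).1 (mor_norm_sub hmor)

theorem no_essential_aux (hS : IsPGroup p S) (hF : F.IsSaturated p) (hp5 : 5 ≤ p)
    (hrank3 : ∀ E : Subgroup Ω, E ≤ S → IsElementaryAbelian p E → Nat.card E ≤ p ^ 2)
    (hnotE : ¬ (Nat.card S = p ^ 3 ∧ Monoid.exponent ↥S = p)) {E : Subgroup Ω} (hE : F.IsEssential p E)
    {P : Subgroup Ω} (hPdef : P = normalizerIn S E) {η : MulAut P} (hηF : η ∈ F.autGroup P)
    (hpe : Pearl p P (E.subgroupOf P) η) : False := by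
  have hpp := hp.out
  have hES := hE.1.1
  have hEP : E ≤ P := by rw [hPdef]; exact le_normalizerIn hES
  have hPS : P ≤ S := by rw [hPdef]; exact normalizerIn_le
  have hPS' : P ≠ S := by
    intro h
    apply hnotE
    have h1 : Nat.card S = p ^ 3 := by rw [← h]; exact hpe.card
    refine ⟨h1, ?_⟩
    have h2 : Monoid.exponent ↥S ∣ p := by
      apply Monoid.exponent_dvd_of_forall_pow_eq_one
      intro y
      have h3 : (y : Ω) ∈ P := by rw [h]; exact y.2
      have h4 := hpe.exp ⟨y, h3⟩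
      have h5 : ((y : Ω)) ^ p = 1 := congrArg Subtype.val h4
      exact Subtype.ext h5
    rcases (Nat.dvd_prime hpp).1 h2 with h3 | h3
    · exfalso
      have h4 : Nat.card S = 1 := by
        rw [Nat.card_eq_one_iff_unique]
        refine ⟨⟨fun a b => ?_⟩, ⟨1⟩⟩
        have ha := Monoid.pow_exponent_eq_one a
        have hb := Monoid.pow_exponent_eq_one b
        rw [h3, pow_one] at ha hb
        rw [ha, hb]
      rw [h1] at h4
      have := Nat.one_lt_pow (show 3 ≠ 0 by norm_num) hpp.one_lt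
      omega
    · exact h3
  obtain ⟨P', hPP', hP'n⟩ := exists_fullyNormalized (F := F) hPS
  obtain ⟨f, hf, himg⟩ := isConj_iff.1 hPP'
  have hPc : F.IsCentric P := centric_mono hE.1 hEP hPS
  have hP'c : F.IsCentric P' := centric_of_isConj hPc hPP'
  have hP'S := hP'n.1
  haveI : Finite P' := finite_of_le hP'S
  have hP'3 : Nat.card P' = p ^ 3 := by rw [← isConj_card hPP']; exact hpe.card
  obtain ⟨L, _, ι, hM⟩ := norm_model_exists hS hF hP'n hP'c
  have hM' := hM
  obtain ⟨hfin, hr, ⟨T, hT⟩, hC⟩ := hM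
  haveI := hfin
  have hKS : normalizerIn S P' ≤ S := normalizerIn_le
  have hP'K : P' ≤ normalizerIn S P' := le_normalizerIn hP'S
  have hNn : (normSys F P' hP'S).IsNormal P' := norm_normal hP'S
  have hfP' : ∀ y ∈ P, f y ∈ P' := fun y hy => by rw [← himg]; exact mem_img_of_mem hy
  let θ : P →* L :=
    { toFun := fun y => tf ι (f y)
      map_one' := by
        show tf ι (f 1) = 1
        rw [hf.one, tf_one]
      map_mul' := fun a b => by
        show tf ι (f (a * b)) = tf ι (f a) * tf ι (f b)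
        rw [hf.mul a.2 b.2, tf_mul (hP'K (hfP' _ a.2)) (hP'K (hfP' _ b.2))] }
  have hθ : ∀ y : P, θ y = tf ι (f y) := fun y => rfl
  have hθi : Function.Injective θ := by
    intro a b hab
    have h1 := tf_inj hr.1 (hP'K (hfP' _ a.2)) (hP'K (hfP' _ b.2)) hab
    exact Subtype.ext (hf.inj a.2 b.2 h1)
  have hθr : ∀ y ∈ P', tf ι y ∈ θ.range := by
    intro y hy
    rw [← himg] at hy
    obtain ⟨x, hx, rfl⟩ := hf.mem_img.1 hy
    exact ⟨⟨x, hx⟩, rfl⟩
  have hP'p : IsPGroup p P' := isPGroup_of_le hS hP'S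
  have hθpc : θ.range ≤ pCore p L := by
    rintro _ ⟨y, rfl⟩
    exact (mem_preimageAlong.1 (le_preimage_pCore hM' hP'p hNn (hfP' _ y.2))).2
  have hTeq : (T : Subgroup L) = pCore p L := by
    by_contra hTne
    obtain ⟨ηT, h, -, hpT⟩ := thmA hp5 T hTne hC (fun V hV hc he => rank_model hKS hr.1 hrank3 (hV.trans hT.le) hc he)
    have h1 := hpT.cardE
    rw [Nat.card_congr (Subgroup.subgroupOfEquivOfLe (pCore_le_sylow T)).toEquiv] at h1
    have h2 : Nat.card θ.range = p ^ 3 := by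
      rw [← hpe.card]; exact (Nat.card_congr (MonoidHom.ofInjective hθi).toEquiv).symm
    have h3 := Subgroup.card_le_of_le hθpc
    rw [h1, h2] at h3
    have h4 := (Nat.pow_le_pow_iff_right hpp.one_lt).1 h3
    omega
  have hMn : (T : Subgroup L).Normal := by rw [hTeq]; exact normal_pCore
  have hθn : θ.range.Normal := by
    refine ⟨?_⟩
    rintro _ ⟨y, rfl⟩ g
    obtain ⟨y', hy', hgy⟩ := model_normal hM' hNn g (hfP' _ y.2)
    rw [hθ, hgy]
    exact hθr y' hy'
  have hcP : ∀ m ∈ (T : Subgroup L), (∀ y : P, m * θ y = θ y * m) → m ∈ θ.range := by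
    intro m hm hmy
    rw [hT] at hm
    obtain ⟨s, rfl⟩ := hm
    have h1 : (s : Ω) ∈ centralizerIn S P' := by
      rw [mem_centralizerIn]
      refine ⟨hKS s.2, fun x hx => ?_⟩
      rw [← himg] at hx
      obtain ⟨y, hy, rfl⟩ := hf.mem_img.1 hx
      have h2 := hmy ⟨y, hy⟩
      rw [hθ] at h2
      apply tf_inj hr.1 (mul_mem s.2 (hP'K (hfP' _ hy))) (mul_mem (hP'K (hfP' _ hy)) s.2)
      rw [tf_mul s.2 (hP'K (hfP' _ hy)), tf_mul (hP'K (hfP' _ hy)) s.2, tf_coe]
      exact h2
    have h2 := centric_centralizer hP'c h1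
    have h3 := hθr s h2
    rwa [tf_coe] at h3
  obtain ⟨m, hmM, e, heE, hme⟩ : ∃ m ∈ (T : Subgroup L), ∃ e ∈ E.subgroupOf P, ∀ e' ∈ E.subgroupOf P, m * θ e * m⁻¹ ≠ θ e' := by
    by_contra hcon
    push Not at hcon
    have h1 : normalizerIn S P' ≤ normalizerIn S (img E f) := by
      have hcl : ∀ s ∈ normalizerIn S P', ∀ x ∈ img E f, s * x * s⁻¹ ∈ img E f := by
        intro s hs x hx
        obtain ⟨y, hy, rfl⟩ := (hf.mono hEP).mem_img.1 hx
        obtain ⟨e', he', h2⟩ := hcon (tf ι s) (by rw [hT]; exact tf_mem_range hs) ⟨y, hEP hy⟩ hy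
        rw [hθ, hθ] at h2
        have h3 : s * f y * s⁻¹ = f e' := by
          apply tf_inj hr.1 (mul_mem (mul_mem hs (hP'K (hfP' _ (hEP hy)))) (inv_mem hs)) (hP'K (hfP' _ e'.2))
          rw [tf_conj hs (hP'K (hfP' _ (hEP hy)))]
          exact h2
        rw [h3]
        exact mem_img_of_mem he'
      intro s hs
      rw [mem_normalizerIn]
      refine ⟨hKS hs, fun y => ⟨fun hy => hcl s hs y hy, fun hy => ?_⟩⟩
      have h2 := hcl s⁻¹ ((normalizerIn S P').inv_mem hs) _ hy
      have h3 : s⁻¹ * (s * y * s⁻¹) * s⁻¹⁻¹ = y := by group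
      rwa [h3] at h2
    have h2 := (fullyNormalized_iff.1 hE.2.1).2 f (hf.mono hEP)
    have hcN : Nat.card (normalizerIn S E) = p ^ 3 := by rw [← hPdef]; exact hpe.card
    haveI : Finite (normalizerIn S (img E f)) := finite_of_le normalizerIn_le
    have h3 := Subgroup.card_le_of_le h1
    have h4 : P' < S := by
      refine lt_of_le_of_ne hP'S fun he => hPS' ?_
      apply Subgroup.eq_of_le_of_card_ge hPS
      rw [← he, isConj_card hPP']
    have h5 := lt_normalizerIn hS h4
    haveI : Finite (normalizerIn S P') := finite_of_le normalizerIn_le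
    have h6 : Nat.card P' < Nat.card (normalizerIn S P') := by
      by_contra hge
      push Not at hge
      exact h5.ne (Subgroup.eq_of_le_of_card_ge h5.le hge)
    have h7 : Nat.card (normalizerIn S P') ≤ Nat.card (normalizerIn S (img E f)) := h3
    omega
  -- the element inducing η
  have hηmor : Mor F P (autFun η) := mor_autFun hPS hηF
  obtain ⟨g0, hg0, hg0f, hfg0, hg0img⟩ := hf.inverse
  rw [himg] at hg0 hfg0 hg0img
  have hg0P : ∀ x ∈ P', g0 x ∈ P := fun x hx => by rw [← hg0img]; exact mem_img_of_mem hx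
  have hcomp : Mor F P' (fun x => f (autFun η (g0 x))) :=
    (hg0.comp hηmor hg0P).comp hf (fun x hx => autFun_mem _ (hg0P x hx))
  have hcimg : img P' (fun x => f (autFun η (g0 x))) = P' := by
    apply Subgroup.eq_of_le_of_card_ge
    · rw [img_le_iff]
      exact fun x hx => hfP' _ (autFun_mem _ (hg0P x hx))
    · rw [hcomp.card_img]
  have hcn : Mor (normSys F P' hP'S) P' (fun x => f (autFun η (g0 x))) :=
    mor_normSys.2 ⟨hP'K, fun x hx => hP'K (hfP' _ (autFun_mem _ (hg0P x hx))), _, hcomp.mono (sup_le le_rfl le_rfl),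
      fun _ _ => rfl, hcimg⟩
  obtain ⟨-, -, h', hh'⟩ := (mor_realized hr).1 hcn
  refine lemmaF' hp5 hpe hMn T.2 hθi hθn (hθpc.trans hTeq.ge) hcP hmM heE hme (h := h') ?_
    (fun V hV hc he => rank_model hKS hr.1 hrank3 (hV.trans hT.le) hc he)
  intro y
  have h1 := hh' (f y) (hfP' _ y.2)
  have h2 : tf ι (f (autFun η (g0 (f y)))) = h' * tf ι (f y) * h'⁻¹ := h1
  rw [hg0f y y.2, autFun_coe] at h2
  rw [hθ, hθ]
  exact h2.symm

theorem no_essential (hS : IsPGroup p S) (hF : F.IsSaturated p) (hp5 : 5 ≤ p)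
    (hrank3 : ∀ E : Subgroup Ω, E ≤ S → IsElementaryAbelian p E → Nat.card E ≤ p ^ 2)
    (hnotE : ¬ (Nat.card S = p ^ 3 ∧ Monoid.exponent ↥S = p)) {E : Subgroup Ω} (hE : F.IsEssential p E) :
    False := by
  obtain ⟨η, hηF, hpe⟩ := exists_pearl hS hF hp5 hrank3 hE
  exact no_essential_aux hS hF hp5 hrank3 hnotE hE rfl hηF hpe

end Cfsg.Agent.H13.Rk2
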