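import Mathlib
import Cfsg.Agent.H28.Trf3
import Cfsg.Agent.H28.Trf2

/-!
# Thompson transfer for fusion systems
-/

set_option autoImplicit false
set_option linter.all false
open Cfsg Cfsg.FusionSystem

universe u

namespace Cfsg.Agent.H13

open Cfsg.Agent.H28

variable {Ω : Type u} [Group Ω] {S : Subgroup Ω} {F : FusionSystem S}
variable {X : Type u} [MulAction (S × S) X]

theorem coc_fixed (hfree : ∀ (t : S) (ω : X), ((1, t) : S × S) • ω = ω → t = 1) {A : Type*}
    [CommGroup A] (l : S →* A) (i s : S) (ω : X)
    (h : ((i, 1) : S × S) • ω = ((1, s) : S × S) • ω) :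
    coc S l (leftHom S X i : Equiv.Perm X) ω = (l s)⁻¹ := by
  unfold coc
  rw [leftHom_apply, h, kap_smul hfree, map_mul, map_inv]
  rw [mul_comm (l (kap S ω)), mul_inv_cancel_right]

theorem thompson_trf [Finite X] [Finite S] (hS : IsPGroup 2 S)
    (hX : ∀ x : X, memF F (MulAction.stabilizer (S × S) x))
    (hfree : ∀ (t : S) (ω : X), ((1, t) : S × S) • ω = ω → t = 1)
    (hodd : ¬ 2 ∣ Nat.card (RI S X)) {A : Type*} [CommGroup A] (hA : ∀ a : A, a ^ 2 = 1)
    (l : S →* A) (ε : A) (i : S) (hi2 : i * i = 1)
    (h : ∀ t : S, F.IsConjElt (i : Ω) t →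
      Nat.card (Subgroup.centralizer {(i : S)}) ≤ Nat.card (Subgroup.centralizer {(t : S)}) →
      l t = ε) : trf hfree l i = ε := by
  classical
  letI : Fintype (RI S X) := Fintype.ofFinite _
  letI actS := riAct S X
  have hact : ∀ (s : S) (ω : X), s • (Quotient.mk (rSet S X) ω : RI S X) =
      Quotient.mk (rSet S X) (((s, 1) : S × S) • ω) := fun _ _ => rfl
  set H : Subgroup S := Subgroup.centralizer {i} with hH
  have hHp : IsPGroup 2 H := hS.to_subgroup H
  have hA' : ∀ a : A, a * a = 1 := fun a => by rw [← pow_two]; exact hA a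
  have hAinv : ∀ a : A, a⁻¹ = a := fun a => inv_eq_of_mul_eq_one_left (hA' a)
  set c : RI S X → A := fun y => coc S l (leftHom S X i : Equiv.Perm X) (Quotient.out y) with hc
  have hcmk : ∀ ω : X, c (Quotient.mk (rSet S X) ω) = coc S l (leftHom S X i : Equiv.Perm X) ω := by
    intro ω
    have h1 := kap_spec (S := S) ω
    show coc S l _ (Quotient.out (Quotient.mk (rSet S X) ω)) = _
    rw [← h1, coc_inv hfree]
  -- fixed points
  have hfixed : ∀ ω : X, i • (Quotient.mk (rSet S X) ω : RI S X) = Quotient.mk (rSet S X) ω →
      ∃ s : S, ((i, 1) : S × S) • ω = ((1, s) : S × S) • ω := by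
    intro ω hω
    rw [hact] at hω
    obtain ⟨t, ht⟩ := Quotient.exact hω
    refine ⟨t⁻¹, ?_⟩
    conv_rhs => rw [← ht, ← mul_smul]
    have : ((1, t⁻¹) : S × S) * ((1, t) : S × S) = 1 := Prod.ext (one_mul _) (inv_mul_cancel _)
    rw [this, one_smul]
  have hii : ∀ y : RI S X, i • i • y = y := by
    intro y
    rw [← mul_smul, hi2, one_smul]
  -- product over `i`-fixed points
  set γ : RI S X → A := fun y => if i • y = y then c y * ε else 1 with hγ
  have step1 : ∏ y, γ y = 1 := by
    letI actH : MulAction H (RI S X) := MulAction.compHom _ H.subtype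
    have hactH : ∀ (a : H) (y : RI S X), a • y = (a : S) • y := fun _ _ => rfl
    refine prod_orbits (p := 2) hHp hA γ ?_ ?_
    · intro a y
      rw [hactH]
      have ha : (a : S) * i = i * a := (Subgroup.mem_centralizer_singleton_iff.1 a.2)
      have hfi : i • ((a : S) • y) = (a : S) • y ↔ i • y = y := by
        rw [← mul_smul, ← ha, mul_smul]
        constructor
        · intro h; exact MulAction.injective _ h
        · intro h; rw [h]
      simp only [hγ]
      by_cases hy : i • y = y
      · rw [if_pos hy, if_pos (hfi.2 hy)]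
        congr 1
        obtain ⟨ω, rfl⟩ := Quotient.exists_rep y
        obtain ⟨s, hs⟩ := hfixed ω hy
        rw [hact]
        rw [hcmk, hcmk, coc_fixed hfree l i s ω hs, coc_fixed hfree l i s _ ?_]
        rw [← mul_smul, ← mul_smul]
        have e1 : ((i, 1) : S × S) * (((a : S), 1) : S × S) = (((a : S), 1) : S × S) * ((i, 1) : S × S) := by
          apply Prod.ext
          · exact ha.symm
          · rfl
        have e2 : ((1, s) : S × S) * (((a : S), 1) : S × S) = (((a : S), 1) : S × S) * ((1, s) : S × S) := by
          apply Prod.ext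
          · show 1 * (a : S) = a * 1
            rw [mul_one, one_mul]
          · show s * 1 = 1 * s
            rw [mul_one, one_mul]
        rw [e1, e2, mul_smul, mul_smul, hs]
      · rw [if_neg hy, if_neg (fun h => hy (hfi.1 h))]
    · intro y hy
      simp only [hγ]
      have hiH : i ∈ H := Subgroup.mem_centralizer_singleton_iff.2 rfl
      have hiy : i • y = y := hy ⟨i, hiH⟩
      rw [if_pos hiy]
      obtain ⟨ω, rfl⟩ := Quotient.exists_rep y
      have hall : ∀ a : H, ∃ t : S, (((a : S), t) : S × S) • ω = ω := by
        intro a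
        have h1 : Quotient.mk (rSet S X) ((((a : S), 1) : S × S) • ω) = Quotient.mk (rSet S X) ω := hy a
        obtain ⟨t, ht⟩ := Quotient.exact h1
        refine ⟨t, ?_⟩
        rw [← mul_smul] at ht
        have e1 : ((1, t) : S × S) * (((a : S), 1) : S × S) = (((a : S), t) : S × S) := by
          apply Prod.ext
          · exact one_mul _
          · exact mul_one _
        rwa [e1] at ht
      obtain ⟨t, ht⟩ := hall ⟨i, hiH⟩
      have ht' : ((i, t) : S × S) • ω = ω := ht
      have hcω : coc S l (leftHom S X i : Equiv.Perm X) ω = l t := by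
        rw [coc_fixed hfree l i t⁻¹ ω, map_inv, inv_inv]
        have e1 : ((i, 1) : S × S) = ((1, t⁻¹) : S × S) * ((i, t) : S × S) := by
          apply Prod.ext
          · exact (one_mul _).symm
          · exact (inv_mul_cancel _).symm
        rw [e1, mul_smul, ht']
      rw [hcmk, hcω, h t ?_ ?_]
      · exact hA' ε
      · obtain ⟨P', f', hf', htP, hft⟩ := stab_fusion hX ht'
        obtain ⟨g', hg', hgf, -, -⟩ := hf'.inverse
        rw [isConjElt_iff]
        refine ⟨g', hg'.mono ?_, ?_⟩
        · rw [Subgroup.zpowers_le, ← hft]; exact mem_img_of_mem htP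
        · rw [← hft]; exact hgf _ htP
      · -- centralizer sizes
        obtain ⟨Q, q, hq, hK⟩ := hX ω
        choose φ hφ using hall
        have hst : ∀ a : H, ((φ a : S) : Ω) ∈ Q ∧ ((a : S) : Ω) = q (φ a) := by
          intro a
          have h1 : (((a : S), φ a) : S × S) ∈ MulAction.stabilizer (S × S) ω := hφ a
          exact (hK _).1 h1
        have htQ : (t : Ω) ∈ Q ∧ (i : Ω) = q t := by
          have h1 : ((i, t) : S × S) ∈ MulAction.stabilizer (S × S) ω := ht'
          exact (hK _).1 h1
        refine Nat.card_le_card_of_injective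
          (fun a : H => (⟨φ a, ?_⟩ : Subgroup.centralizer {t})) ?_
        · rw [Subgroup.mem_centralizer_singleton_iff]
          apply Subtype.ext
          show (φ a : Ω) * t = t * φ a
          apply hq.inj (Q.mul_mem (hst a).1 htQ.1) (Q.mul_mem htQ.1 (hst a).1)
          rw [hq.mul (hst a).1 htQ.1, hq.mul htQ.1 (hst a).1, ← (hst a).2, ← htQ.2]
          exact congrArg Subtype.val (Subgroup.mem_centralizer_singleton_iff.1 a.2)
        · intro a b hab
          have h1 : φ a = φ b := congrArg Subtype.val hab
          apply Subtype.ext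
          apply Subtype.ext
          rw [(hst a).2, (hst b).2, h1]
  have step2 : ∏ y, (c y * γ y * ε) = 1 := by
    refine Finset.prod_involution (fun y _ => i • y) ?_ ?_ ?_ ?_
    · intro y _
      by_cases hy : i • y = y
      · rw [hy]
        exact hA' _
      · have hy' : ¬ i • i • y = i • y := by
          rw [hii]; exact fun h => hy h.symm
        simp only [hγ]
        rw [if_neg hy, if_neg hy', mul_one, mul_one]
        obtain ⟨ω, rfl⟩ := Quotient.exists_rep y
        rw [hact, hcmk, hcmk]
        have h1 : ((i, 1) : S × S) • ((i, 1) : S × S) • ω = ω := by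
          rw [← mul_smul]
          have : ((i, 1) : S × S) * ((i, 1) : S × S) = 1 := Prod.ext hi2 (one_mul _)
          rw [this, one_smul]
        unfold coc
        rw [leftHom_apply, leftHom_apply, h1]
        generalize l (kap S (((i, 1) : S × S) • ω)) = A1
        generalize l (kap S ω) = A2
        rw [hAinv, hAinv]
        calc A1 * A2 * ε * (A2 * A1 * ε) = (A1 * A1) * (A2 * A2) * (ε * ε) := by
              simp only [mul_comm, mul_left_comm, mul_assoc]
          _ = 1 := by rw [hA' A1, hA' A2, hA' ε, mul_one, mul_one]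
    · intro y _ hne hy
      apply hne
      simp only [hγ]
      rw [if_pos hy]
      calc c y * (c y * ε) * ε = (c y * c y) * (ε * ε) := by
            simp only [mul_comm, mul_left_comm, mul_assoc]
        _ = 1 := by rw [hA', hA', mul_one]
    · intro y _; exact Finset.mem_univ _
    · intro y _; exact hii y
  have step3 : trf hfree l i = ∏ y, c y := by
    unfold trf
    rw [MonoidHom.comp_apply, trfHat_apply]
  rw [Finset.prod_mul_distrib, Finset.prod_mul_distrib, step1, mul_one, ← step3, Finset.prod_const,
    Finset.card_univ, ← Nat.card_eq_fintype_card] at step2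
  have hεn : ε ^ Nat.card (RI S X) = ε := by
    have : Nat.card (RI S X) % 2 = 1 := by omega
    rw [← Nat.div_add_mod (Nat.card (RI S X)) 2, this, pow_add, pow_mul, hA, one_pow, one_mul, pow_one]
  rw [hεn] at step2
  rw [← hAinv ε]
  exact eq_inv_of_mul_eq_one_left step2

end Cfsg.Agent.H13
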